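import Mathlib

/-!
Listing the permutations of eight points commuting with given ones.
-/

set_option autoImplicit false

namespace Cfsg.Agent.Invol.S8Three

abbrev S8 := Equiv.Perm (Fin 8)

/-- Partial images `l` of `0, …, l.length - 1` compatible with commuting with every member of `hs`. -/
def okPre (hs : List S8) (l : List (Fin 8)) : Bool :=
  decide l.Nodup && hs.all fun h =>
    (List.range l.length).all fun i =>
      if hi : i < 8 then
        match l[i]?, l[((h ⟨i, hi⟩ : Fin 8) : ℕ)]? with
        | some a, some b => decide (h a = b)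
        | _, _ => true
      else true

/-- The compatible prefixes of length `k`. -/
def cands (hs : List S8) : ℕ → List (List (Fin 8))
  | 0 => [[]]
  | k + 1 => (cands hs k).flatMap fun l =>
      ((List.finRange 8).map fun x => l ++ [x]).filter (okPre hs)

/-- The list of images. -/
def imgs (σ : S8) : List (Fin 8) := List.ofFn σ

/-- The images up to `k`. -/
def pre (σ : S8) (k : ℕ) : List (Fin 8) := (imgs σ).take k

theorem okPre_pre {hs : List S8} {σ : S8} (h : ∀ g ∈ hs, g * σ = σ * g) (k : ℕ) :
    okPre hs (pre σ k) = true := by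
  have hn : (imgs σ).Nodup := List.nodup_ofFn.mpr σ.injective
  simp only [okPre, Bool.and_eq_true, decide_eq_true_eq, List.all_eq_true]
  refine ⟨hn.sublist (List.take_sublist k _), fun g hg i hi => ?_⟩
  simp only [List.mem_range, pre, List.length_take, imgs, List.length_ofFn] at hi
  have hi8 : i < 8 := by omega
  rw [dif_pos hi8]
  split
  · rename_i a b ha hb
    simp only [pre, List.getElem?_take] at ha hb
    split_ifs at ha hb
    simp only [imgs, List.getElem?_ofFn] at ha hb
    simp only [hi8, Fin.is_lt, Fin.eta, dif_pos, Option.some.injEq] at ha hb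
    subst ha hb
    rw [decide_eq_true_eq]
    exact congrArg (fun p : S8 => p ⟨i, hi8⟩) (h g hg)
  · rfl

theorem pre_succ (σ : S8) {k : ℕ} (hk : k < 8) : pre σ (k + 1) = pre σ k ++ [σ ⟨k, hk⟩] := by
  rw [pre, pre, List.take_succ, imgs, List.getElem?_ofFn, dif_pos hk]
  rfl

theorem pre_mem {hs : List S8} {σ : S8} (h : ∀ g ∈ hs, g * σ = σ * g) :
    ∀ k, k ≤ 8 → pre σ k ∈ cands hs k := by
  intro k
  induction k with
  | zero => intro _; simp [pre, cands]
  | succ k ih =>
    intro hk
    simp only [cands, List.mem_flatMap]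
    refine ⟨pre σ k, ih (by omega), List.mem_filter.mpr ⟨?_, okPre_pre h _⟩⟩
    rw [pre_succ σ (show k < 8 by omega)]
    exact List.mem_map.mpr ⟨_, List.mem_finRange _, rfl⟩

theorem imgs_mem {hs : List S8} {σ : S8} (h : ∀ g ∈ hs, g * σ = σ * g) : imgs σ ∈ cands hs 8 := by
  have e : pre σ 8 = imgs σ := List.take_of_length_le (by simp [imgs])
  exact e ▸ pre_mem h 8 le_rfl

/-- The function of a list of images. -/
def appL (l : List (Fin 8)) (x : Fin 8) : Fin 8 := l.getD x.val 0

theorem appL_imgs (σ : S8) : appL (imgs σ) = σ := by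
  funext x
  fin_cases x <;> rfl

/-- Composition of lists of images. -/
def mulL (l m : List (Fin 8)) : List (Fin 8) := m.map (appL l)

theorem mulL_imgs (σ τ : S8) : mulL (imgs σ) (imgs τ) = imgs (σ * τ) := by
  rw [mulL, appL_imgs, imgs, imgs, List.map_ofFn]
  rfl

/-- The identity. -/
def oneL : List (Fin 8) := List.finRange 8

theorem imgs_one : imgs 1 = oneL := List.ofFn_id 8

theorem imgs_inj {σ τ : S8} (h : imgs σ = imgs τ) : σ = τ :=
  Equiv.ext (congrFun (List.ofFn_injective h))

/-- Powers. -/
def powL (l : List (Fin 8)) : ℕ → List (Fin 8)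
  | 0 => oneL
  | n + 1 => mulL (powL l n) l

theorem powL_imgs (σ : S8) : ∀ n, powL (imgs σ) n = imgs (σ ^ n)
  | 0 => by rw [powL, pow_zero, imgs_one]
  | n + 1 => by rw [powL, powL_imgs σ n, mulL_imgs, pow_succ]

end Cfsg.Agent.Invol.S8Three
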