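import Cfsg.Agent.Lib.Invol.S8Three.WreathT
import Cfsg.Agent.Lib.Grp.Components
import Cfsg.Agent.S1325

/-! The wreath product is the whole group. -/

set_option autoImplicit false
set_option maxRecDepth 50000
set_option synthInstance.maxSize 1000
set_option linter.unusedSectionVars false
set_option linter.style.haveILetI false

namespace Cfsg.Agent.Invol.S8Three

universe u

open Equiv

namespace Wr

variable {G : Type u} [Group G] [Finite G] {F : Frame G} (W : Wr F)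
include W

theorem par_s : Par ((q5, q5) : P55) := rfl

theorem phi_s : W.phi (q5, q5) = W.t * F.a := by
  rw [← W.phi_t, ← W.phi_a, ← W.phi_mul W.par_t]; exact congrArg W.phi (Prod.ext (by simp) (by simp))

theorem t_facts : W.t * W.t = 1 ∧ W.t ≠ 1 ∧ F.a * F.a = 1 ∧ W.t * F.a = F.a * W.t ∧ F.a ≠ W.t := by
  obtain ⟨qq, q1, -⟩ := q5_facts
  refine ⟨?_, ?_, ?_, ?_, ?_⟩
  · rw [← W.phi_t, ← W.phi_mul W.par_t, show ((q5, 1) : P55) * (q5, 1) = 1 from Prod.ext qq (by simp), W.phi_one]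
  · exact fun e => q1 (congrArg Prod.fst (W.phi_inj_one W.par_t (W.phi_t.trans e)))
  · rw [← W.phi_a, ← W.phi_mul W.par_a, show ((1, q5) : P55) * (1, q5) = 1 from Prod.ext (by simp) qq, W.phi_one]
  · rw [← W.phi_a, ← W.phi_t, W.phi_comm W.par_t W.par_a]; exact Prod.ext (by simp) (by simp)
  · intro e
    rw [← W.phi_a, ← W.phi_t] at e
    exact q1 (congrArg Prod.snd (W.phi_inj W.par_a W.par_t e))

theorem cent_conj {p k : P55} (hp : Par p) (hk : Par k) (hgood : ∀ g : G, g * W.phi p = W.phi p * g → g ∈ W.G0) {g : G}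
    (hg : g * W.phi (k * p * k⁻¹) = W.phi (k * p * k⁻¹) * g) : g ∈ W.G0 := by
  rw [← W.phi_conj hk hp] at hg
  have h1 := (commute_conj (g := (W.phi k)⁻¹) (show Commute g _ from hg)).eq
  rw [show (W.phi k)⁻¹ * (W.phi k * W.phi p * (W.phi k)⁻¹) * (W.phi k)⁻¹⁻¹ = W.phi p by group] at h1
  have h2 := mul_mem (mul_mem (W.phi_mem hk) (hgood _ h1)) (inv_mem (W.phi_mem hk))
  rwa [show W.phi k * ((W.phi k)⁻¹ * g * (W.phi k)⁻¹⁻¹) * (W.phi k)⁻¹ = g by group] at h2

theorem cent_a {g : G} (hg : g * F.a = F.a * g) : g ∈ W.G0 := by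
  have h1 := F.n_conj_comm hg
  rw [← W.n_t, F.nn] at h1
  have := mul_mem (mul_mem W.n_mem (W.cent_t h1)) W.n_mem
  rwa [F.nn] at this

theorem conj_y {w : G} (hw : w * (F.z * F.z') = F.z * F.z' * w) (h : G) : h * w * h⁻¹ ≠ W.t := by
  intro he
  have hd : Equiv.Perm.sign d5 = 1 := by decide
  set y := h * (F.z * F.z') * h⁻¹ with hy
  have hyt : Commute y W.t := he ▸ (commute_conj (g := h) (show Commute w _ from hw)).symm
  obtain ⟨p, hp, hpe, hp1⟩ := W.G0_comm_t (W.cent_t hyt.eq) hyt.eq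
  obtain ⟨hz, -, hz', -⟩ := F.z_cube
  have hy3 : y ^ 3 = 1 := by
    rw [hy, conj_pow, (show Commute F.z F.z' from F.z_comm).mul_pow, hz, hz', one_mul, mul_one, mul_inv_cancel]
  have hp3 : p ^ 3 = 1 := W.phi_inj_one (by
    show Equiv.Perm.sign (p.1 ^ 3) = Equiv.Perm.sign (p.2 ^ 3)
    rw [map_pow, map_pow, hp]) (by rw [← W.phi_pow hp, hpe, hy3])
  have h1 : p.1 = 1 := by
    have h3 : p.1 ^ 3 = 1 := congrArg Prod.fst hp3
    have h4 := (cent_q _ hp1).1
    rwa [show (4 : ℕ) = 3 + 1 from rfl, pow_add, h3, one_mul, pow_one] at h4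
  have hc : Commute (W.phi (f5, 1)) y := by
    rw [← hpe]
    exact (W.phi_comm (W.par_fst f5_sign) hp).2 (Prod.ext (by simp [h1]) (by simp))
  have h2 := commute_conj (g := h⁻¹) hc
  rw [inv_inv, show h⁻¹ * y * h = F.z * F.z' by rw [hy]; group] at h2
  have h5 := F.no_five_y (g := h⁻¹ * W.phi (f5, 1) * h) (by
    rw [show h⁻¹ * W.phi (f5, 1) * h = h⁻¹ * W.phi (f5, 1) * h⁻¹⁻¹ by group, conj_pow, W.phi_pow (W.par_fst f5_sign),
      show ((f5, 1) : P55) ^ 5 = 1 from Prod.ext f5_facts.1 (one_pow 5), W.phi_one, mul_one, mul_inv_cancel]) h2.eq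
  rw [show h⁻¹ * W.phi (f5, 1) * h = h⁻¹ * W.phi (f5, 1) * h⁻¹⁻¹ by group] at h5
  exact f5_facts.2 (congrArg Prod.fst (W.phi_inj_one (W.par_fst f5_sign) (conj_one h5)))

theorem n_comm_y : F.n * (F.z * F.z') = F.z * F.z' * F.n ∧ (F.u * F.n) * (F.z * F.z') = F.z * F.z' * (F.u * F.n) := by
  have h1 : F.n * (F.z * F.z') = F.z * F.z' * F.n := by
    have e1 : F.n * F.z * F.n = F.z' := F.n_z
    have e2 : F.n * F.z' * F.n = F.z := F.conj_n_z'
    have : F.n * (F.z * F.z') * F.n = F.z * F.z' := by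
      rw [show F.n * (F.z * F.z') * F.n = F.n * F.z * (F.n * F.n) * F.z' * F.n by rw [F.n_sq]; group,
        show F.n * F.z * (F.n * F.n) * F.z' * F.n = (F.n * F.z * F.n) * (F.n * F.z' * F.n) by group, e1, e2, F.z_comm]
    nth_rw 2 [← this]
    rw [mul_assoc, F.n_sq, mul_one]
  refine ⟨h1, ?_⟩
  obtain ⟨-, -, c1, c2⟩ := F.u_facts
  exact (((show Commute F.u F.z from c1).mul_right c2).mul_left h1).eq

/-- Outer involutions are not conjugate to `t`. -/
theorem not_outer_t {p : P55} (hp : Par p) (h2 : W.phi p * F.n * (W.phi p * F.n) = 1) (h : G) :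
    h * (W.phi p * F.n) * h⁻¹ ≠ W.t := by
  have hmv : ∀ q : P55, Par q → F.n * W.phi q = W.phi q.swap * F.n := fun q hq => by
    rw [← W.n_phi hq, mul_assoc, F.n_sq, mul_one]
  have hinv : p.2 = p.1⁻¹ := by
    rw [show W.phi p * F.n * (W.phi p * F.n) = W.phi p * (F.n * W.phi p * F.n) by group, W.n_phi hp,
      ← W.phi_mul hp] at h2
    exact eq_inv_of_mul_eq_one_right (congrArg Prod.fst (W.phi_inj_one (hp.mul hp.swap) h2))
  obtain ⟨k, hk, w, hw, he⟩ : ∃ k, Par k ∧ ∃ w, w * (F.z * F.z') = F.z * F.z' * w ∧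
      W.phi k * w * (W.phi k)⁻¹ = W.phi p * F.n := by
    rcases Int.units_eq_one_or (Equiv.Perm.sign p.1) with hs | hs
    · refine ⟨(p.1, 1), W.par_fst hs, F.n, W.n_comm_y.1, ?_⟩
      rw [← W.phi_inv (W.par_fst hs), mul_assoc, hmv _ (W.par_fst hs).inv, ← mul_assoc, ← W.phi_mul (W.par_fst hs)]
      refine congrArg (· * F.n) (congrArg W.phi (Prod.ext ?_ ?_))
      · show p.1 * (1 : P5)⁻¹ = p.1
        rw [inv_one, mul_one]
      · show 1 * p.1⁻¹ = p.2
        rw [one_mul, hinv]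
    · have hkp : Par ((p.1 * t5, 1) : P55) := W.par_fst (by rw [map_mul, hs, t5_sign.1]; decide)
      refine ⟨(p.1 * t5, 1), hkp, F.u * F.n, W.n_comm_y.2, ?_⟩
      rw [← W.phi_inv hkp, ← W.phi_u, ← mul_assoc, mul_assoc _ F.n, hmv _ hkp.inv, ← mul_assoc, ← W.phi_mul hkp,
        ← W.phi_mul (hkp.mul W.par_u)]
      refine congrArg (· * F.n) (congrArg W.phi (Prod.ext ?_ ?_))
      · show p.1 * t5 * t5 * (1 : P5)⁻¹ = p.1
        rw [inv_one, mul_one, mul_assoc, t5_sign.2, mul_one]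
      · show 1 * t5 * (p.1 * t5)⁻¹ = p.2
        rw [one_mul, mul_inv_rev, ← mul_assoc, mul_inv_cancel, one_mul, hinv]
  intro hh
  refine W.conj_y hw (h * W.phi k) ?_
  rw [← hh, ← he]; group

theorem cent_s {g : G} (hg : g * W.phi (q5, q5) = W.phi (q5, q5) * g) : g ∈ W.G0 := by
  obtain ⟨qq, q1, rr, r1, rq, qs, rs, tq, rqc, -, -, -, -, kk, hks, hk⟩ := q5_facts
  obtain ⟨htt, ht1, haa, hta, hat⟩ := W.t_facts
  set s := W.phi (q5, q5) with hs
  set C := Subgroup.centralizer ({s} : Set G) with hC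
  have hmem : ∀ {x : G}, x ∈ C ↔ x * s = s * x := Subgroup.mem_centralizer_singleton_iff
  have hts : W.t * s = F.a := by rw [hs, W.phi_s, ← mul_assoc, htt, one_mul]
  have htC : W.t ∈ C := hmem.2 (by rw [hs, W.phi_s, ← mul_assoc, htt, one_mul, mul_assoc, ← hta, ← mul_assoc, htt, one_mul])
  have hss : s * s = 1 := by
    rw [hs, W.phi_s, mul_assoc, ← mul_assoc F.a, ← hta, mul_assoc W.t F.a, haa, mul_one, htt]
  have hs1 : s ≠ 1 := fun e => hat (by rw [← hts, e, mul_one])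
  have hnorm : ∀ x : G, x ∈ C → (x * W.t = W.t * x ∨ x * W.t * x⁻¹ = F.a) → x ∈ W.G0 := by
    intro x _ hcase
    rcases hcase with h | h
    · exact W.cent_t h
    · have hnt : F.n * F.a * F.n = W.t := by rw [← W.n_t, F.nn]
      have h1 : (F.n * x) * W.t = W.t * (F.n * x) := mul_inv_eq_iff_eq_mul.1 (by
        rw [mul_inv_rev, F.n_inv, show F.n * x * W.t * (x⁻¹ * F.n) = F.n * (x * W.t * x⁻¹) * F.n by group, h, hnt])
      have := mul_mem W.n_mem (W.cent_t h1)
      rwa [← mul_assoc, F.n_sq, one_mul] at this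
  -- the coordinates commuting with `s`
  have hsG : ∀ x : G, x ∈ W.G0 → x ∈ C → ∃ p, Par p ∧ p.1 * q5 = q5 * p.1 ∧ p.2 * q5 = q5 * p.2 ∧
      (W.phi p = x ∨ W.phi p * F.n = x) := by
    intro x hx hxC
    obtain ⟨p, hp, e⟩ := W.decomp hx
    have hns : F.n * s = s * F.n := by
      have h := W.n_phi W.par_s
      rw [show ((q5, q5) : P55).swap = (q5, q5) from rfl, ← hs] at h
      nth_rw 2 [← h]
      rw [mul_assoc, F.n_sq, mul_one]
    have hps : W.phi p * s = s * W.phi p := by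
      rcases e with e | e
      · rw [e]; exact hmem.1 hxC
      · rw [show W.phi p = x * F.n by rw [← e, mul_assoc, F.n_sq, mul_one]]
        exact ((show Commute x s from hmem.1 hxC).mul_left hns).eq
    rw [hs, W.phi_comm hp W.par_s] at hps
    exact ⟨p, hp, congrArg Prod.fst hps, congrArg Prod.snd hps, e⟩
  have hodd1 : ∀ x : G, x ∈ W.G0 → x ∈ C → Odd (orderOf x) → x = 1 := by
    intro x hx hxC ho
    obtain ⟨p, hp, h1, h2, e⟩ := hsG x hx hxC
    have h8 : x ^ 8 = 1 := by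
      rcases e with e | e
      · have : p ^ 4 = 1 := Prod.ext (cent_q _ h1).1 (cent_q _ h2).1
        rw [← e, show (8 : ℕ) = 4 * 2 from rfl, pow_mul, W.phi_pow hp, this, W.phi_one, one_pow]
      · have hq := hp.mul hp.swap
        have hx2 : x ^ 2 = W.phi (p * p.swap) := by
          rw [pow_two, ← e, show W.phi p * F.n * (W.phi p * F.n) = W.phi p * (F.n * W.phi p * F.n) by group, W.n_phi hp,
            ← W.phi_mul hp]
        have : (p * p.swap) ^ 4 = 1 := Prod.ext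
          (cent_q _ (show p.1 * p.2 * q5 = q5 * (p.1 * p.2) from
            ((show Commute p.1 q5 from h1).mul_left h2).eq)).1
          (cent_q _ (show p.2 * p.1 * q5 = q5 * (p.2 * p.1) from
            ((show Commute p.2 q5 from h2).mul_left h1).eq)).1
        rw [show (8 : ℕ) = 2 * 4 from rfl, pow_mul, hx2, W.phi_pow hq, this, W.phi_one]
    exact orderOf_eq_one_iff.1 (Nat.eq_one_of_dvd_coprimes
      (show Nat.Coprime 8 (orderOf x) from (Nat.coprime_two_left.2 ho).pow_left 3) (orderOf_dvd_of_pow_eq_one h8) dvd_rfl)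
  have hiso : ∀ w ∈ C, (W.t * (w * W.t * w⁻¹) * W.t = w * W.t * w⁻¹ ∨
      W.t * (w * W.t * w⁻¹) * W.t = w * W.t * w⁻¹ * s) → w * W.t * w⁻¹ = W.t ∨ w * W.t * w⁻¹ = W.t * s := by
    intro w hw hcase
    set x := w * W.t * w⁻¹ with hx
    have hxC : x ∈ C := mul_mem (mul_mem hw htC) (inv_mem hw)
    have hxx : x * x = 1 := by rw [hx, show w * W.t * w⁻¹ * (w * W.t * w⁻¹) = w * (W.t * W.t) * w⁻¹ by group, htt]; group
    have hxi : x⁻¹ = x := inv_eq_of_mul_eq_one_right hxx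
    have hxG : x ∈ W.G0 := by
      refine hnorm x hxC ?_
      rcases hcase with h | h
      · left
        calc x * W.t = W.t * x * W.t * W.t := by rw [h]
          _ = W.t * x := by rw [mul_assoc, htt, mul_one]
      · right
        rw [hxi, ← hts]
        calc x * W.t * x = W.t * (W.t * x * W.t) * x := by
              rw [show W.t * (W.t * x * W.t) * x = (W.t * W.t) * x * W.t * x by group, htt, one_mul]
          _ = W.t * s := by
              rw [h, mul_assoc W.t (x * s), mul_assoc x s, ← hmem.1 hxC, ← mul_assoc x x, hxx, one_mul]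
    obtain ⟨p, hp, h1, h2, e | e⟩ := hsG x hxG hxC
    · have hpp : p * p = 1 := W.phi_inj_one (hp.mul hp) (by rw [W.phi_mul hp, e, hxx])
      have hsign : Equiv.Perm.sign p.1 = 1 := by
        by_contra hodd
        obtain ⟨k1, hk1, f1⟩ := conj_t5 _ hodd (congrArg Prod.fst hpp)
        obtain ⟨k2, hk2, f2⟩ := conj_t5 _ (fun h => hodd (hp.trans h)) (congrArg Prod.snd hpp)
        refine W.not_u_t (w⁻¹ * W.phi (k1, k2)) ?_
        have e' : W.phi (k1, k2) * F.u * (W.phi (k1, k2))⁻¹ = x := by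
          rw [← W.phi_u, W.phi_conj (par_even hk1 hk2) W.par_u, ← e]
          exact congrArg W.phi (Prod.ext f1 f2)
        rw [show w⁻¹ * W.phi (k1, k2) * F.u * (w⁻¹ * W.phi (k1, k2))⁻¹ =
          w⁻¹ * (W.phi (k1, k2) * F.u * (W.phi (k1, k2))⁻¹) * w by group, e', hx]
        group
      have double : ∀ (q : P55) (h : G), q.1 ≠ 1 → q.2 ≠ 1 → Equiv.Perm.sign q.1 = 1 → Equiv.Perm.sign q.2 = 1 →
          q * q = 1 → h * W.phi q * h⁻¹ ≠ W.t := by
        intro q h q1' q2' s1 s2 hqq hh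
        obtain ⟨k1, hk1, f1⟩ := conj_q5 q.1 s1 (congrArg Prod.fst hqq) q1'
        obtain ⟨k2, hk2, f2⟩ := conj_q5 q.2 s2 (congrArg Prod.snd hqq) q2'
        refine W.not_s_t (h * W.phi (k1, k2)) ?_
        rw [show q = (k1, k2) * (q5, q5) * (k1, k2)⁻¹ from Prod.ext f1.symm f2.symm,
          ← W.phi_conj (par_even hk1 hk2) W.par_s] at hh
        rw [← hh]; group
      have hsign2 : Equiv.Perm.sign p.2 = 1 := hp.symm.trans hsign
      by_cases hp1 : p.1 = 1
      · by_cases hp2 : p.2 = 1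
        · exfalso
          refine ht1 (conj_one (g := w) ?_)
          rw [← hx, ← e, show p = 1 from Prod.ext hp1 hp2, W.phi_one]
        · right
          by_cases hq2 : p.2 = q5
          · rw [hts, ← e, show p = (1, q5) from Prod.ext hp1 hq2, W.phi_a]
          · exfalso
            refine double (p * (q5, q5)) (F.n * w⁻¹) (by simpa [hp1] using q1) ?_ (by simp [hsign, qs]) (by simp [hsign2, qs]) ?_ ?_
            · show p.2 * q5 ≠ 1
              intro h
              exact hq2 (mul_right_cancel (h.trans qq.symm))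
            · refine Prod.ext ?_ ?_
              · show p.1 * q5 * (p.1 * q5) = 1
                rw [show p.1 * q5 * (p.1 * q5) = p.1 * (q5 * p.1) * q5 by group, ← h1, show p.1 * (p.1 * q5) * q5 = (p.1 * p.1) * (q5 * q5) by group, qq,
                  show p.1 * p.1 = 1 from congrArg Prod.fst hpp, one_mul]
              · show p.2 * q5 * (p.2 * q5) = 1
                rw [show p.2 * q5 * (p.2 * q5) = p.2 * (q5 * p.2) * q5 by group, ← h2, show p.2 * (p.2 * q5) * q5 = (p.2 * p.2) * (q5 * q5) by group, qq,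
                  show p.2 * p.2 = 1 from congrArg Prod.snd hpp, one_mul]
            · rw [W.phi_mul hp, e, ← hs, mul_inv_rev, inv_inv, F.n_inv,
                show F.n * w⁻¹ * (x * s) * (w * F.n) = F.n * (w⁻¹ * x * s * w) * F.n by group,
                show w⁻¹ * x * s * w = W.t * (w⁻¹ * s * w) by rw [hx]; group,
                show w⁻¹ * s * w = s by rw [mul_assoc, ← hmem.1 hw, inv_mul_cancel_left], hts, ← W.n_t, F.nn]
      · by_cases hp2 : p.2 = 1
        · left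
          by_cases hq1 : p.1 = q5
          · rw [← e, show p = (q5, 1) from Prod.ext hq1 hp2, W.phi_t]
          · exfalso
            refine double (p * (q5, q5)) (F.n * w⁻¹) ?_ (by simpa [hp2] using q1) (by simp [hsign, qs]) (by simp [hsign2, qs]) ?_ ?_
            · show p.1 * q5 ≠ 1
              intro h
              exact hq1 (mul_right_cancel (h.trans qq.symm))
            · refine Prod.ext ?_ ?_
              · show p.1 * q5 * (p.1 * q5) = 1
                rw [show p.1 * q5 * (p.1 * q5) = p.1 * (q5 * p.1) * q5 by group, ← h1, show p.1 * (p.1 * q5) * q5 = (p.1 * p.1) * (q5 * q5) by group, qq,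
                  show p.1 * p.1 = 1 from congrArg Prod.fst hpp, one_mul]
              · show p.2 * q5 * (p.2 * q5) = 1
                rw [show p.2 * q5 * (p.2 * q5) = p.2 * (q5 * p.2) * q5 by group, ← h2, show p.2 * (p.2 * q5) * q5 = (p.2 * p.2) * (q5 * q5) by group, qq,
                  show p.2 * p.2 = 1 from congrArg Prod.snd hpp, one_mul]
            · rw [W.phi_mul hp, e, ← hs, mul_inv_rev, inv_inv, F.n_inv,
                show F.n * w⁻¹ * (x * s) * (w * F.n) = F.n * (w⁻¹ * x * s * w) * F.n by group,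
                show w⁻¹ * x * s * w = W.t * (w⁻¹ * s * w) by rw [hx]; group,
                show w⁻¹ * s * w = s by rw [mul_assoc, ← hmem.1 hw, inv_mul_cancel_left], hts, ← W.n_t, F.nn]
        · exfalso
          refine double p w⁻¹ hp1 hp2 hsign hsign2 hpp ?_
          rw [e, hx]; group
    · exfalso
      refine W.not_outer_t hp (by rw [e, hxx]) w⁻¹ ?_
      rw [e, hx]; group
  obtain ⟨O, hOC, hOodd, hOn, hOc⟩ := exists_core_mod C (hmem.2 rfl)
    (orderOf_eq_prime (by rw [pow_two, hss]) hs1) htC (orderOf_eq_prime (by rw [pow_two, htt]) ht1)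
    (fun e => by rw [← e, htt] at hts; exact ht1 (by
      have h := haa; rw [← hts] at h
      exact absurd (congrArg Prod.snd (W.phi_inj_one W.par_a (W.phi_a.trans hts.symm))) q1))
    (fun x hx => hmem.1 hx) hiso
  have hG : ∀ n ∈ O, n ∈ W.G0 → n = 1 := fun n hn hnG =>
    hodd1 n hnG (hOC hn) (hOodd.of_dvd_nat (Subgroup.orderOf_dvd_natCard O hn))
  have hinv : ∀ v : P5, Equiv.Perm.sign v = 1 → v * v = 1 → v ≠ 1 → v * q5 = q5 * v → ∀ n ∈ O,
      W.phi (v, 1) * n * (W.phi (v, 1))⁻¹ = n⁻¹ := by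
    intro v hv1 hv2 hv3 hvq n hn
    have hvC : W.phi (v, 1) ∈ C := hmem.2 (by
      rw [hs, W.phi_comm (W.par_fst hv1) W.par_s]; exact Prod.ext hvq (by simp))
    refine inverts_of_no_fixed O ?_ (fun m hm => hOn _ hvC m hm) (fun m hm hc => hG m hm ?_) hn
    · rw [← W.phi_mul (W.par_fst hv1), show ((v, 1) : P55) * (v, 1) = 1 from Prod.ext hv2 (by simp), W.phi_one]
    · obtain ⟨k, hks', hke⟩ := conj_q5 v hv1 hv2 hv3
      refine W.cent_conj W.par_t (W.par_fst hks') (fun x hx => W.cent_t (by rwa [W.phi_t] at hx)) (g := m) ?_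
      rw [show ((k, 1) : P55) * (q5, 1) * (k, 1)⁻¹ = (v, 1) from Prod.ext hke (by simp)]
      exact hc.symm.eq
  have hO1 : ∀ n ∈ O, n = 1 := by
    intro n hn
    have i0 := hinv q5 qs qq q1 rfl n hn
    rw [W.phi_t] at i0
    have i1 := hinv r5 rs rr r1 rqc n hn
    have i2 := hinv (r5 * q5) (by rw [map_mul, rs, qs, mul_one])
      (by rw [show r5 * q5 * (r5 * q5) = r5 * (q5 * r5) * q5 by group, ← rqc, ← mul_assoc, rr, one_mul, qq])
      (fun h => rq (mul_right_cancel (h.trans qq.symm))) (by rw [mul_assoc, qq, ← mul_assoc, ← rqc, mul_assoc, qq]) n hn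
    have hc := commute_of_inverted i1 i2
    rw [← W.phi_mul (W.par_fst rs), show ((r5, 1) : P55) * (r5 * q5, 1) = (q5, 1) from
      Prod.ext (by show r5 * (r5 * q5) = q5; rw [← mul_assoc, rr, one_mul]) (by simp), W.phi_t] at hc
    exact eq_one_of_inverted (hOodd.of_dvd_nat (Subgroup.orderOf_dvd_natCard O hn)) i0 hc
  obtain ⟨o, ho, e | e⟩ := hOc g (hmem.2 hg)
  · rw [hO1 o ho] at e
    exact hnorm g (hmem.2 hg) (Or.inl (mul_inv_eq_iff_eq_mul.1 (mul_inv_eq_one.1 e)).symm)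
  · rw [hO1 o ho, one_mul] at e
    refine hnorm g (hmem.2 hg) (Or.inr ?_)
    have hti : W.t⁻¹ = W.t := inv_eq_of_mul_eq_one_right htt
    rw [← hts, ← e, hti,
      show W.t * (W.t * g * W.t * g⁻¹) = (W.t * W.t) * g * W.t * g⁻¹ by group, htt, one_mul]

theorem cent_invol {p : P55} (hp : Par p) (h2 : p * p = 1) (h1 : p ≠ 1) {g : G} (hg : g * W.phi p = W.phi p * g) :
    g ∈ W.G0 := by
  by_cases hs : Equiv.Perm.sign p.1 = 1
  · have hs2 : Equiv.Perm.sign p.2 = 1 := hp.symm.trans hs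
    by_cases hp1 : p.1 = 1
    · obtain ⟨k, hk, hke⟩ := conj_q5 p.2 hs2 (congrArg Prod.snd h2) fun e => h1 (Prod.ext hp1 e)
      refine W.cent_conj W.par_a (W.par_snd hk) (fun x hx => W.cent_a (by rwa [W.phi_a] at hx)) (g := g) ?_
      rwa [show ((1, k) : P55) * (1, q5) * (1, k)⁻¹ = p from Prod.ext (by simp [hp1]) hke]
    · obtain ⟨k, hk, hke⟩ := conj_q5 p.1 hs (congrArg Prod.fst h2) hp1
      by_cases hp2 : p.2 = 1
      · refine W.cent_conj W.par_t (W.par_fst hk) (fun x hx => W.cent_t (by rwa [W.phi_t] at hx)) (g := g) ?_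
        rwa [show ((k, 1) : P55) * (q5, 1) * (k, 1)⁻¹ = p from Prod.ext hke (by simp [hp2])]
      · obtain ⟨k', hk', hke'⟩ := conj_q5 p.2 hs2 (congrArg Prod.snd h2) hp2
        refine W.cent_conj W.par_s (par_even (p := (k, k')) hk hk') (fun x hx => W.cent_s hx) (g := g) ?_
        rwa [show ((k, k') : P55) * (q5, q5) * (k, k')⁻¹ = p from Prod.ext hke hke']
  · obtain ⟨k, hk, hke⟩ := conj_t5 p.1 hs (congrArg Prod.fst h2)
    obtain ⟨k', hk', hke'⟩ := conj_t5 p.2 (fun e => hs (hp.trans e)) (congrArg Prod.snd h2)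
    refine W.cent_conj W.par_u (par_even (p := (k, k')) hk hk') (fun x hx => W.cent_u (by rwa [W.phi_u] at hx)) (g := g) ?_
    rwa [show ((k, k') : P55) * (t5, t5) * (k, k')⁻¹ = p from Prod.ext hke hke']

theorem u_class (g : G) : g * F.u * g⁻¹ ∈ W.G0 := by
  obtain ⟨htt, ht1, -⟩ := W.t_facts
  obtain ⟨w, hw2, hwu, hwt, -⟩ := exists_central (by rw [orderOf_conj_eq, F.u_order] : orderOf (g * F.u * g⁻¹) = 2)
    (orderOf_eq_prime (by rw [pow_two, htt]) ht1) fun h he => W.not_u_t (h * g) (by rw [← he]; group)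
  obtain ⟨p, hp, rfl, -⟩ := W.G0_comm_t (W.cent_t hwt.eq) hwt.eq
  have hpp : p * p = 1 := W.phi_inj_one (hp.mul hp) (by
    rw [W.phi_mul hp, ← pow_two, ← hw2, pow_orderOf_eq_one])
  have hp1 : p ≠ 1 := fun e => by rw [e, W.phi_one, orderOf_one] at hw2; omega
  exact W.cent_invol hp hpp hp1 hwu.symm.eq

/-- The socle. -/
def incl : alternatingGroup (Fin 5) × alternatingGroup (Fin 5) →* G where
  toFun q := W.phi (q.1, q.2)
  map_one' := W.phi_one
  map_mul' q q' := W.phi_mul (par_even (p := ((q.1 : P5), (q.2 : P5))) q.1.2 q.2.2) ((q'.1 : P5), (q'.2 : P5))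

/-- The socle. -/
def L : Subgroup G := W.incl.range

theorem mem_L {g : G} : g ∈ W.L ↔ ∃ p : P55, Equiv.Perm.sign p.1 = 1 ∧ Equiv.Perm.sign p.2 = 1 ∧ W.phi p = g :=
  ⟨fun ⟨q, hq⟩ => ⟨(q.1, q.2), q.1.2, q.2.2, hq⟩, fun ⟨p, h1, h2, h⟩ => ⟨(⟨p.1, h1⟩, ⟨p.2, h2⟩), h⟩⟩

theorem incl_inj : Function.Injective W.incl := fun q r h => by
  have := W.phi_inj (par_even (p := ((q.1 : P5), (q.2 : P5))) q.1.2 q.2.2) (par_even (p := ((r.1 : P5), (r.2 : P5))) r.1.2 r.2.2) h
  exact Prod.ext (Subtype.ext (congrArg Prod.fst this)) (Subtype.ext (congrArg Prod.snd this))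

theorem L_le : W.L ≤ W.G0 := by
  intro g hg
  obtain ⟨p, h1, h2, rfl⟩ := W.mem_L.1 hg
  exact W.phi_mem (par_even h1 h2)

theorem comm_mem_L {g h : G} (hg : g ∈ W.G0) (hh : h ∈ W.G0) : g * h * g⁻¹ * h⁻¹ ∈ W.L := by
  obtain ⟨p, hp, e⟩ := W.decomp hg
  obtain ⟨q, hq, f⟩ := W.decomp hh
  have hmv : ∀ x : P55, Par x → F.n * W.phi x = W.phi x.swap * F.n := fun x hx => by
    rw [← W.n_phi hx, mul_assoc, F.n_sq, mul_one]
  have hmv' : ∀ x : P55, Par x → ∀ r : G, F.n * (W.phi x * r) = W.phi x.swap * (F.n * r) := fun x hx r => by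
    rw [← mul_assoc, hmv x hx, mul_assoc]
  have nn' : ∀ r : G, F.n * (F.n * r) = r := fun r => by rw [← mul_assoc, F.n_sq, one_mul]
  have hs1 : ∀ x : P55, Par x → Equiv.Perm.sign x.1 = Equiv.Perm.sign x.2 := fun x hx => hx
  rcases e with rfl | rfl <;> rcases f with rfl | rfl <;>
    simp only [mul_inv_rev, F.n_inv, ← W.phi_inv hp, ← W.phi_inv hq, mul_assoc, hmv _ hp, hmv' _ hp, hmv _ hq,
      hmv' _ hq, hmv _ hp.inv, hmv' _ hp.inv, hmv _ hq.inv, hmv' _ hq.inv, hmv _ hp.swap, hmv' _ hp.swap,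
      hmv _ hq.swap, hmv' _ hq.swap, hmv _ hp.inv.swap, hmv' _ hp.inv.swap, hmv _ hq.inv.swap, hmv' _ hq.inv.swap,
      Prod.swap_swap, nn', F.n_sq, mul_one] <;>
    simp only [← W.phi_mul hp, ← W.phi_mul hq, ← W.phi_mul hp.swap, ← W.phi_mul hq.swap, ← W.phi_mul hp.inv,
      ← W.phi_mul hq.inv, ← W.phi_mul hp.inv.swap, ← W.phi_mul hq.inv.swap] <;>
    refine W.mem_L.2 ⟨_, ?_, ?_, rfl⟩ <;>
    simp only [Prod.fst_mul, Prod.snd_mul, Prod.fst_inv, Prod.snd_inv, Prod.fst_swap, Prod.snd_swap, map_mul, map_inv,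
      hs1 _ hp, hs1 _ hq, Int.units_inv_eq_self] <;>
    rcases Int.units_eq_one_or (Equiv.Perm.sign p.2) with a | a <;>
    rcases Int.units_eq_one_or (Equiv.Perm.sign q.2) with b | b <;> simp [a, b]

theorem L_normal : W.L.Normal := by
  obtain ⟨qq, q1, rr, r1, rq, qs, rs, tq, rqc, trtr, -⟩ := q5_facts
  set N := Subgroup.normalClosure ({F.u} : Set G) with hN
  have hNG : N ≤ W.G0 := by
    refine (Subgroup.closure_le _).2 fun x hx => ?_
    obtain ⟨_, rfl, h⟩ := Group.mem_conjugatesOfSet_iff.1 hx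
    obtain ⟨c, rfl⟩ := isConj_iff.1 h
    exact W.u_class c
  have hu : F.u ∈ N := Subgroup.subset_normalClosure rfl
  haveI hNn : N.Normal := Subgroup.normalClosure_normal
  have hMn : (⁅N, N⁆ : Subgroup G).Normal := inferInstance
  have htN : W.t ∈ N := by
    have := mul_mem hu (hNn.conj_mem _ (inv_mem hu) (W.phi (r5, 1)))
    rwa [← W.phi_u, ← W.phi_inv W.par_u, W.phi_conj W.par_r W.par_u.inv, ← W.phi_mul W.par_u,
      show ((t5, t5) : P55) * ((r5, 1) * (t5, t5)⁻¹ * (r5, 1)⁻¹) = (q5, 1) from Prod.ext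
        (by show t5 * (r5 * t5⁻¹ * r5⁻¹) = q5
            rw [inv_eq_of_mul_eq_one_right rr, inv_eq_of_mul_eq_one_right t5_sign.2,
              show t5 * (r5 * t5 * r5) = t5 * r5 * t5 * r5 by group, trtr])
        (by simp), W.phi_t] at this
  have hrN : W.phi (r5, 1) ∈ N := by
    obtain ⟨k, hk, hke⟩ := conj_q5 r5 rs rr r1
    have := hNn.conj_mem _ htN (W.phi (k, 1))
    rwa [← W.phi_t, W.phi_conj (W.par_fst hk) W.par_t,
      show ((k, 1) : P55) * (q5, 1) * (k, 1)⁻¹ = (r5, 1) from Prod.ext hke (by simp)] at this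
  set M : Subgroup G := ⁅N, N⁆ with hM
  have htM : W.t ∈ M := by
    have := Subgroup.commutator_mem_commutator hu hrN
    rwa [commutatorElement_def, show F.u * W.phi (r5, 1) * F.u⁻¹ * (W.phi (r5, 1))⁻¹ = W.t by
      rw [← W.phi_u, W.phi_conj W.par_u W.par_r, ← W.phi_inv W.par_r, ← W.phi_mul ((W.par_u.mul W.par_r).mul W.par_u.inv),
        ← W.phi_t]
      refine congrArg W.phi (Prod.ext ?_ (by simp))
      show t5 * r5 * t5⁻¹ * r5⁻¹ = q5
      rw [inv_eq_of_mul_eq_one_right rr, inv_eq_of_mul_eq_one_right t5_sign.2, trtr]] at this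
  have haM : F.a ∈ M := by
    have := hMn.conj_mem _ htM F.n
    rwa [F.n_inv, W.n_t] at this
  have hfour : ∀ i, ∀ v ∈ fours i, W.phi (v, 1) ∈ M ∧ W.phi (1, v) ∈ M := by
    intro i v hv
    obtain ⟨v2, vs, -⟩ := fours_facts i v hv
    by_cases v1 : v = 1
    · subst v1
      exact ⟨W.phi_one ▸ one_mem M, W.phi_one ▸ one_mem M⟩
    obtain ⟨k, hk, hke⟩ := conj_q5 v vs v2 v1
    constructor
    · have := hMn.conj_mem _ htM (W.phi (k, 1))
      rwa [← W.phi_t, W.phi_conj (W.par_fst hk) W.par_t,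
        show ((k, 1) : P55) * (q5, 1) * (k, 1)⁻¹ = (v, 1) from Prod.ext hke (by simp)] at this
    · have := hMn.conj_mem _ haM (W.phi (1, k))
      rwa [← W.phi_a, W.phi_conj (W.par_snd hk) W.par_a,
        show ((1, k) : P55) * (1, q5) * (1, k)⁻¹ = (1, v) from Prod.ext (by simp) hke] at this
  have hle : W.L ≤ M := by
    intro g hg
    obtain ⟨⟨x, y⟩, hx, hy, rfl⟩ := W.mem_L.1 hg
    rw [show ((x, y) : P55) = (x, 1) * (1, y) from Prod.ext (by simp) (by simp), W.phi_mul (W.par_fst hx)]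
    obtain ⟨a, ha, b, hb, c, hc, d, hd, rfl⟩ := a5_products x hx
    obtain ⟨a', ha', b', hb', c', hc', d', hd', rfl⟩ := a5_products y hy
    refine mul_mem ?_ ?_
    · rw [show ((a * b * c * d, 1) : P55) = (a, 1) * (b, 1) * (c, 1) * (d, 1) from Prod.ext rfl (by simp)]
      have s := fun i v (hv : v ∈ fours i) => W.par_fst (fours_facts i v hv).2.1
      rw [W.phi_mul (((s 0 a ha).mul (s 1 b hb)).mul (s 0 c hc)), W.phi_mul ((s 0 a ha).mul (s 1 b hb)), W.phi_mul (s 0 a ha)]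
      exact mul_mem (mul_mem (mul_mem (hfour 0 a ha).1 (hfour 1 b hb).1) (hfour 0 c hc).1) (hfour 1 d hd).1
    · rw [show ((1, a' * b' * c' * d') : P55) = (1, a') * (1, b') * (1, c') * (1, d') from Prod.ext (by simp) rfl]
      have s := fun i v (hv : v ∈ fours i) => W.par_snd (fours_facts i v hv).2.1
      rw [W.phi_mul (((s 0 a' ha').mul (s 1 b' hb')).mul (s 0 c' hc')), W.phi_mul ((s 0 a' ha').mul (s 1 b' hb')),
        W.phi_mul (s 0 a' ha')]
      exact mul_mem (mul_mem (mul_mem (hfour 0 a' ha').2 (hfour 1 b' hb').2) (hfour 0 c' hc').2) (hfour 1 d' hd').2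
  have hge : M ≤ W.L := Subgroup.commutator_le.2 fun a ha b hb => by
    rw [commutatorElement_def]; exact W.comm_mem_L (hNG ha) (hNG hb)
  rw [le_antisymm hle hge]
  exact hMn

theorem top (g : G) : g ∈ W.G0 := by
  obtain ⟨htt, ht1, haa, hta, hat⟩ := W.t_facts
  have hm := W.L_normal.conj_mem W.t (W.mem_L.2 ⟨(q5, 1), q5_facts.2.2.2.2.2.1, map_one _, W.phi_t⟩) g
  obtain ⟨p, h1, h2, hpe⟩ := W.mem_L.1 hm
  have hp := par_even h1 h2
  have hpp : p * p = 1 := W.phi_inj_one (hp.mul hp) (by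
    rw [W.phi_mul hp, hpe, show g * W.t * g⁻¹ * (g * W.t * g⁻¹) = g * (W.t * W.t) * g⁻¹ by group, htt]; group)
  obtain ⟨h, hh, he⟩ : ∃ h ∈ W.G0, h * W.t * h⁻¹ = g * W.t * g⁻¹ := by
    rw [← hpe]
    by_cases hp2 : p.2 = 1
    · obtain ⟨k, hk, hke⟩ := conj_q5 p.1 h1 (congrArg Prod.fst hpp) fun e => ht1 (conj_one (g := g) (by
        rw [← hpe, show p = 1 from Prod.ext e hp2, W.phi_one]))
      refine ⟨W.phi (k, 1), W.phi_mem (W.par_fst hk), ?_⟩
      rw [← W.phi_t, W.phi_conj (W.par_fst hk) W.par_t]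
      exact congrArg W.phi (Prod.ext hke (by simp [hp2]))
    · obtain ⟨k, hk, hke⟩ := conj_q5 p.2 h2 (congrArg Prod.snd hpp) hp2
      by_cases hp1 : p.1 = 1
      · refine ⟨W.phi (1, k) * F.n, mul_mem (W.phi_mem (W.par_snd hk)) W.n_mem, ?_⟩
        rw [mul_inv_rev, F.n_inv, show W.phi (1, k) * F.n * W.t * (F.n * (W.phi (1, k))⁻¹) =
          W.phi (1, k) * (F.n * W.t * F.n) * (W.phi (1, k))⁻¹ by group, W.n_t, ← W.phi_a,
          W.phi_conj (W.par_snd hk) W.par_a]
        exact congrArg W.phi (Prod.ext (by simp [hp1]) hke)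
      · exfalso
        obtain ⟨k', hk', hke'⟩ := conj_q5 p.1 h1 (congrArg Prod.fst hpp) hp1
        refine W.not_s_t (g⁻¹ * W.phi (k', k)) ?_
        rw [show g⁻¹ * W.phi (k', k) * W.phi (q5, q5) * (g⁻¹ * W.phi (k', k))⁻¹ =
          g⁻¹ * (W.phi (k', k) * W.phi (q5, q5) * (W.phi (k', k))⁻¹) * g by group,
          W.phi_conj (par_even hk' hk) W.par_s,
          show ((k', k) : P55) * (q5, q5) * (k', k)⁻¹ = p from Prod.ext hke' hke, hpe]
        group
  have := W.cent_t (g := h⁻¹ * g) (by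
    calc h⁻¹ * g * W.t = h⁻¹ * (g * W.t * g⁻¹) * g := by group
      _ = W.t * (h⁻¹ * g) := by rw [← he]; group)
  have h3 := mul_mem hh this
  rwa [mul_inv_cancel_left] at h3

theorem index_L : W.L.index = 4 := by
  obtain ⟨htt, ht1, haa, hta, hat⟩ := W.t_facts
  have hLG : W.L ≤ W.G1 := fun g hg => by
    obtain ⟨p, h1, h2, rfl⟩ := W.mem_L.1 hg
    exact ⟨p, par_even h1 h2, rfl⟩
  have hn1 : F.n ∉ W.G1 := fun ⟨p, hp, hpe⟩ => by
    have := W.n_t
    rw [← hpe, ← W.phi_t, ← W.phi_mul hp, ← W.phi_mul (hp.mul W.par_t), ← W.phi_a] at this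
    have e := congrArg Prod.fst (W.phi_inj ((hp.mul W.par_t).mul hp) W.par_a this)
    have hpp : p * p = 1 := W.phi_inj_one (hp.mul hp) (by rw [W.phi_mul hp, hpe, F.n_sq])
    have e2 : p.1 * p.1 = 1 := congrArg Prod.fst hpp
    have e' : p.1 * q5 * p.1 = 1 := e
    refine q5_facts.2.1 ?_
    calc q5 = (p.1 * p.1) * q5 * (p.1 * p.1) := by rw [e2, one_mul, mul_one]
      _ = p.1 * (p.1 * q5 * p.1) * p.1 := by group
      _ = 1 := by rw [e', mul_one, e2]
  have h1 : W.G1.index = 2 := by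
    rw [Subgroup.index_eq_two_iff]
    refine ⟨F.n, fun b => ?_⟩
    rcases W.top b with hb | hb
    · refine Or.inr ⟨hb, fun h => hn1 ?_⟩
      have := mul_mem (inv_mem hb) h
      rwa [inv_mul_cancel_left] at this
    · refine Or.inl ⟨hb, fun h => hn1 ?_⟩
      have := mul_mem (inv_mem h) hb
      rwa [inv_mul_cancel_left] at this
  have huG : F.u ∈ W.G1 := ⟨(t5, t5), W.par_u, W.phi_u⟩
  have hneg : ¬ ((-1 : ℤˣ) = 1) := by decide
  have h2 : W.L.relIndex W.G1 = 2 := by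
    rw [Subgroup.relIndex, Subgroup.index_eq_two_iff]
    refine ⟨⟨F.u, huG⟩, fun b => ?_⟩
    obtain ⟨p, hp, hpe⟩ := b.2
    simp only [Subgroup.mem_subgroupOf, Subgroup.coe_mul, ← hpe, ← W.phi_u, ← W.phi_mul hp]
    rcases Int.units_eq_one_or (Equiv.Perm.sign p.1) with hs | hs
    · refine Or.inr ⟨W.mem_L.2 ⟨p, hs, hp.symm.trans hs, rfl⟩, fun h => ?_⟩
      obtain ⟨r, r1, r2, hre⟩ := W.mem_L.1 h
      rw [W.phi_inj (par_even r1 r2) (hp.mul W.par_u) hre] at r1
      rw [show (p * (t5, t5)).1 = p.1 * t5 from rfl, map_mul, hs, t5_sign.1, one_mul] at r1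
      exact hneg r1
    · refine Or.inl ⟨W.mem_L.2 ⟨p * (t5, t5), ?_, ?_, rfl⟩, fun h => ?_⟩
      · show Equiv.Perm.sign (p.1 * t5) = 1
        rw [map_mul, hs, t5_sign.1]; decide
      · show Equiv.Perm.sign (p.2 * t5) = 1
        rw [map_mul, ← hp, hs, t5_sign.1]; decide
      · obtain ⟨r, r1, r2, hre⟩ := W.mem_L.1 h
        rw [W.phi_inj (par_even r1 r2) hp hre, hs] at r1
        exact hneg r1
  rw [← Subgroup.relIndex_mul_index hLG, h1, h2]

theorem sq_mem (g : G) : g ^ 2 ∈ W.L := by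
  rw [pow_two]
  obtain ⟨p, hp, e | e⟩ := W.decomp (W.top g)
  · refine W.mem_L.2 ⟨p * p, ?_, ?_, by rw [W.phi_mul hp, e]⟩
    · show Equiv.Perm.sign (p.1 * p.1) = 1
      rw [map_mul, Int.units_mul_self]
    · show Equiv.Perm.sign (p.2 * p.2) = 1
      rw [map_mul, Int.units_mul_self]
  · refine W.mem_L.2 ⟨p * p.swap, ?_, ?_, ?_⟩
    · show Equiv.Perm.sign (p.1 * p.2) = 1
      rw [map_mul, hp, Int.units_mul_self]
    · show Equiv.Perm.sign (p.2 * p.1) = 1
      rw [map_mul, hp, Int.units_mul_self]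
    · rw [W.phi_mul hp, ← W.n_phi hp, ← e]; group

theorem cent_L {g : G} (h : ∀ x ∈ W.L, g * x = x * g) : g = 1 := by
  have hgt := h _ (W.mem_L.2 ⟨(q5, 1), q5_facts.2.2.2.2.2.1, map_one _, W.phi_t⟩)
  obtain ⟨p, hp, rfl, -⟩ := W.G0_comm_t (W.top g) hgt
  have key : ∀ e ∈ ([swap 0 1 * swap 1 2, swap 2 3 * swap 3 4] : List P5),
      p.1 * e = e * p.1 ∧ p.2 * e = e * p.2 := by
    intro e he
    have hs : Equiv.Perm.sign e = 1 := by
      simp only [List.mem_cons, List.not_mem_nil, or_false] at he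
      rcases he with rfl | rfl <;> decide
    exact ⟨congrArg Prod.fst ((W.phi_comm hp (W.par_fst hs)).1 (h _ (W.mem_L.2 ⟨(e, 1), hs, map_one _, rfl⟩))),
      congrArg Prod.snd ((W.phi_comm hp (W.par_snd hs)).1 (h _ (W.mem_L.2 ⟨(1, e), map_one _, hs, rfl⟩)))⟩
  rw [show p = 1 from Prod.ext (a5_central _ fun e he => (key e he).1) (a5_central _ fun e he => (key e he).2), W.phi_one]

theorem minimal {K : Subgroup G} (hK : K.Normal) (hKL : K ≤ W.L) : K = ⊥ ∨ K = W.L := by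
  refine or_iff_not_imp_left.2 fun hne => le_antisymm hKL ?_
  haveI := hK
  let g1 : alternatingGroup (Fin 5) →* G := W.incl.comp (MonoidHom.inl _ _)
  haveI hn : (K.comap g1).Normal := hK.comap g1
  obtain ⟨⟨k, hkK⟩, hk1⟩ : ∃ k : K, k ≠ 1 := by
    by_contra h
    push Not at h
    exact hne ((Subgroup.eq_bot_iff_forall K).2 fun x hx => congrArg Subtype.val (h ⟨x, hx⟩))
  obtain ⟨p, h1, h2, hpe⟩ := W.mem_L.1 (hKL hkK)
  obtain ⟨k', hk', p', h1', h2', hpe', hne'⟩ : ∃ k' ∈ K, ∃ p : P55, Equiv.Perm.sign p.1 = 1 ∧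
      Equiv.Perm.sign p.2 = 1 ∧ W.phi p = k' ∧ p.1 ≠ 1 := by
    by_cases hp1 : p.1 = 1
    · refine ⟨F.n * k * F.n, ?_, p.swap, h2, h1, ?_, fun e => hk1 (Subtype.ext ?_)⟩
      · have := hK.conj_mem k hkK F.n
        rwa [F.n_inv] at this
      · rw [← hpe, W.n_phi (par_even h1 h2)]
      · show k = 1
        rw [← hpe, show p = 1 from Prod.ext hp1 e, W.phi_one]
    · exact ⟨k, hkK, p, h1, h2, hpe, hp1⟩
  obtain ⟨e, he, hne2⟩ : ∃ e : P5, Equiv.Perm.sign e = 1 ∧ p'.1 * e ≠ e * p'.1 := by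
    by_contra h
    push Not at h
    exact hne' (a5_central _ fun w hw => h w (by
      simp only [List.mem_cons, List.not_mem_nil, or_false] at hw
      rcases hw with rfl | rfl <;> decide))
  have hmem : W.phi (p'.1 * e * p'.1⁻¹ * e⁻¹, 1) ∈ K := by
    have := mul_mem hk' (hK.conj_mem _ (inv_mem hk') (W.phi (e, 1)))
    rw [← hpe', ← W.phi_inv (par_even h1' h2'), W.phi_conj (W.par_fst he) (par_even h1' h2').inv,
      ← W.phi_mul (par_even h1' h2')] at this
    rwa [show p' * ((e, 1) * p'⁻¹ * (e, 1)⁻¹) = (p'.1 * e * p'.1⁻¹ * e⁻¹, 1) from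
      Prod.ext (by simp [mul_assoc]) (by simp)] at this
  have hev : Equiv.Perm.sign (p'.1 * e * p'.1⁻¹ * e⁻¹) = 1 := by simp [h1', he]
  have htop : K.comap g1 = ⊤ := by
    refine hn.eq_bot_or_eq_top.resolve_left fun h => hne2 ?_
    have hm : (⟨_, hev⟩ : alternatingGroup (Fin 5)) ∈ K.comap g1 := hmem
    rw [h, Subgroup.mem_bot] at hm
    exact mul_inv_eq_iff_eq_mul.1 (mul_inv_eq_one.1 (congrArg Subtype.val hm))
  have hA : ∀ x : P5, Equiv.Perm.sign x = 1 → W.phi (x, 1) ∈ K := fun x hx => by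
    have : (⟨x, hx⟩ : alternatingGroup (Fin 5)) ∈ K.comap g1 := htop ▸ Subgroup.mem_top _
    exact this
  intro g hg
  obtain ⟨⟨x, y⟩, hx, hy, rfl⟩ := W.mem_L.1 hg
  rw [show ((x, y) : P55) = (x, 1) * (1, y) from Prod.ext (by simp) (by simp), W.phi_mul (W.par_fst hx)]
  refine mul_mem (hA x hx) ?_
  have := hK.conj_mem _ (hA y hy) F.n
  rwa [F.n_inv, W.n_phi (W.par_fst hy)] at this

theorem gfit : Cfsg.generalizedFittingSubgroup G = W.L := by
  haveI := W.L_normal
  haveI hFn : (Cfsg.fittingSubgroup G).Normal := Grp.fittingSubgroup_isNormal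
  have hC : Subgroup.centralizer (W.L : Set G) = ⊥ := (Subgroup.eq_bot_iff_forall _).2 fun g hg =>
    W.cent_L fun x hx => (Subgroup.mem_centralizer_iff.1 hg x hx).symm
  have hLne : W.L ≠ ⊥ := fun h => W.t_facts.2.1 (Subgroup.mem_bot.1 (h ▸ W.mem_L.2 ⟨(q5, 1), q5_facts.2.2.2.2.2.1, map_one _, W.phi_t⟩))
  have hfit : Cfsg.fittingSubgroup G ≤ W.L := by
    rcases W.minimal (inferInstance : (Cfsg.fittingSubgroup G ⊓ W.L).Normal) inf_le_right with h | h
    · have hc : Cfsg.fittingSubgroup G ≤ Subgroup.centralizer (W.L : Set G) :=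
        Subgroup.commutator_eq_bot_iff_le_centralizer.1 (le_bot_iff.1 (h ▸
          le_inf (Subgroup.commutator_le_left _ _) (Subgroup.commutator_le_right _ _)))
      rw [hC] at hc
      exact hc.trans bot_le
    · exfalso
      haveI hnil : Group.IsNilpotent ↥(Cfsg.fittingSubgroup G) := Grp.fittingSubgroup_isNilpotent
      have hLF : W.L ≤ Cfsg.fittingSubgroup G := h ▸ inf_le_left
      haveI hLn : Group.IsNilpotent W.L := Group.nilpotent_of_mulEquiv (Subgroup.subgroupOfEquivOfLe hLF)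
      let i : alternatingGroup (Fin 5) →* W.L := W.incl.rangeRestrict.comp (MonoidHom.inl _ _)
      have hi : Function.Injective i := fun a b hab => by
        have := W.incl_inj (congrArg Subtype.val hab)
        exact congrArg Prod.fst this
      haveI hA : Group.IsNilpotent (alternatingGroup (Fin 5)) :=
        Group.nilpotent_of_mulEquiv (MonoidHom.ofInjective hi).symm
      haveI : Group.IsNilpotent (alternatingGroup (Fin 5)) := hA
      have hcen := Subgroup.Normal.eq_bot_or_eq_top (inferInstance : (Subgroup.center (alternatingGroup (Fin 5))).Normal)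
      rcases hcen with hc | hc
      · haveI : Nontrivial (alternatingGroup (Fin 5)) := inferInstance
        exact (Group.IsNilpotent.center_ne_bot (G := alternatingGroup (Fin 5))) hc
      · have h1 : (⟨q5, q5_facts.2.2.2.2.2.1⟩ : alternatingGroup (Fin 5)) ∈ Subgroup.center _ := hc ▸ Subgroup.mem_top _
        have := Subgroup.mem_center_iff.1 h1 ⟨d5, (show Equiv.Perm.sign d5 = 1 by decide)⟩
        exact absurd (congrArg Subtype.val this) (by decide)
  refine le_antisymm (Cfsg.Agent.S1325.result W.L hfit (hC ▸ bot_le)) ?_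
  haveI : (Cfsg.generalizedFittingSubgroup G).Normal := by
    rw [Cfsg.generalizedFittingSubgroup]; infer_instance
  rcases W.minimal (inferInstance : (Cfsg.generalizedFittingSubgroup G ⊓ W.L).Normal) inf_le_right with h | h
  · exfalso
    have hc : W.L ≤ Subgroup.centralizer (Cfsg.generalizedFittingSubgroup G : Set G) :=
      Subgroup.commutator_eq_bot_iff_le_centralizer.1 (le_bot_iff.1 (h ▸
        le_inf (Subgroup.commutator_le_right _ _) (Subgroup.commutator_le_left _ _)))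
    exact hLne (le_bot_iff.1 (h ▸ le_inf (hc.trans Grp.centralizer_gfitting_le) le_rfl))
  · exact h ▸ inf_le_left

theorem conclusion : ∃ N : Subgroup G, N.Normal ∧ Cfsg.generalizedFittingSubgroup G = N ∧
    Nonempty (N ≃* alternatingGroup (Fin 5) × alternatingGroup (Fin 5)) ∧
    (∀ K : Subgroup G, K.Normal → K ≤ N → K = ⊥ ∨ K = N) ∧ N.index = 4 ∧ ∀ g : G, g ^ 2 ∈ N :=
  ⟨W.L, W.L_normal, W.gfit, ⟨(MonoidHom.ofInjective W.incl_inj).symm⟩, fun _ hK hle => W.minimal hK hle, W.index_L,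
    W.sq_mem⟩

end Wr

end Cfsg.Agent.Invol.S8Three
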