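import Cfsg.Agent.Lib.Invol.S8Three.Sym8Close
import Cfsg.Agent.Lib.Invol.S8Three.WreathEnd

/-! Coordinates from the three-local data. -/

set_option autoImplicit false
set_option maxRecDepth 50000
set_option synthInstance.maxSize 1000
set_option linter.unusedSectionVars false
set_option linter.style.haveILetI false

namespace Cfsg.Agent.Invol.S8Three

universe u

open Equiv

theorem p35_facts : ((c3, 1) : P35) * (1, d5) = (1, d5) * (c3, 1) ∧ ((a3, 1) : P35) * (c3, 1) * (a3, 1)⁻¹ = (c3, 1)⁻¹ ∧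
    ((a3, 1) : P35) * (1, d5) * (a3, 1)⁻¹ = (1, d5) ∧ ((1, e5) : P35) * (c3, 1) * (1, e5)⁻¹ = (c3, 1) ∧
    ((1, e5) : P35) * (1, d5) * (1, e5)⁻¹ = (1, d5)⁻¹ ∧ ((a3, 1) : P35) * (c3⁻¹, 1) * (a3, 1)⁻¹ = (c3, 1) ∧
    ((1, t5) : P35) * (1, t5) = 1 ∧ ((1, t5) : P35) * (c3, 1) = (c3, 1) * (1, t5) ∧
    ((1, t5) : P35) * (1, d5) = (1, d5) * (1, t5) ∧ ((a3, 1) : P35) * (1, t5) = (1, t5) * (a3, 1) ∧
    ((a3, 1) : P35) * (a3, 1) = 1 ∧ ((1, f5) : P35) * (c3, 1) = (c3, 1) * (1, f5) := by decide +kernel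

theorem three_pow_cases {H : Type*} [Group H] {z g : H} (hz : z ^ 3 = 1) (h : g ∈ Subgroup.zpowers z) :
    g = 1 ∨ g = z ∨ g = z⁻¹ := by
  obtain ⟨i, rfl⟩ := Subgroup.mem_zpowers_iff.1 h
  have e : z ^ i = z ^ (i % 3) := by
    rw [← Int.emod_add_mul_ediv i 3, zpow_add, zpow_mul, show (z ^ (3 : ℤ)) = 1 by rw [show (3 : ℤ) = ((3 : ℕ) : ℤ) from rfl, zpow_natCast, hz], one_zpow, mul_one]
    simp
  have h1 := Int.emod_nonneg i (show (3 : ℤ) ≠ 0 by norm_num)
  have h2 := Int.emod_lt_of_pos i (show (0 : ℤ) < 3 by norm_num)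
  rcases (show i % 3 = 0 ∨ i % 3 = 1 ∨ i % 3 = 2 by omega) with r | r | r <;> rw [e, r]
  · exact Or.inl (zpow_zero z)
  · exact Or.inr (Or.inl (zpow_one z))
  · refine Or.inr (Or.inr (eq_inv_of_mul_eq_one_left ?_))
    rw [← zpow_add_one, show (2 : ℤ) + 1 = ((3 : ℕ) : ℤ) from rfl, zpow_natCast, hz]

theorem exists_frame {G : Type u} [Group G] [Finite G] (P : Sylow 3 G) (D : Subgroup G) (hDP : D = P) (y z : G)
    (hgen : Subgroup.closure {y, z} = D) (hcard : Nat.card D = 9) (hexp : ∀ a ∈ D, a ^ 3 = 1)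
    (hcomm : IsMulCommutative D) (hC : Nat.card (Subgroup.centralizer (D : Set G)) = 18)
    [hcn : ((Subgroup.centralizer (D : Set G)).subgroupOf (Subgroup.normalizer (D : Set G))).Normal]
    (eNC : Subgroup.normalizer (D : Set G) ⧸ (Subgroup.centralizer (D : Set G)).subgroupOf (Subgroup.normalizer (D : Set G))
      ≃* DihedralGroup 4)
    (hycard : Nat.card (Subgroup.centralizer ({y} : Set G)) = 36)
    (hysq : ∀ g ∈ Subgroup.centralizer ({y} : Set G), g ^ 2 ∈ D)
    (eL : Subgroup.normalizer (Subgroup.zpowers z : Set G) ≃* P3 × P5) :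
    ∃ F : Frame G, D = F.D := by
  classical
  obtain ⟨p0, pA, pA', pE, pE', pA2, ptt, ptc, ptd, pat, paa, pfc⟩ := p35_facts
  have hyD : y ∈ D := hgen ▸ Subgroup.subset_closure (Set.mem_insert _ _)
  have hzD : z ∈ D := hgen ▸ Subgroup.subset_closure (Set.mem_insert_of_mem _ rfl)
  have hz3 : z ^ 3 = 1 := hexp z hzD
  have hyz : y ∉ Subgroup.zpowers z := by
    intro h
    have hle : D ≤ Subgroup.zpowers z := by
      rw [← hgen, Subgroup.closure_le]
      rintro x (rfl | rfl)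
      exacts [h, Subgroup.mem_zpowers _]
    have h1 := Subgroup.card_le_of_le hle
    rw [hcard, Nat.card_zpowers] at h1
    have := orderOf_le_of_pow_eq_one (show (0 : ℕ) < 3 by norm_num) hz3
    omega
  have hz1 : z ≠ 1 := by
    intro e
    have hle : D ≤ Subgroup.zpowers y := by
      rw [← hgen, Subgroup.closure_le]
      rintro x (rfl | rfl)
      · exact Subgroup.mem_zpowers _
      · rw [e]; exact one_mem _
    have h1 := Subgroup.card_le_of_le hle
    rw [hcard, Nat.card_zpowers] at h1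
    have := orderOf_le_of_pow_eq_one (show (0 : ℕ) < 3 by norm_num) (hexp y hyD)
    omega
  have hDc : ∀ a ∈ D, ∀ b ∈ D, a * b = b * a := fun a ha b hb =>
    congrArg Subtype.val (hcomm.is_comm.comm (⟨a, ha⟩ : D) ⟨b, hb⟩)
  set N := Subgroup.normalizer (Subgroup.zpowers z : Set G) with hN
  have hzN : z ∈ N := Subgroup.le_normalizer (Subgroup.mem_zpowers z)
  have memN : ∀ g : G, g * z * g⁻¹ = z ∨ g * z * g⁻¹ = z⁻¹ → g ∈ N := by
    intro g hg
    refine mem_normalizer_of_conj fun x hx => ?_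
    obtain ⟨i, rfl⟩ := Subgroup.mem_zpowers_iff.1 hx
    rw [← conj_zpow]
    rcases hg with r | r <;> rw [r]
    exacts [Subgroup.zpow_mem _ (Subgroup.mem_zpowers z) i, Subgroup.zpow_mem _ (inv_mem (Subgroup.mem_zpowers z)) i]
  -- normalise the coordinates of `z`
  set q0 := eL ⟨z, hzN⟩ with hq0
  have hq0' : q0 = (c3, 1) ∨ q0 = (c3⁻¹, 1) := by
    refine normal_three q0 ?_ ?_ ?_
    · rw [hq0, ← map_pow, show (⟨z, hzN⟩ : N) ^ 3 = 1 from Subtype.ext hz3, map_one]
    · exact fun e => hz1 (congrArg Subtype.val (eL.map_eq_one_iff.1 e))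
    · intro q _
      have hm : ((eL.symm q : N) : G) * z * ((eL.symm q : N) : G)⁻¹ ∈ Subgroup.zpowers z :=
        (Subgroup.mem_normalizer_iff.1 (eL.symm q).2 z).1 (Subgroup.mem_zpowers z)
      have hq : q * q0 * q⁻¹ = eL (eL.symm q * ⟨z, hzN⟩ * (eL.symm q)⁻¹) := by
        rw [map_mul, map_mul, map_inv, MulEquiv.apply_symm_apply]
      rcases three_pow_cases hz3 hm with r | r | r
      · exact absurd (conj_one r) hz1
      · left; rw [hq, hq0]; exact congrArg eL (Subtype.ext r)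
      · right; rw [hq, hq0]; exact (congrArg eL (show eL.symm q * ⟨z, hzN⟩ * (eL.symm q)⁻¹ = (⟨z, hzN⟩ : N)⁻¹ from Subtype.ext r)).trans (map_inv eL _)
  obtain ⟨σ, hσ⟩ : ∃ σ : P35, σ * (c3, 1) * σ⁻¹ = q0 := by
    rcases hq0' with r | r
    · exact ⟨1, by rw [r]; simp⟩
    · refine ⟨(a3, 1), ?_⟩; rw [r, pA]; exact Prod.ext rfl (by simp)
  let g0 : P35 →* G := (N.subtype.comp eL.symm.toMonoidHom).comp (MulAut.conj σ).toMonoidHom
  have g0inj : Function.Injective g0 :=
    (N.subtype_injective.comp eL.symm.injective).comp (MulAut.conj σ).injective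
  have g0z : g0 (c3, 1) = z := by
    show ((eL.symm (σ * (c3, 1) * σ⁻¹) : N) : G) = z
    rw [hσ, hq0, MulEquiv.symm_apply_apply]
  have g0N : ∀ g ∈ N, g ∈ g0.range := fun g hg => ⟨σ⁻¹ * eL ⟨g, hg⟩ * σ, by
    show ((eL.symm (σ * (σ⁻¹ * eL ⟨g, hg⟩ * σ) * σ⁻¹) : N) : G) = g
    rw [show σ * (σ⁻¹ * eL ⟨g, hg⟩ * σ) * σ⁻¹ = eL ⟨g, hg⟩ by group, MulEquiv.symm_apply_apply]⟩
  have hDN : ∀ d ∈ D, d ∈ N := fun d hd => memN d (Or.inl (by rw [hDc d hd z hzD, mul_inv_cancel_right]))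
  obtain ⟨q, hqD, hq2⟩ : ∃ q : P35, g0 q ∈ D ∧ q.2 ≠ 1 := by
    by_contra hcon
    push Not at hcon
    refine hyz ?_
    obtain ⟨q, hq⟩ := g0N y (hDN y hyD)
    have hq2 := hcon q (by rw [hq]; exact hyD)
    have hqc : q * (c3, 1) = (c3, 1) * q := g0inj (by rw [map_mul, map_mul, hq, g0z, hDc y hyD z hzD])
    rw [← hq]
    rcases (cent_c q).1 hqc with r | r | r
    · rw [show q = 1 from Prod.ext r hq2, map_one]; exact one_mem _
    · rw [show q = (c3, 1) from Prod.ext r hq2, g0z]; exact Subgroup.mem_zpowers _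
    · rw [show q = (c3, 1)⁻¹ from Prod.ext r (by rw [hq2]; simp), map_inv, g0z]
      exact inv_mem (Subgroup.mem_zpowers _)
  have hq3 : q ^ 3 = 1 := g0inj (by rw [map_pow, hexp _ hqD, map_one])
  obtain ⟨gg, hgg⟩ := three_conj q.2 (congrArg Prod.snd hq3) hq2
  let g1 : P35 →* G := g0.comp (MulAut.conj ((1, gg⁻¹) : P35)).toMonoidHom
  have g1inj : Function.Injective g1 := g0inj.comp (MulAut.conj _).injective
  have g1app : ∀ p : P35, g1 p = g0 ((1, gg⁻¹) * p * (1, gg⁻¹)⁻¹) := fun p => rfl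
  have g1z : g1 (c3, 1) = z := by
    rw [g1app, show ((1, gg⁻¹) : P35) * (c3, 1) * (1, gg⁻¹)⁻¹ = (c3, 1) from Prod.ext (by simp) (by simp), g0z]
  have g1N : ∀ g ∈ N, g ∈ g1.range := fun g hg => by
    obtain ⟨p, hp⟩ := g0N g hg
    exact ⟨(1, gg⁻¹)⁻¹ * p * (1, gg⁻¹), by rw [g1app, ← hp]; exact congrArg g0 (by group)⟩
  have g1d : g1 (1, d5) ∈ D := by
    have e : ((1, gg⁻¹) : P35) * (q.1, d5) * (1, gg⁻¹)⁻¹ = q :=
      Prod.ext (by simp) (by show gg⁻¹ * d5 * gg⁻¹⁻¹ = q.2; rw [← hgg]; group)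
    have hqd : g1 (q.1, d5) ∈ D := by rw [g1app, e]; exact hqD
    have hqc : q * (c3, 1) = (c3, 1) * q := g0inj (by rw [map_mul, map_mul, g0z, hDc _ hqD z hzD])
    have hm : g1 (q.1, 1) ∈ D := by
      rcases (cent_c q).1 hqc with r | r | r <;> rw [r]
      · exact (map_one g1 : g1 ((1 : P3), (1 : P5)) = 1) ▸ one_mem D
      · rw [g1z]; exact hzD
      · rw [show ((c3⁻¹, 1) : P35) = (c3, 1)⁻¹ from Prod.ext rfl (by simp), map_inv, g1z]; exact inv_mem hzD
    have := mul_mem (inv_mem hm) hqd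
    rwa [← map_inv, ← map_mul, show ((q.1, 1) : P35)⁻¹ * (q.1, d5) = (1, d5) from Prod.ext (by simp) (by simp)] at this
  set D0 : Subgroup P35 := (Subgroup.zpowers c3).prod (Subgroup.zpowers d5) with hD0
  have hDeq : ∀ g : P35 →* G, Function.Injective g → g (c3, 1) = z → g (1, d5) ∈ D → D = D0.map g := by
    intro g ginj gz gd
    refine (Subgroup.eq_of_le_of_card_ge ?_ ?_).symm
    · rintro _ ⟨⟨p, r⟩, hpr, rfl⟩
      obtain ⟨⟨i, rfl⟩, ⟨j, rfl⟩⟩ := Subgroup.mem_prod.1 hpr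
      rw [show ((c3 ^ i, d5 ^ j) : P35) = (c3, 1) ^ i * (1, d5) ^ j from Prod.ext (by simp) (by simp), map_mul, map_zpow,
        map_zpow, gz]
      exact mul_mem (zpow_mem hzD i) (zpow_mem gd j)
    · rw [hcard, hD0, Subgroup.card_map_of_injective ginj, Nat.card_congr (Subgroup.prodEquiv _ _).toEquiv, Nat.card_prod,
        Nat.card_zpowers, Nat.card_zpowers,
        orderOf_eq_prime (show c3 ^ 3 = 1 by decide) (show c3 ≠ 1 by decide),
        orderOf_eq_prime (show d5 ^ 3 = 1 by decide) (show d5 ≠ 1 by decide)]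
  set z' := g1 (1, d5) with hz'
  have hz'3 : z' ^ 3 = 1 := hexp z' g1d
  have hz'1 : z' ≠ 1 := fun e => absurd (g1inj (e.trans g1.map_one.symm)) (by decide)
  have hzz : z * z' = z' * z := hDc _ hzD _ g1d
  have memD : ∀ d ∈ D, ∃ i j : Fin 3, d = z ^ (i : ℕ) * z' ^ (j : ℕ) := by
    intro d hd
    rw [hDeq g1 g1inj g1z g1d] at hd
    obtain ⟨⟨p, r⟩, hpr, rfl⟩ := hd
    have hp3 : ((p, r) : P35) * (c3, d5) = (c3, d5) * (p, r) := by
      obtain ⟨⟨i, rfl⟩, ⟨j, rfl⟩⟩ := Subgroup.mem_prod.1 hpr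
      exact Prod.ext ((Commute.refl c3).zpow_left i).eq ((Commute.refl d5).zpow_left j).eq
    obtain ⟨i, j, hij⟩ := cubes_zz (p, r) (g1inj (by
      rw [map_pow, map_one]
      refine hexp _ ?_
      rw [hDeq g1 g1inj g1z g1d]; exact ⟨_, hpr, rfl⟩)) hp3
    refine ⟨i, j, ?_⟩
    rw [hij, show ((c3 ^ (i : ℕ), d5 ^ (j : ℕ)) : P35) = (c3, 1) ^ (i : ℕ) * (1, d5) ^ (j : ℕ) from
      Prod.ext (by simp) (by simp), map_mul, map_pow, map_pow, g1z]
  set a := g1 (a3, 1) with ha
  set e := g1 (1, e5) with he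
  have haz : a * z * a⁻¹ = z⁻¹ := by rw [ha, ← g1z, ← map_inv, ← map_inv, ← map_mul, ← map_mul, pA]
  have haz' : a * z' * a⁻¹ = z' := by rw [ha, hz', ← map_inv, ← map_mul, ← map_mul, pA']
  have hez : e * z * e⁻¹ = z := by rw [he, ← g1z, ← map_inv, ← map_mul, ← map_mul, pE]
  have hez' : e * z' * e⁻¹ = z'⁻¹ := by rw [he, hz', ← map_inv, ← map_inv, ← map_mul, ← map_mul, pE']
  have conjD : ∀ x : G, x * z * x⁻¹ ∈ D → x * z' * x⁻¹ ∈ D → x ∈ Subgroup.normalizer (D : Set G) := by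
    intro x h1 h2
    refine mem_normalizer_of_conj fun d hd => ?_
    obtain ⟨i, j, rfl⟩ := memD d hd
    rw [show x * (z ^ (i : ℕ) * z' ^ (j : ℕ)) * x⁻¹ = (x * z * x⁻¹) ^ (i : ℕ) * (x * z' * x⁻¹) ^ (j : ℕ) by
      rw [conj_pow, conj_pow]; group]
    exact mul_mem (pow_mem h1 _) (pow_mem h2 _)
  have haN : a ∈ Subgroup.normalizer (D : Set G) := conjD a (haz ▸ inv_mem hzD) (haz'.symm ▸ g1d)
  set ND := Subgroup.normalizer (D : Set G) with hND
  set H : Subgroup ND := N.subgroupOf ND with hH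
  -- the normaliser of the Sylow subgroup moves `z`
  have hNDc : Nat.card ND = 144 := by
    rw [Subgroup.card_eq_card_quotient_mul_card_subgroup ((Subgroup.centralizer (D : Set G)).subgroupOf ND),
      Nat.card_congr eNC.toEquiv, DihedralGroup.nat_card,
      Nat.card_congr (Subgroup.subgroupOfEquivOfLe (Subgroup.centralizer_le_normalizer (D : Set G))).toEquiv, hC]
  let M0 : Subgroup P35 := (⊤ : Subgroup P3).prod (Subgroup.normalizer (Subgroup.zpowers d5 : Set P5))
  have hM0 : Nat.card M0 = 72 := by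
    rw [Nat.card_congr (Subgroup.prodEquiv _ _).toEquiv, Nat.card_prod, Subgroup.card_top, Nat.card_perm, Nat.card_fin]
    have : ∀ r : P5, r ∈ Subgroup.normalizer (Subgroup.zpowers d5 : Set P5) ↔
        (r * d5 * r⁻¹ = d5 ∨ r * d5 * r⁻¹ = d5⁻¹) := by
      intro r
      refine ⟨fun h => ?_, fun h => ?_⟩
      · rcases three_pow_cases (show d5 ^ 3 = 1 by decide)
          ((Subgroup.mem_normalizer_iff.1 h d5).1 (Subgroup.mem_zpowers _)) with s | s | s
        · exact absurd (conj_one s) (by decide)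
        · exact Or.inl s
        · exact Or.inr s
      · refine mem_normalizer_of_conj fun x hx => ?_
        obtain ⟨i, rfl⟩ := Subgroup.mem_zpowers_iff.1 hx
        rw [← conj_zpow]
        rcases h with s | s <;> rw [s]
        exacts [Subgroup.zpow_mem _ (Subgroup.mem_zpowers _) i, Subgroup.zpow_mem _ (inv_mem (Subgroup.mem_zpowers _)) i]
    rw [Nat.card_congr (Equiv.subtypeEquivRight this), Nat.card_eq_fintype_card]
    decide +kernel
  have hHimg : ∀ x : ND, x ∈ H → (x : G) ∈ M0.map g1 := by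
    intro x hx
    obtain ⟨p, hp⟩ := g1N _ hx
    refine ⟨p, Subgroup.mem_prod.2 ⟨Subgroup.mem_top _, ?_⟩, hp⟩
    refine mem_normalizer_of_conj fun w hw => ?_
    obtain ⟨i, rfl⟩ := Subgroup.mem_zpowers_iff.1 hw
    rw [← conj_zpow]
    refine Subgroup.zpow_mem _ ?_ i
    have hm : g1 (p * (1, d5) * p⁻¹) ∈ D := by
      rw [map_mul, map_mul, map_inv, hp]
      exact (Subgroup.mem_normalizer_iff.1 x.2 _).1 g1d
    rw [hDeq g1 g1inj g1z g1d] at hm
    obtain ⟨r, hr, hr'⟩ := hm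
    rw [g1inj hr'] at hr
    exact (Subgroup.mem_prod.1 hr).2
  obtain ⟨g, hgN, hgz⟩ : ∃ g ∈ ND, g * z * g⁻¹ ≠ z ∧ g * z * g⁻¹ ≠ z⁻¹ := by
    by_contra hcon
    push Not at hcon
    have hall : ND ≤ M0.map g1 := fun x hx => hHimg ⟨x, hx⟩ (memN x (by
      by_cases r : x * z * x⁻¹ = z
      exacts [Or.inl r, Or.inr (hcon x hx r)]))
    have := Subgroup.card_le_of_le hall
    rw [hNDc, Subgroup.card_map_of_injective g1inj, hM0] at this
    omega
  have hHindex : H.index = 2 := by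
    have h1 : Nat.card H = 72 := by
      apply le_antisymm
      · refine le_trans ?_ (le_of_eq hM0)
        rw [← Subgroup.card_map_of_injective g1inj (K := M0)]
        exact Nat.card_le_card_of_injective (fun x : H => (⟨(x : ND), hHimg x x.2⟩ : M0.map g1))
          fun x y h => Subtype.ext (Subtype.ext (congrArg (fun w : M0.map g1 => (w : G)) h))
      · rw [← hM0, ← Subgroup.card_map_of_injective g1inj (K := M0)]
        refine Nat.card_le_card_of_injective (fun x : M0.map g1 => (⟨⟨(x : G), ?_⟩, ?_⟩ : H))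
          fun x y h => Subtype.ext (congrArg (fun w : H => ((w : ND) : G)) h)
        · obtain ⟨p, hp, hpe⟩ := x.2
          rw [← hpe]
          obtain ⟨-, hp2⟩ := Subgroup.mem_prod.1 hp
          refine conjD _ ?_ ?_
          · have hm : (p.1 * c3 * p.1⁻¹) ∈ Subgroup.zpowers c3 := by
              have key : ∀ s : P3, s * c3 * s⁻¹ = c3 ∨ s * c3 * s⁻¹ = c3⁻¹ := by decide +kernel
              rcases key p.1 with r | r <;> rw [r]
              exacts [Subgroup.mem_zpowers _, inv_mem (Subgroup.mem_zpowers _)]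
            rw [hDeq g1 g1inj g1z g1d, ← g1z, ← map_inv, ← map_mul, ← map_mul]
            exact ⟨_, Subgroup.mem_prod.2 ⟨hm, by simp⟩, rfl⟩
          · rw [hDeq g1 g1inj g1z g1d, hz', ← map_inv, ← map_mul, ← map_mul]
            exact ⟨_, Subgroup.mem_prod.2 ⟨by simp, (Subgroup.mem_normalizer_iff.1 hp2 d5).1 (Subgroup.mem_zpowers _)⟩, rfl⟩
        · obtain ⟨p, hp, hpe⟩ := x.2
          show (x : G) ∈ N
          rw [← hpe]
          refine memN _ ?_
          have key : ∀ s : P3, s * c3 * s⁻¹ = c3 ∨ s * c3 * s⁻¹ = c3⁻¹ := by decide +kernel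
          rw [← g1z]
          rcases key p.1 with r | r
          · left; rw [← map_inv, ← map_mul, ← map_mul]; exact congrArg g1 (Prod.ext r (by simp))
          · right; rw [← map_inv, ← map_inv, ← map_mul, ← map_mul]; exact congrArg g1 (Prod.ext r (by simp))
    have h2 := H.card_mul_index
    rw [h1, hNDc] at h2
    omega
  have hHmem : ∀ x : ND, x ∈ H → (x : G) * z * (x : G)⁻¹ = z ∨ (x : G) * z * (x : G)⁻¹ = z⁻¹ := by
    intro x hx
    rcases three_pow_cases hz3 ((Subgroup.mem_normalizer_iff.1 hx z).1 (Subgroup.mem_zpowers z)) with r | r | r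
    · exact absurd (conj_one r) hz1
    · exact Or.inl r
    · exact Or.inr r
  have hgH : (⟨g, hgN⟩ : ND) ∉ H := fun h => (hHmem _ h).elim hgz.1 hgz.2
  haveI : H.Normal := Subgroup.normal_of_index_eq_two hHindex
  have hzi : z⁻¹ = z * z := inv_eq_of_mul_eq_one_right (by rw [← mul_assoc, ← hz3]; simp [pow_succ, mul_assoc])
  obtain ⟨w, hw, hwz⟩ : ∃ w : G, (w = z' ∨ w = z'⁻¹) ∧ g * z * g⁻¹ = w := by
    obtain ⟨i, j, hij⟩ := memD _ ((Subgroup.mem_normalizer_iff.1 hgN z).1 hzD)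
    have haH : (⟨a, haN⟩ : ND) ∈ H := memN a (Or.inr haz)
    have h1 := hHmem _ (‹H.Normal›.conj_mem _ haH (⟨g, hgN⟩ : ND)⁻¹)
    simp only [Subgroup.coe_mul, inv_inv, Subgroup.coe_inv] at h1
    have key : a * (g * z * g⁻¹) * a⁻¹ = g * z * g⁻¹ ∨ a * (g * z * g⁻¹) * a⁻¹ = (g * z * g⁻¹)⁻¹ := by
      rcases h1 with r | r
      · left
        calc a * (g * z * g⁻¹) * a⁻¹ = g * ((g⁻¹ * a * g) * z * (g⁻¹ * a * g)⁻¹) * g⁻¹ := by group
          _ = g * z * g⁻¹ := by rw [r]
      · right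
        calc a * (g * z * g⁻¹) * a⁻¹ = g * ((g⁻¹ * a * g) * z * (g⁻¹ * a * g)⁻¹) * g⁻¹ := by group
          _ = (g * z * g⁻¹)⁻¹ := by rw [r]; group
    have ej : ∀ j : Fin 3, a * z' ^ (j : ℕ) * a⁻¹ = z' ^ (j : ℕ) := fun j => by rw [← conj_pow, haz']
    rw [hij, show a * (z ^ (i : ℕ) * z' ^ (j : ℕ)) * a⁻¹ = (a * z * a⁻¹) ^ (i : ℕ) * (a * z' ^ (j : ℕ) * a⁻¹) by
      rw [conj_pow]; group, ej, haz] at key
    obtain ⟨ng1, ng2⟩ := hgz
    rw [hij] at ng1 ng2
    refine ⟨_, ?_, hij⟩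
    have hz'i : z'⁻¹ = z' * z' := inv_eq_of_mul_eq_one_right (by rw [← mul_assoc, ← hz'3]; simp [pow_succ, mul_assoc])
    have hcz : Commute z z' := hzz
    have hne : ∀ x : G, x ^ 3 = 1 → x ≠ 1 → x⁻¹ ≠ x := fun x h3 h1 e => h1 (by
      have h2 : x * x = 1 := by nth_rw 1 [← e]; exact inv_mul_cancel x
      rwa [pow_succ, pow_two, h2, one_mul] at h3)
    have bad : ∀ Z W : G, Commute Z W → Z⁻¹ ≠ Z → W⁻¹ ≠ W →
        ¬ (Z⁻¹ * W = Z * W ∨ Z⁻¹ * W = (Z * W)⁻¹) := by
      rintro Z W hZW h1 h2 (r | r)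
      · exact h1 (mul_right_cancel r)
      · rw [mul_inv_rev, ← (hZW.inv_inv).eq] at r
        exact h2 (mul_left_cancel r).symm
    have b1 := hne z hz3 hz1
    have b2 := hne z' hz'3 hz'1
    have hzz2 : z⁻¹ * z⁻¹ = z⁻¹⁻¹ := by rw [← mul_inv_rev, ← hzi]
    have b1' : z⁻¹⁻¹ ≠ z⁻¹ := fun e => b1 (by rw [inv_inv] at e; exact e.symm)
    have b2' : z'⁻¹⁻¹ ≠ z'⁻¹ := fun e => b2 (by rw [inv_inv] at e; exact e.symm)
    fin_cases i <;> fin_cases j <;>
      simp only [pow_zero, pow_one, pow_two, one_mul, mul_one, inv_one, ← hzi, ← hz'i,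
        true_or, or_true] at key ng1 ng2 ⊢
    · exfalso
      exact hz1 (conj_one (g := g) (by simpa using hij))
    · exact absurd rfl ng1
    · exact (bad z z' hcz b1 b2 key).elim
    · exact (bad z z'⁻¹ hcz.inv_right b1 b2' key).elim
    · exact absurd rfl ng2
    · rw [hzz2] at key; exact (bad z⁻¹ z' hcz.inv_left b1' b2 key).elim
    · rw [hzz2] at key; exact (bad z⁻¹ z'⁻¹ hcz.inv_inv b1' b2' key).elim
  -- the twin is sent back
  obtain ⟨w', hw', hwz'⟩ : ∃ w' : G, (w' = z ∨ w' = z⁻¹) ∧ g * z' * g⁻¹ = w' := by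
    have h2 := hHmem (⟨g, hgN⟩ * ⟨g, hgN⟩) (Subgroup.mul_self_mem_of_index_two hHindex _)
    simp only [Subgroup.coe_mul] at h2
    rw [show g * g * z * (g * g)⁻¹ = g * (g * z * g⁻¹) * g⁻¹ by group, hwz] at h2
    rcases hw with rfl | rfl
    · exact ⟨_, h2, rfl⟩
    · refine ⟨g * z' * g⁻¹, ?_, rfl⟩
      rw [show g * z'⁻¹ * g⁻¹ = (g * z' * g⁻¹)⁻¹ by group] at h2
      rcases h2 with r | r
      · right; rw [← r, inv_inv]
      · left; exact inv_inj.1 r
  obtain ⟨g, hg1, hg2⟩ : ∃ g : G, g * z * g⁻¹ = z' ∧ g * z' * g⁻¹ = z := by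
    have step : ∀ x : G, ∀ s : G, (s = 1 ∨ s = a ∨ s = e ∨ s = a * e) → (s * x) * z * (s * x)⁻¹ = s * (x * z * x⁻¹) * s⁻¹ ∧
        (s * x) * z' * (s * x)⁻¹ = s * (x * z' * x⁻¹) * s⁻¹ := fun x s _ => ⟨by group, by group⟩
    rcases hw with rfl | rfl <;> rcases hw' with rfl | rfl
    · exact ⟨g, hwz, hwz'⟩
    · refine ⟨a * g, ?_, ?_⟩
      · rw [(step g a (by simp)).1, hwz, haz']
      · rw [(step g a (by simp)).2, hwz', show a * z⁻¹ * a⁻¹ = (a * z * a⁻¹)⁻¹ by group, haz, inv_inv]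
    · refine ⟨e * g, ?_, ?_⟩
      · rw [(step g e (by simp)).1, hwz, show e * z'⁻¹ * e⁻¹ = (e * z' * e⁻¹)⁻¹ by group, hez', inv_inv]
      · rw [(step g e (by simp)).2, hwz', hez]
    · refine ⟨a * e * g, ?_, ?_⟩
      · rw [(step g (a * e) (by simp)).1, hwz, show a * e * z'⁻¹ * (a * e)⁻¹ = a * ((e * z' * e⁻¹)⁻¹) * a⁻¹ by group,
          hez', inv_inv, haz']
      · rw [(step g (a * e) (by simp)).2, hwz', show a * e * z⁻¹ * (a * e)⁻¹ = a * ((e * z * e⁻¹)⁻¹) * a⁻¹ by group,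
          hez, show a * z⁻¹ * a⁻¹ = (a * z * a⁻¹)⁻¹ by group, haz, inv_inv]
  -- `y` is diagonal
  set C := fun x : G => Subgroup.centralizer ({x} : Set G) with hCdef
  have hY : Nat.card (C (z * z')) = 36 ∧ ∀ b ∈ C (z * z'), b ^ 2 ∈ D := by
    have hinvC : ∀ x : G, C x⁻¹ = C x := fun x => by
      ext b
      simp only [hCdef, Subgroup.mem_centralizer_singleton_iff]
      exact Commute.inv_right_iff
    have hcase : ∀ Y : G, (Nat.card (C Y) = 36 ∧ ∀ b ∈ C Y, b ^ 2 ∈ D) → C Y = C (z * z') ∨ C Y = C (z * z'⁻¹) →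
        Nat.card (C (z * z')) = 36 ∧ ∀ b ∈ C (z * z'), b ^ 2 ∈ D := by
      intro Y hY h
      rcases h with r | r <;> rw [r] at hY
      · exact hY
      · have hm : ∀ b : G, b ∈ C (z * z') ↔ e * b * e⁻¹ ∈ C (z * z'⁻¹) := fun b => by
          simp only [hCdef, Subgroup.mem_centralizer_singleton_iff]
          have e1 : e * (z * z') * e⁻¹ = z * z'⁻¹ := by
            rw [show e * (z * z') * e⁻¹ = (e * z * e⁻¹) * (e * z' * e⁻¹) by group, hez, hez']
          constructor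
          · intro h
            rw [← e1]
            exact (commute_conj (g := e) (show Commute b _ from h)).eq
          · intro h
            rw [← e1] at h
            exact (commute_conj_back (g := e) (show Commute _ _ from h)).eq
        let ι : C (z * z') ≃ C (z * z'⁻¹) :=
          { toFun := fun b => ⟨e * b * e⁻¹, (hm b).1 b.2⟩
            invFun := fun b => ⟨e⁻¹ * b * e, (hm _).2 (by
              rw [show e * (e⁻¹ * (b : G) * e) * e⁻¹ = b by group]; exact b.2)⟩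
            left_inv := fun b => Subtype.ext (by show e⁻¹ * (e * (b : G) * e⁻¹) * e = b; group)
            right_inv := fun b => Subtype.ext (by show e * (e⁻¹ * (b : G) * e) * e⁻¹ = b; group) }
        refine ⟨(Nat.card_congr ι).trans hY.1, fun b hb => ?_⟩
        have h2 := hY.2 _ ((hm b).1 hb)
        rw [conj_pow] at h2
        have heN : e ∈ ND := conjD e (hez.symm ▸ hzD) (hez' ▸ inv_mem g1d)
        exact (Subgroup.mem_normalizer_iff.1 heN _).2 h2
    obtain ⟨i, j, hij⟩ := memD y hyD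
    have hno : ∀ h : G, (h * z * h⁻¹ = y ∨ h * z⁻¹ * h⁻¹ = y) → False := by
      intro h hh
      have hm : h * g1 (1, f5) * h⁻¹ ∈ C y := by
        simp only [hCdef, Subgroup.mem_centralizer_singleton_iff]
        have hc : Commute (g1 (1, f5)) z := by
          show g1 (1, f5) * z = z * g1 (1, f5)
          rw [← g1z, ← map_mul, ← map_mul, pfc]
        rcases hh with r | r <;> rw [← r]
        exacts [(commute_conj hc).eq, (commute_conj hc.inv_right).eq]
      have h1 : orderOf (h * g1 (1, f5) * h⁻¹) = 5 := by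
        haveI := Fact.mk (show Nat.Prime 5 by norm_num)
        rw [orderOf_conj_eq, orderOf_injective g1 g1inj]
        exact orderOf_eq_prime (Prod.ext (one_pow 5) f5_facts.1) fun r => f5_facts.2 (congrArg Prod.snd r)
      have := Subgroup.orderOf_dvd_natCard (C y) hm
      rw [h1, hCdef, hycard] at this
      norm_num at this
    have hz'i : z'⁻¹ = z' * z' := inv_eq_of_mul_eq_one_right (by rw [← mul_assoc, ← hz'3]; simp [pow_succ, mul_assoc])
    refine hcase y ⟨hycard, hysq⟩ ?_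
    fin_cases i <;> fin_cases j <;> simp only [pow_zero, pow_one, pow_two, one_mul, mul_one] at hij
    · exact absurd (hij ▸ one_mem _) hyz
    · exact (hno g (Or.inl (hg1.trans hij.symm))).elim
    · exact (hno g (Or.inr (by rw [hij, ← hz'i, ← hg1]; group))).elim
    · exact absurd (hij ▸ Subgroup.mem_zpowers z) hyz
    · left; rw [hij]
    · right; rw [hij, ← hz'i]
    · exact absurd (hij ▸ mul_mem (Subgroup.mem_zpowers z) (Subgroup.mem_zpowers z)) hyz
    · right
      rw [hij, ← hzi, ← hinvC, mul_inv_rev, inv_inv, (show Commute z'⁻¹ z from (show Commute z z' from hzz).symm.inv_left).eq]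
    · left
      rw [hij, ← hzi, ← hz'i, ← mul_inv_rev, hinvC, ← hzz]
  obtain ⟨hYc, hYsq⟩ := hY
  have hmemY : ∀ b : G, b ∈ C (z * z') ↔ b * (z * z') = z * z' * b := fun b => by
    simp only [hCdef, Subgroup.mem_centralizer_singleton_iff]
  have hgY : g ∈ C (z * z') := by
    rw [hmemY]
    refine mul_inv_eq_iff_eq_mul.1 ?_
    rw [show g * (z * z') * g⁻¹ = (g * z * g⁻¹) * (g * z' * g⁻¹) by group, hg1, hg2, hzz]
  set d := g * g with hd
  have hdD : d ∈ D := by rw [hd, ← pow_two]; exact hYsq g hgY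
  set n := g * d with hn
  have hnn : n * n = 1 := by
    rw [hn, hd, ← hexp d hdD, hd]; simp [pow_succ, mul_assoc]
  have hni : n⁻¹ = n := inv_eq_of_mul_eq_one_right hnn
  have hnz : n * z * n = z' := by
    nth_rw 2 [← hni]
    rw [hn, show g * d * z * (g * d)⁻¹ = g * (d * z * d⁻¹) * g⁻¹ by group, hDc d hdD z hzD, mul_inv_cancel_right, hg1]
  have hnz' : n * z' * n = z := by
    rw [← hnz, show n * (n * z * n) * n = (n * n) * z * (n * n) by group, hnn, one_mul, mul_one]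
  have range_cent : ∀ x : G, x * z = z * x → x ∈ g1.range := fun x hx =>
    g1N x (memN x (Or.inl (by rw [hx, mul_inv_cancel_right])))
  set u := g1 (1, t5) with hu
  have huz : Commute u z := by
    show u * z = z * u
    rw [hu, ← g1z, ← map_mul, ← map_mul, ptc]
  have huz' : Commute u z' := by
    show u * z' = z' * u
    rw [hu, hz', ← map_mul, ← map_mul, ptd]
  have hnc : ∀ x : G, Commute x z' → Commute (n * x * n) z := fun x hx => by
    have h1 := commute_conj (g := n) hx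
    rwa [hni, hnz'] at h1
  have hnc' : ∀ x : G, Commute x z → Commute (n * x * n) z' := fun x hx => by
    have h1 := commute_conj (g := n) hx
    rwa [hni, hnz] at h1
  have hnu : n * u * n = u := by
    obtain ⟨p, hp⟩ := range_cent _ (hnc u huz').eq
    have h2 : p * p = 1 := g1inj (by
      rw [map_mul, hp, map_one, show n * u * n * (n * u * n) = n * u * (n * n) * u * n by group, hnn, mul_one,
        show n * u * u * n = n * (u * u) * n by group, hu, ← map_mul, ptt, map_one, mul_one, hnn])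
    rcases involution_d p h2 (g1inj (by rw [map_mul, map_mul, hp, g1z]; exact (hnc u huz').eq))
        (g1inj (by rw [map_mul, map_mul, hp, ← hz']; exact (hnc' u huz).eq)) with r | r
    · exfalso
      rw [r, map_one] at hp
      have h3 : u = 1 := conj_one (g := n) (by rw [hni]; exact hp.symm)
      exact absurd (g1inj (h3.trans g1.map_one.symm)) (by decide)
    · rw [← hp, r]
  have hcz' : Commute a z' := mul_inv_eq_iff_eq_mul.1 haz'
  have hau : Commute a u := by
    show a * u = u * a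
    rw [ha, hu, ← map_mul, ← map_mul, pat]
  obtain ⟨p, hp⟩ := range_cent _ (hnc a hcz').eq
  have hpc : p * (c3, 1) = (c3, 1) * p := g1inj (by rw [map_mul, map_mul, hp, g1z]; exact (hnc a hcz').eq)
  have hp2 : p * p = 1 := g1inj (by
    rw [map_mul, hp, map_one, show n * a * n * (n * a * n) = n * a * (n * n) * a * n by group, hnn, mul_one,
      show n * a * a * n = n * (a * a) * n by group, ha, ← map_mul, paa, map_one, mul_one, hnn])
  have hp1 : p.1 = 1 := invol_z p.1 (congrArg Prod.fst hp2) (congrArg Prod.fst hpc)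
  have hpd : p * (1, d5) * p⁻¹ = (1, d5)⁻¹ := g1inj (by
    rw [map_mul, map_mul, map_inv, map_inv, hp, ← hz', ← hnz]
    simp only [mul_inv_rev, hni]
    rw [show n * a * n * (n * z * n) * (n * (a⁻¹ * n)) = n * a * (n * n) * z * (n * n) * a⁻¹ * n by group, hnn, mul_one,
      mul_one, show n * a * z * a⁻¹ * n = n * (a * z * a⁻¹) * n by group, haz, mul_assoc])
  have hpt : p * (1, t5) = (1, t5) * p := g1inj (by
    rw [map_mul, map_mul, hp, ← hu]
    have h1 := commute_conj (g := n) hau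
    rw [hni, hnu] at h1
    exact h1.eq)
  obtain ⟨k, hk⟩ := inv_d p.2 (congrArg Prod.snd hp2) (congrArg Prod.snd hpd) (congrArg Prod.snd hpt)
  set s : P35 := (1, (d5 ^ (k : ℕ))⁻¹) with hs
  let f : P35 →* G := g1.comp (MulAut.conj s).toMonoidHom
  have finj : Function.Injective f := g1inj.comp (MulAut.conj s).injective
  have fapp : ∀ x : P35, f x = g1 (s * x * s⁻¹) := fun x => rfl
  have hcomm_s : ∀ x : P5, x * d5 = d5 * x → (s * (1, x) * s⁻¹ : P35) = (1, x) := fun x hx => by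
    refine Prod.ext (by simp [hs]) ?_
    show (d5 ^ (k : ℕ))⁻¹ * x * (d5 ^ (k : ℕ))⁻¹⁻¹ = x
    rw [inv_inv, mul_assoc, ((show Commute x d5 from hx).pow_right _).eq, inv_mul_cancel_left]
  have hfst : ∀ x : P3, (s * (x, 1) * s⁻¹ : P35) = (x, 1) := fun x => Prod.ext (by simp [hs]) (by simp [hs])
  have fz : f (c3, 1) = z := by rw [fapp, hfst, g1z]
  have fz' : f (1, d5) = z' := by rw [fapp, hcomm_s _ rfl]
  have fu : f (1, t5) = u := by rw [fapp, hcomm_s _ gen_facts.2.2.2.2.2.2.2.1]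
  have fa : f (a3, 1) = a := by rw [fapp, hfst]
  have frange : ∀ x : G, x ∈ g1.range → x ∈ f.range := by
    rintro _ ⟨x, rfl⟩
    exact ⟨s⁻¹ * x * s, by rw [fapp]; exact congrArg g1 (by group)⟩
  have hYn : n ∈ C (z * z') := by
    rw [hmemY]
    refine mul_inv_eq_iff_eq_mul.1 ?_
    rw [hni, show n * (z * z') * n = n * z * (n * n) * z' * n by rw [hnn]; group,
      show n * z * (n * n) * z' * n = (n * z * n) * (n * z' * n) by group, hnz, hnz', hzz]
  set CD := Subgroup.centralizer (D : Set G) with hCD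
  have hCDle : CD ≤ C (z * z') := fun x hx => by
    rw [hmemY]
    exact (Subgroup.mem_centralizer_iff.1 hx (z * z') (mul_mem hzD g1d)).symm
  have hnCD : n ∉ CD := fun h => by
    have h1 := Subgroup.mem_centralizer_iff.1 h z hzD
    have : z' = z := by rw [← hnz, mul_assoc, h1, ← mul_assoc, hnn, one_mul]
    exact absurd (g1inj (this.trans g1z.symm)) (by decide)
  have hCDindex : (CD.subgroupOf (C (z * z'))).index = 2 := by
    have h1 := Subgroup.card_mul_index (CD.subgroupOf (C (z * z')))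
    rw [Nat.card_congr (Subgroup.subgroupOfEquivOfLe hCDle).toEquiv, hC, hYc] at h1
    omega
  refine ⟨⟨f, finj, ?_, ?_, n, hnn, by rw [fz, fz', hnz], by rw [fu, hnu], ?_, ?_, ?_⟩, ?_⟩
  · intro x hx
    rw [fz] at hx
    exact frange x (range_cent x hx)
  · intro x hx
    rw [fz] at hx
    exact frange x (g1N x (memN x (Or.inr hx)))
  · intro x hx
    rw [show f (c3, d5) = z * z' by rw [← fz, ← fz', ← map_mul]; exact congrArg f (Prod.ext (by simp) (by simp))] at hx
    have hin : ∀ b ∈ CD, b ∈ f.range := fun b hb =>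
      frange b (range_cent b (Subgroup.mem_centralizer_iff.1 hb z hzD).symm)
    by_cases hxD : x ∈ CD
    · exact Or.inl (hin x hxD)
    · refine Or.inr (hin _ ?_)
      have h1 := (Subgroup.mul_mem_iff_of_index_two hCDindex (a := ⟨x, (hmemY x).2 hx⟩) (b := ⟨n, hYn⟩)).2
        (iff_of_false hxD hnCD)
      exact h1
  · intro K hK
    obtain ⟨Q, hQ⟩ := hK.exists_le_sylow
    refine (Subgroup.card_le_of_le hQ).trans (le_of_eq ?_)
    have hP : Nat.card (P : Subgroup G) = 9 := by rw [← hDP, hcard]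
    rw [← hP, Q.card_eq_multiplicity, P.card_eq_multiplicity]
  · rw [fa, fapp, fapp]
    have he' : ∀ r : P5, d5 ^ (k : ℕ) * p.2 * (d5 ^ (k : ℕ))⁻¹ = r → g1 (s * (1, r) * s⁻¹) = n * a * n := fun r hr => by
      rw [← hp]
      refine congrArg g1 (Prod.ext (by simp [hs, hp1]) ?_)
      show (d5 ^ (k : ℕ))⁻¹ * r * (d5 ^ (k : ℕ))⁻¹⁻¹ = p.2
      rw [← hr]; group
    rcases hk with r | r
    · exact Or.inl (he' _ r).symm
    · exact Or.inr (he' _ r).symm
  · show D = D0.map f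
    exact hDeq f finj fz (fz'.symm ▸ g1d)

end Cfsg.Agent.Invol.S8Three
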