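import Cfsg.Agent.Lib.Invol.ZStar
import Cfsg.Agent.Lib.Invol.Dihedral
import Cfsg.Agent.Lib.Grp.CoprimeAbelian

/-! General tools for the three-local characterization of Sym(8). -/

set_option autoImplicit false
set_option linter.unusedSectionVars false
set_option linter.style.haveILetI false

namespace Cfsg.Agent.Invol.S8Three

universe u

variable {G : Type u} [Group G] [Finite G]

theorem conj_one {g x : G} (h : g * x * g⁻¹ = 1) : x = 1 := by
  rw [show x = g⁻¹ * (g * x * g⁻¹) * g by group, h]; group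

theorem commute_conj {g x y : G} (h : Commute x y) : Commute (g * x * g⁻¹) (g * y * g⁻¹) := by
  show g * x * g⁻¹ * (g * y * g⁻¹) = g * y * g⁻¹ * (g * x * g⁻¹)
  rw [show g * x * g⁻¹ * (g * y * g⁻¹) = g * (x * y) * g⁻¹ by group, h.eq]
  group

theorem commute_conj_back {g x y : G} (h : Commute (g * x * g⁻¹) (g * y * g⁻¹)) : Commute x y := by
  have := commute_conj (g := g⁻¹) h
  rwa [show g⁻¹ * (g * x * g⁻¹) * g⁻¹⁻¹ = x by group, show g⁻¹ * (g * y * g⁻¹) * g⁻¹⁻¹ = y by group] at this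

/-- A fixed-point-free involutory action inverts. -/
theorem inverts_of_no_fixed (N : Subgroup G) {t : G} (ht : t * t = 1)
    (hn : ∀ n ∈ N, t * n * t⁻¹ ∈ N) (hf : ∀ n ∈ N, Commute t n → n = 1) {n : G} (hnN : n ∈ N) :
    t * n * t⁻¹ = n⁻¹ := by
  have hti : t⁻¹ = t := inv_eq_of_mul_eq_one_right ht
  let ψ : N → N := fun v => v⁻¹ * ⟨t * v * t⁻¹, hn v v.2⟩
  have hinj : Function.Injective ψ := by
    intro v w hvw
    have e : (v : G)⁻¹ * (t * v * t⁻¹) = (w : G)⁻¹ * (t * w * t⁻¹) := congrArg Subtype.val hvw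
    have e2 : t * ((w : G) * (v : G)⁻¹) * t⁻¹ = (w : G) * (v : G)⁻¹ := by
      have e3 : t * v * t⁻¹ = (v : G) * ((w : G)⁻¹ * (t * w * t⁻¹)) := by rw [← e]; group
      calc t * ((w : G) * (v : G)⁻¹) * t⁻¹ = (t * w * t⁻¹) * (t * v * t⁻¹)⁻¹ := by group
        _ = _ := by rw [e3]; group
    have := hf _ (N.mul_mem w.2 (N.inv_mem v.2)) (mul_inv_eq_iff_eq_mul.1 e2)
    exact (Subtype.ext (mul_inv_eq_one.1 this)).symm
  obtain ⟨v, hv⟩ := (Finite.injective_iff_surjective.mp hinj) ⟨n, hnN⟩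
  have e : (v : G)⁻¹ * (t * v * t⁻¹) = n := congrArg Subtype.val hv
  rw [← e, hti]
  simp only [mul_inv_rev, hti, inv_inv, mul_assoc, ht, mul_one]

/-- A subgroup inverted by two involutions is centralised by their product. -/
theorem commute_of_inverted {s t n : G} (h1 : s * n * s⁻¹ = n⁻¹) (h2 : t * n * t⁻¹ = n⁻¹) :
    Commute (s * t) n := by
  show s * t * n = n * (s * t)
  have e : s * t * n * (s * t)⁻¹ = n := by
    rw [show s * t * n * (s * t)⁻¹ = s * (t * n * t⁻¹) * s⁻¹ by group, h2,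
      show s * n⁻¹ * s⁻¹ = (s * n * s⁻¹)⁻¹ by group, h1, inv_inv]
  exact mul_inv_eq_iff_eq_mul.1 e

/-- An element of odd order which is inverted and centralised by the same element is trivial. -/
theorem eq_one_of_inverted {t n : G} (ho : Odd (orderOf n)) (h1 : t * n * t⁻¹ = n⁻¹) (h2 : Commute t n) :
    n = 1 := by
  rw [h2.eq, mul_inv_cancel_right] at h1
  have h3 : orderOf n ∣ 2 := orderOf_dvd_of_pow_eq_one (by rw [pow_two]; nth_rw 2 [h1]; exact mul_inv_cancel n)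
  rcases (Nat.dvd_prime Nat.prime_two).mp h3 with e | e
  · exact orderOf_eq_one_iff.mp e
  · rw [e] at ho; exact absurd ho (by decide)

/-- Two involutions which are not conjugate commute with a third involution. -/
theorem exists_central {x g : G} (hx : orderOf x = 2) (hg : orderOf g = 2)
    (hn : ∀ h : G, h * x * h⁻¹ ≠ g) : ∃ w : G, orderOf w = 2 ∧ Commute w x ∧ Commute w g ∧
      ∃ h : G, h * (x * w) * h⁻¹ = x ∨ h * (x * w) * h⁻¹ = g := by
  have hxx : x * x = 1 := mul_self_of_orderOf_two hx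
  have hgg : g * g = 1 := mul_self_of_orderOf_two hg
  have hxi : x⁻¹ = x := inv_eq_of_mul_eq_one_right hxx
  have hgi : g⁻¹ = g := inv_eq_of_mul_eq_one_right hgg
  set r := x * g with hr
  have hxr : x * r * x⁻¹ = r⁻¹ := by rw [hr, mul_inv_rev, hxi, hgi, ← mul_assoc, hxx, one_mul]
  have hgr : g * r * g⁻¹ = r⁻¹ := by rw [hr, mul_inv_rev, hxi, hgi, mul_assoc, mul_assoc, hgg, mul_one]
  have hk : ∀ k : ℕ, r ^ k * x = x * (r ^ k)⁻¹ := fun k => by
    rw [← inv_pow, ← hxr, conj_pow, hxi, ← mul_assoc, ← mul_assoc, hxx, one_mul]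
  have hev : Even (orderOf r) := by
    by_contra ho
    obtain ⟨k, hk'⟩ := Nat.not_even_iff_odd.mp ho
    refine hn (r ^ k) ?_
    have hp : r * r ^ (2 * k) = 1 := by rw [← pow_succ', ← hk', pow_orderOf_eq_one]
    calc r ^ k * x * (r ^ k)⁻¹ = x * (r ^ (2 * k))⁻¹ := by rw [hk, mul_assoc, ← mul_inv_rev, ← pow_add, two_mul]
      _ = x * r := by rw [← eq_inv_of_mul_eq_one_left hp]
      _ = g := by rw [hr, ← mul_assoc, hxx, one_mul]
  obtain ⟨m, hm⟩ := hev
  have hr0 : 0 < orderOf r := orderOf_pos r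
  have h2 : r ^ m * r ^ m = 1 := by rw [← pow_add, ← hm, pow_orderOf_eq_one]
  have hinv : (r ^ m)⁻¹ = r ^ m := inv_eq_of_mul_eq_one_right h2
  have hcomm : ∀ t : G, t * r * t⁻¹ = r⁻¹ → Commute (r ^ m) t := fun t ht => by
    show r ^ m * t = t * r ^ m
    symm
    rw [show t * r ^ m = (t * r ^ m * t⁻¹) * t by group, ← conj_pow, ht, inv_pow, hinv]
  refine ⟨r ^ m, ?_, hcomm x hxr, hcomm g hgr, ?_⟩
  · rw [orderOf_eq_iff two_pos]
    refine ⟨by rw [pow_two]; exact h2, fun j hj hj0 => ?_⟩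
    obtain rfl : j = 1 := by omega
    rw [pow_one]
    exact pow_ne_one_of_lt_orderOf (by omega) (by omega)
  · rcases Nat.even_or_odd m with ⟨j, hj⟩ | ⟨j, hj⟩
    · refine ⟨r ^ j, Or.inl ?_⟩
      calc r ^ j * (x * r ^ m) * (r ^ j)⁻¹ = r ^ j * x * r ^ j := by rw [hj, pow_add]; group
        _ = x := by rw [hk, inv_mul_cancel_right]
    · refine ⟨r ^ j, Or.inr ?_⟩
      calc r ^ j * (x * r ^ m) * (r ^ j)⁻¹ = r ^ j * x * r ^ j * r := by
            rw [show m = j + (j + 1) by omega, pow_add, pow_succ]; group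
        _ = x * r := by rw [hk, inv_mul_cancel_right]
        _ = g := by rw [hr, ← mul_assoc, hxx, one_mul]

/-- Glauberman's theorem inside a subgroup. -/
theorem exists_core (C : Subgroup G) {a : G} (ha : a ∈ C) (ha2 : orderOf a = 2)
    (hiso : ∀ g ∈ C, Commute a (g * a * g⁻¹) → g * a * g⁻¹ = a) :
    ∃ O : Subgroup G, O ≤ C ∧ Odd (Nat.card O) ∧ (∀ g ∈ C, ∀ n ∈ O, g * n * g⁻¹ ∈ O) ∧
      ∀ g ∈ C, a * g * a⁻¹ * g⁻¹ ∈ O := by
  have hi : Cfsg.IsIsolatedInvolution (⟨a, ha⟩ : C) := by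
    refine ⟨by rw [← Subgroup.orderOf_coe]; exact ha2, fun g hg => Subtype.ext ?_⟩
    exact hiso g g.2 (congrArg Subtype.val hg)
  obtain ⟨N, hN, hodd, hc⟩ := ZStar.exists_odd_normal hi
  refine ⟨N.map C.subtype, Subgroup.map_subtype_le _, ?_, ?_, fun g hg => ⟨_, hc ⟨g, hg⟩, by simp⟩⟩
  · rwa [Subgroup.card_map_of_injective C.subtype_injective]
  · rintro g hg _ ⟨n, hn, rfl⟩
    exact ⟨_, hN.conj_mem n hn ⟨g, hg⟩, by simp⟩

/-- Glauberman's theorem inside a subgroup, modulo a central involution. -/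
theorem exists_core_mod (C : Subgroup G) {x a : G} (hx : x ∈ C) (hx2 : orderOf x = 2) (ha : a ∈ C)
    (ha2 : orderOf a = 2) (hax : a ≠ x) (hcx : ∀ g ∈ C, g * x = x * g)
    (hiso : ∀ g ∈ C, (a * (g * a * g⁻¹) * a = g * a * g⁻¹ ∨ a * (g * a * g⁻¹) * a = g * a * g⁻¹ * x) →
      g * a * g⁻¹ = a ∨ g * a * g⁻¹ = a * x) :
    ∃ O : Subgroup G, O ≤ C ∧ Odd (Nat.card O) ∧ (∀ g ∈ C, ∀ n ∈ O, g * n * g⁻¹ ∈ O) ∧
      ∀ g ∈ C, ∃ o ∈ O, a * g * a⁻¹ * g⁻¹ = o ∨ a * g * a⁻¹ * g⁻¹ = o * x := by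
  classical
  have hxx : x * x = 1 := mul_self_of_orderOf_two hx2
  have haa : a * a = 1 := mul_self_of_orderOf_two ha2
  set Z : Subgroup C := Subgroup.zpowers ⟨x, hx⟩ with hZ
  haveI hZn : Z.Normal := ⟨fun w hw g => by
    obtain ⟨i, rfl⟩ := Subgroup.mem_zpowers_iff.mp hw
    have hc : Commute g (⟨x, hx⟩ : C) := Subtype.ext (hcx g g.2)
    rw [(hc.zpow_right i).eq, mul_inv_cancel_right]
    exact Subgroup.zpow_mem_zpowers _ i⟩
  have hZ2 : ∀ w ∈ Z, w = 1 ∨ w = ⟨x, hx⟩ := by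
    intro w hw
    obtain ⟨i, rfl⟩ := Subgroup.mem_zpowers_iff.mp hw
    have h2 : (⟨x, hx⟩ : C) ^ (2 : ℤ) = 1 := Subtype.ext (by simpa [pow_two] using hxx)
    rcases Int.even_or_odd i with ⟨j, rfl⟩ | ⟨j, rfl⟩
    · left; rw [← two_mul, zpow_mul, h2, one_zpow]
    · right; rw [zpow_add, zpow_mul, h2, one_zpow, one_mul, zpow_one]
  have hZc : Nat.card Z = 2 := by rw [Nat.card_zpowers, ← Subgroup.orderOf_coe, hx2]
  let π := QuotientGroup.mk' Z
  have hne : π ⟨a, ha⟩ ≠ 1 := by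
    intro h
    rcases hZ2 _ ((QuotientGroup.eq_one_iff _).1 h) with e | e
    · have := congrArg Subtype.val e
      rw [show a = 1 from this, orderOf_one] at ha2
      omega
    · exact hax (congrArg Subtype.val e)
  have hi : Cfsg.IsIsolatedInvolution (π ⟨a, ha⟩) := by
    refine ⟨orderOf_eq_prime (by rw [pow_two, ← map_mul, show (⟨a, ha⟩ : C) * ⟨a, ha⟩ = 1 from Subtype.ext haa,
      map_one]) hne, fun q hq => ?_⟩
    obtain ⟨g, rfl⟩ := QuotientGroup.mk'_surjective Z q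
    change Commute (π ⟨a, ha⟩) (π g * π ⟨a, ha⟩ * (π g)⁻¹) at hq
    show π g * π ⟨a, ha⟩ * (π g)⁻¹ = π ⟨a, ha⟩
    rw [← map_inv, ← map_mul, ← map_mul] at hq ⊢
    set y : C := g * ⟨a, ha⟩ * g⁻¹ with hy
    have hyG : (y : G) = g * a * (g : G)⁻¹ := rfl
    have hk : π (⟨a, ha⟩ * y * ⟨a, ha⟩ * y⁻¹) = 1 := by
      rw [map_mul, map_mul, map_mul, map_inv, hq.eq, mul_assoc (π y), ← map_mul π ⟨a, ha⟩,
        show (⟨a, ha⟩ : C) * ⟨a, ha⟩ = 1 from Subtype.ext haa, map_one, mul_one, mul_inv_cancel]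
    have hh : a * (y : G) * a = y ∨ a * (y : G) * a = y * x := by
      rcases hZ2 _ ((QuotientGroup.eq_one_iff _).1 hk) with e | e
      · left; exact mul_inv_eq_one.1 (congrArg Subtype.val e)
      · right
        rw [← hcx _ y.2 |>.symm]
        exact mul_inv_eq_iff_eq_mul.1 (congrArg Subtype.val e)
    rcases hiso g g.2 hh with e | e
    · exact congrArg π (Subtype.ext e)
    · exact (QuotientGroup.mk'_eq_mk' Z).2 ⟨⟨x, hx⟩, Subgroup.mem_zpowers _, Subtype.ext (by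
        show (y : G) * x = a
        rw [hyG, e, mul_assoc, hxx, mul_one])⟩
  obtain ⟨N, hN, hodd, hc⟩ := ZStar.exists_odd_normal hi
  set M := N.comap π with hM
  haveI hMn : M.Normal := hN.comap π
  have hker : Z ≤ M := fun w hw => by
    show π w ∈ N
    rw [show π w = 1 from (QuotientGroup.eq_one_iff w).2 hw]
    exact one_mem N
  set ZM := Z.subgroupOf M with hZM
  haveI : ZM.Normal := Subgroup.Normal.subgroupOf inferInstance M
  have hcZM : Nat.card ZM = 2 := by rw [Nat.card_congr (Subgroup.subgroupOfEquivOfLe hker).toEquiv, hZc]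
  have hindex : ZM.index = Nat.card N := by
    let ρ : M →* N := (π.comp M.subtype).codRestrict N fun m => m.2
    have hsur : Function.Surjective ρ := fun n => by
      obtain ⟨g, hg⟩ := QuotientGroup.mk'_surjective Z (n : C ⧸ Z)
      exact ⟨⟨g, show π g ∈ N by rw [show π g = n from hg]; exact n.2⟩, Subtype.ext hg⟩
    have hk : ρ.ker = ZM := by
      ext m
      rw [MonoidHom.mem_ker, Subgroup.mem_subgroupOf, ← QuotientGroup.eq_one_iff (N := Z)]
      exact Subtype.ext_iff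
    rw [← hk, Subgroup.index_ker, MonoidHom.range_eq_top.2 hsur, Subgroup.card_top]
  obtain ⟨H, hH⟩ := Subgroup.exists_right_complement'_of_coprime (N := ZM)
    (by rw [hcZM, hindex]; exact Nat.coprime_two_left.mpr hodd)
  have hHc : Nat.card H = Nat.card N := by
    have := hH.card_mul
    rw [← ZM.card_mul_index, hindex, hcZM] at this
    omega
  set O : Subgroup G := (H.map M.subtype).map C.subtype with hO
  have hOle : O ≤ C := Subgroup.map_subtype_le _
  have hOodd : Odd (Nat.card O) := by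
    rw [hO, Subgroup.card_map_of_injective C.subtype_injective, Subgroup.card_map_of_injective M.subtype_injective,
      hHc]
    exact hodd
  have hdec : ∀ m : C, m ∈ M → ∃ o ∈ O, (m : G) = o ∨ (m : G) = o * x := by
    intro m hm
    obtain ⟨⟨⟨e, he⟩, ⟨h, hh⟩⟩, heh⟩ := hH.2 ⟨m, hm⟩
    refine ⟨((h : M) : C), ⟨(h : C), ⟨h, hh, rfl⟩, rfl⟩, ?_⟩
    have e1 : ((m : C) : G) = ((e : C) : G) * ((h : C) : G) := by
      have := congrArg (fun w : M => ((w : C) : G)) heh
      simpa using this.symm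
    rcases hZ2 _ he with f | f
    · left; rw [e1, show ((e : C) : G) = 1 from congrArg Subtype.val f, one_mul]
    · right; rw [e1, show ((e : C) : G) = x from congrArg Subtype.val f, hcx _ (h : C).2]
  refine ⟨O, hOle, hOodd, ?_, fun g hg => ?_⟩
  · rintro g hg n ⟨n1, ⟨n2, hn2, rfl⟩, rfl⟩
    have hm : (⟨g, hg⟩ : C) * n2 * ⟨g, hg⟩⁻¹ ∈ M := hMn.conj_mem _ n2.2 _
    obtain ⟨o, ho, e | e⟩ := hdec _ hm
    · have e' : g * ((n2 : C) : G) * g⁻¹ = o := by simpa using e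
      exact e' ▸ ho
    · exfalso
      have e' : g * ((n2 : C) : G) * g⁻¹ = o * x := by simpa using e
      have hn : ((n2 : C) : G) ^ Nat.card O = 1 := by
        have := pow_card_eq_one' (G := O) (x := ⟨_, ⟨_, ⟨n2, hn2, rfl⟩, rfl⟩⟩)
        exact congrArg Subtype.val this
      have ho1 : o ^ Nat.card O = 1 := congrArg Subtype.val (pow_card_eq_one' (G := O) (x := ⟨o, ho⟩))
      have h1 : (o * x) ^ Nat.card O = 1 := by rw [← e', conj_pow, hn]; group
      rw [(show Commute o x from hcx o (hOle ho)).mul_pow, ho1, one_mul] at h1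
      have := orderOf_dvd_of_pow_eq_one h1
      rw [hx2] at this
      exact (Nat.not_even_iff_odd.2 hOodd) (even_iff_two_dvd.2 this)
  · have hm : (⟨a, ha⟩ : C) * ⟨g, hg⟩ * ⟨a, ha⟩⁻¹ * ⟨g, hg⟩⁻¹ ∈ M := by
      show π _ ∈ N
      simp only [map_mul, map_inv]
      exact hc _
    obtain ⟨o, ho, e⟩ := hdec _ hm
    exact ⟨o, ho, by simpa using e⟩

end Cfsg.Agent.Invol.S8Three
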