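import Cfsg.Agent.Lib.Invol.S8Three.Tab
import Cfsg.Agent.Lib.Invol.S8Three.Tools

/-! The three-local data in coordinates. -/

set_option autoImplicit false
set_option maxRecDepth 50000
set_option synthInstance.maxSize 1000
set_option linter.unusedSectionVars false
set_option linter.style.haveILetI false

namespace Cfsg.Agent.Invol.S8Three

universe u

open Equiv

/-- The three-local data. -/
structure Frame (G : Type u) [Group G] : Type u where
  f : P35 →* G
  inj : Function.Injective f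
  centz : ∀ g : G, g * f (c3, 1) = f (c3, 1) * g → g ∈ f.range
  invz : ∀ g : G, g * f (c3, 1) * g⁻¹ = (f (c3, 1))⁻¹ → g ∈ f.range
  n : G
  n_sq : n * n = 1
  n_z : n * f (c3, 1) * n = f (1, d5)
  n_u : n * f (1, t5) * n = f (1, t5)
  centy : ∀ g : G, g * f (c3, d5) = f (c3, d5) * g → g ∈ f.range ∨ g * n ∈ f.range
  sylow : ∀ H : Subgroup G, IsPGroup 3 H → Nat.card H ≤ 9
  twist : n * f (a3, 1) * n = f (1, e5) ∨ n * f (a3, 1) * n = f (1, e5 * t5)

/-! Tables -/

theorem involution_d : ∀ p : P35, p * p = 1 → p * (c3, 1) = (c3, 1) * p → p * (1, d5) = (1, d5) * p →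
    p = 1 ∨ p = (1, t5) := by decide +kernel

theorem cubes_zz : ∀ p : P35, p ^ 3 = 1 → p * (c3, d5) = (c3, d5) * p → ∃ i j : Fin 3, p = (c3 ^ (i : ℕ), d5 ^ (j : ℕ)) := by
  decide +kernel

theorem invol_z : ∀ p : P3, p * p = 1 → p * c3 = c3 * p → p = 1 := by decide +kernel

theorem invol_three : ∀ p : P5, p * p = 1 → p ≠ 1 → ∀ e : P5, e ^ 3 = 1 → e ≠ 1 → p * e = e * p →
    ∃ g : P5, g * t5 * g⁻¹ = p := by decide +kernel

theorem zz_sq : ∀ p : P35, p * (c3, d5) = (c3, d5) * p → ∃ q : P35, q = p * p ∧ q ^ 3 = 1 := by decide +kernel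

namespace Frame

variable {G : Type u} [Group G] [Finite G] (F : Frame G)

/-- The central element of order three. -/
def z : G := F.f (c3, 1)
/-- Its twin. -/
def z' : G := F.f (1, d5)
/-- The involution centralizing both. -/
def u : G := F.f (1, t5)
/-- An involution inverting `z`. -/
def a : G := F.f (a3, 1)

/-- The coordinates of the twin. -/
def f' : P35 →* G := ((MulAut.conj F.n).toMonoidHom).comp F.f

theorem n_inv : F.n⁻¹ = F.n := inv_eq_of_mul_eq_one_right F.n_sq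

theorem nn (g : G) : F.n * (F.n * g * F.n) * F.n = g := by
  rw [show F.n * (F.n * g * F.n) * F.n = (F.n * F.n) * g * (F.n * F.n) by group, F.n_sq, one_mul, mul_one]

theorem f'_apply (p : P35) : F.f' p = F.n * F.f p * F.n := by
  show F.n * F.f p * F.n⁻¹ = _
  rw [F.n_inv]

theorem inj' : Function.Injective F.f' := (MulAut.conj F.n).injective.comp F.inj

theorem n_f' (p : P35) : F.n * F.f' p * F.n = F.f p := by rw [F.f'_apply, F.nn]

theorem f'_c : F.f' (c3, 1) = F.z' := by rw [F.f'_apply, F.n_z]; rfl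

theorem f'_d : F.f' (1, d5) = F.z := by rw [F.f'_apply, ← F.n_z, F.nn]; rfl

theorem f'_t : F.f' (1, t5) = F.u := by rw [F.f'_apply, F.n_u]; rfl

theorem n_conj_comm {g x : G} (h : g * x = x * g) : F.n * g * F.n * (F.n * x * F.n) = F.n * x * F.n * (F.n * g * F.n) := by
  have := (commute_conj (g := F.n) (show Commute g x from h)).eq
  rwa [F.n_inv] at this

theorem centz' {g : G} (h : g * F.z' = F.z' * g) : g ∈ F.f'.range := by
  have h2 := F.n_conj_comm h
  rw [show F.n * F.z' * F.n = F.z from F.f'_d ▸ (F.f'_apply (1, d5)).symm] at h2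
  obtain ⟨p, hp⟩ := F.centz _ h2
  exact ⟨p, by rw [F.f'_apply, hp, F.nn]⟩

theorem zz' : F.z * F.z' = F.f (c3, d5) := by rw [z, z', ← map_mul]; rfl

theorem z_comm : F.z * F.z' = F.z' * F.z := by
  rw [z, z', ← map_mul, ← map_mul]; exact congrArg F.f (Prod.ext (by simp) (by simp))

theorem z_cube : F.z ^ 3 = 1 ∧ F.z ≠ 1 ∧ F.z' ^ 3 = 1 ∧ F.z' ≠ 1 := by
  refine ⟨?_, ?_, ?_, ?_⟩
  · rw [z, ← map_pow, show ((c3, 1) : P35) ^ 3 = 1 by decide, map_one]
  · exact fun e => absurd (F.inj (e.trans F.f.map_one.symm)) (by decide)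
  · rw [z', ← map_pow, show ((1, d5) : P35) ^ 3 = 1 by decide, map_one]
  · exact fun e => absurd (F.inj (e.trans F.f.map_one.symm)) (by decide)

theorem u_facts : F.u * F.u = 1 ∧ F.u ≠ 1 ∧ F.u * F.z = F.z * F.u ∧ F.u * F.z' = F.z' * F.u := by
  refine ⟨?_, ?_, ?_, ?_⟩
  · rw [u, ← map_mul, show ((1, t5) : P35) * (1, t5) = 1 by decide, map_one]
  · exact fun e => absurd (F.inj (e.trans F.f.map_one.symm)) (by decide)
  · rw [u, z, ← map_mul, ← map_mul]; exact congrArg F.f (by decide)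
  · rw [u, z', ← map_mul, ← map_mul]; exact congrArg F.f (by decide)

theorem u_order : orderOf F.u = 2 :=
  orderOf_eq_prime (by rw [pow_two]; exact F.u_facts.1) F.u_facts.2.1

/-- An element centralising `z` in coordinates. -/
theorem of_centz {g : G} (h : g * F.z = F.z * g) : ∃ p : P35, F.f p = g ∧ p * (c3, 1) = (c3, 1) * p := by
  obtain ⟨p, rfl⟩ := F.centz g h
  exact ⟨p, rfl, F.inj (by rw [map_mul, map_mul]; exact h)⟩

/-- The centraliser of both. -/
theorem of_centD {g : G} (h : g * F.z = F.z * g) (h' : g * F.z' = F.z' * g) :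
    ∃ p : P35, F.f p = g ∧ p * (c3, 1) = (c3, 1) * p ∧ p * (1, d5) = (1, d5) * p := by
  obtain ⟨p, rfl, hp⟩ := F.of_centz h
  exact ⟨p, rfl, hp, F.inj (by rw [map_mul, map_mul]; exact h')⟩

theorem invol_centD {g : G} (h2 : g * g = 1) (h1 : g ≠ 1) (h : g * F.z = F.z * g) (h' : g * F.z' = F.z' * g) :
    g = F.u := by
  obtain ⟨p, rfl, hp, hp'⟩ := F.of_centD h h'
  rcases involution_d p (F.inj (by rw [map_mul, h2, map_one])) hp hp' with rfl | rfl
  · exact absurd (map_one F.f) h1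
  · rfl

/-- The Sylow subgroup. -/
def D : Subgroup G := ((Subgroup.zpowers c3).prod (Subgroup.zpowers d5)).map F.f

theorem card_D : Nat.card F.D = 9 := by
  rw [D, Subgroup.card_map_of_injective F.inj, Nat.card_congr (Subgroup.prodEquiv _ _).toEquiv, Nat.card_prod,
    Nat.card_zpowers, Nat.card_zpowers,
    orderOf_eq_prime (show c3 ^ 3 = 1 by decide) (show c3 ≠ 1 by decide),
    orderOf_eq_prime (show d5 ^ 3 = 1 by decide) (show d5 ≠ 1 by decide)]

theorem z_mem_D : F.z ∈ F.D ∧ F.z' ∈ F.D :=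
  ⟨⟨(c3, 1), Subgroup.mem_prod.mpr ⟨Subgroup.mem_zpowers _, one_mem _⟩, rfl⟩,
    ⟨(1, d5), Subgroup.mem_prod.mpr ⟨one_mem _, Subgroup.mem_zpowers _⟩, rfl⟩⟩

theorem mem_D {g : G} (h : g ∈ F.D) : ∃ i j : ℤ, g = F.z ^ i * F.z' ^ j := by
  obtain ⟨⟨p, q⟩, hpq, rfl⟩ := h
  obtain ⟨⟨i, rfl⟩, ⟨j, rfl⟩⟩ := Subgroup.mem_prod.mp hpq
  refine ⟨i, j, ?_⟩
  rw [z, z', ← map_zpow, ← map_zpow, ← map_mul]
  refine congrArg F.f (Prod.ext ?_ ?_) <;> simp

theorem D_comm {g h : G} (hg : g ∈ F.D) (hh : h ∈ F.D) : g * h = h * g := by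
  obtain ⟨i, j, rfl⟩ := F.mem_D hg
  obtain ⟨k, l, rfl⟩ := F.mem_D hh
  have c : Commute F.z F.z' := F.z_comm
  exact ((((Commute.refl F.z).zpow_zpow i k).mul_right (c.zpow_zpow i l)).mul_left
    ((c.symm.zpow_zpow j k).mul_right ((Commute.refl F.z').zpow_zpow j l))).eq

theorem D_isPGroup : IsPGroup 3 F.D := IsPGroup.of_card (n := 2) (by rw [F.card_D]; norm_num)

theorem n_notMem : F.n ∉ F.f.range := by
  rintro ⟨r, hr⟩
  have h1 := F.n_z
  rw [← hr, ← map_mul, ← map_mul] at h1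
  have h2 := congrArg Prod.snd (F.inj h1)
  simp only [Prod.snd_mul, mul_one] at h2
  have hrr : r * r = 1 := F.inj (by rw [map_mul, hr, F.n_sq, map_one])
  rw [← Prod.snd_mul, hrr] at h2
  exact absurd h2 (by decide)

/-- Elements of order three centralising the product lie in the Sylow subgroup. -/
theorem cube_mem_D {g : G} (h3 : g ^ 3 = 1) (h : g * (F.z * F.z') = F.z * F.z' * g) : g ∈ F.D := by
  rw [F.zz'] at h
  rcases F.centy g h with ⟨p, hp⟩ | ⟨p, hp⟩
  · subst hp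
    obtain ⟨i, j, rfl⟩ := cubes_zz p (F.inj (by rw [map_pow, h3, map_one]))
      (F.inj (by rw [map_mul, map_mul]; exact h))
    exact ⟨_, Subgroup.mem_prod.mpr ⟨pow_mem (Subgroup.mem_zpowers _) _, pow_mem (Subgroup.mem_zpowers _) _⟩, rfl⟩
  · exfalso
    -- the square lies in the range, hence so do `g` and `n`
    have hgp : g = F.f p * F.n := by rw [hp, mul_assoc, F.n_sq, mul_one]
    have h2 : g * g * F.f (c3, d5) = F.f (c3, d5) * (g * g) := by
      rw [mul_assoc, h, ← mul_assoc, h, mul_assoc]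
    rcases F.centy (g * g) h2 with ⟨q, hq⟩ | ⟨q, hq⟩
    · have hg4 : g = g * g * (g * g) := by
        have : g ^ 4 = g := by rw [pow_succ, h3, one_mul]
        nth_rw 1 [← this]; simp only [pow_succ, pow_zero, one_mul, mul_assoc]
      have hn : F.n ∈ F.f.range := by
        refine ⟨p⁻¹ * (q * q), ?_⟩
        rw [map_mul, map_inv, map_mul, hq, ← hg4, hgp, inv_mul_cancel_left]
      obtain ⟨r, hr⟩ := hn
      exact F.n_notMem ⟨r, hr⟩
    · have hg : g ∈ F.f.range := by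
        refine ⟨q * p⁻¹, ?_⟩
        rw [map_mul, map_inv, hq, hp, mul_inv_rev, ← mul_assoc, mul_inv_cancel_right, mul_inv_cancel_right]
      obtain ⟨r, hr⟩ := hg
      exact F.n_notMem ⟨r⁻¹ * p, by rw [map_mul, map_inv, hr, hp, inv_mul_cancel_left]⟩
end Frame

variable {G : Type u} [Group G] [Finite G] (F : Frame G)

theorem exists_conj_mem (C : Subgroup G) (hD : F.D ≤ C) {y : G} (hy : y ∈ C) (h3 : y ^ 3 = 1) :
    ∃ k ∈ C, k⁻¹ * y * k ∈ F.D := by
  haveI := Fact.mk Nat.prime_three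
  obtain ⟨P, hP⟩ := ((F.D_isPGroup.of_equiv (Subgroup.subgroupOfEquivOfLe hD).symm)).exists_le_sylow
  have hPc : Nat.card P ≤ 9 := by
    have := F.sylow ((P : Subgroup C).map C.subtype) (P.isPGroup'.map _)
    rwa [Subgroup.card_map_of_injective C.subtype_injective] at this
  have hPe : F.D.subgroupOf C = P :=
    Subgroup.eq_of_le_of_card_ge hP (by rw [Nat.card_congr (Subgroup.subgroupOfEquivOfLe hD).toEquiv, F.card_D]; exact hPc)
  have hy' : IsPGroup 3 (Subgroup.zpowers (⟨y, hy⟩ : C)) := by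
    rcases (Nat.dvd_prime Nat.prime_three).mp
      (orderOf_dvd_of_pow_eq_one (show (⟨y, hy⟩ : C) ^ 3 = 1 from Subtype.ext h3)) with e | e
    · exact IsPGroup.of_card (n := 0) (by rw [Nat.card_zpowers, e]; rfl)
    · exact IsPGroup.of_card (n := 1) (by rw [Nat.card_zpowers, e]; rfl)
  obtain ⟨Q, hQ⟩ := hy'.exists_le_sylow
  obtain ⟨k, hk⟩ := MulAction.exists_smul_eq C P Q
  refine ⟨k, k.2, ?_⟩
  have h1 : (⟨y, hy⟩ : C) ∈ ((k • P : Sylow 3 C) : Subgroup C) := hk ▸ hQ (Subgroup.mem_zpowers _)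
  rw [Sylow.coe_subgroup_smul, Subgroup.mem_pointwise_smul_iff_inv_smul_mem] at h1
  rw [← hPe, Subgroup.mem_subgroupOf] at h1
  simpa [MulAut.smul_def, mul_assoc] using h1

/-- The centraliser of a conjugate of `u` contains the conjugate of the Sylow subgroup. -/
theorem exists_conj_D {h y : G} (hy : y * (h * F.u * h⁻¹) = h * F.u * h⁻¹ * y) (h3 : y ^ 3 = 1) :
    ∃ k : G, k * F.u * k⁻¹ = h * F.u * h⁻¹ ∧ k⁻¹ * y * k ∈ F.D := by
  have hDC : F.D ≤ Subgroup.centralizer ({F.u} : Set G) := fun g hg => by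
    obtain ⟨i, j, rfl⟩ := F.mem_D hg
    obtain ⟨-, -, c1, c2⟩ := F.u_facts
    exact Subgroup.mem_centralizer_singleton_iff.mpr
      (((show Commute F.u F.z from c1).zpow_right i).mul_right ((show Commute F.u F.z' from c2).zpow_right j)).symm.eq
  have hy1 : h⁻¹ * y * h ∈ Subgroup.centralizer ({F.u} : Set G) := by
    rw [Subgroup.mem_centralizer_singleton_iff]
    have := (commute_conj (g := h⁻¹) (show Commute y (h * F.u * h⁻¹) from hy)).eq
    rwa [inv_inv, show h⁻¹ * (h * F.u * h⁻¹) * h = F.u by group] at this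
  obtain ⟨k, hk, hkD⟩ := exists_conj_mem F _ hDC hy1
    (by rw [show h⁻¹ * y * h = h⁻¹ * y * h⁻¹⁻¹ by rw [inv_inv], conj_pow, h3]; group)
  refine ⟨h * k, ?_, by rw [show (h * k)⁻¹ * y * (h * k) = k⁻¹ * (h⁻¹ * y * h) * k by group]; exact hkD⟩
  rw [Subgroup.mem_centralizer_singleton_iff] at hk
  rw [show h * k * F.u * (h * k)⁻¹ = h * (k * F.u * k⁻¹) * h⁻¹ by group, hk, mul_inv_cancel_right]

/-- A conjugate of `u` centralising `z z'` is `u`. -/
theorem conj_u_of_y {h : G} (hy : (F.z * F.z') * (h * F.u * h⁻¹) = h * F.u * h⁻¹ * (F.z * F.z')) :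
    h * F.u * h⁻¹ = F.u := by
  obtain ⟨hz, -, hz', -⟩ := F.z_cube
  have hyD : F.z * F.z' ∈ F.D := F.D.mul_mem F.z_mem_D.1 F.z_mem_D.2
  obtain ⟨k, hk, hkD⟩ := exists_conj_D F hy (by
    rw [(show Commute F.z F.z' from F.z_comm).mul_pow, hz, hz', one_mul])
  have key : ∀ d ∈ F.D, k * d * k⁻¹ ∈ F.D := by
    intro d hd
    refine F.cube_mem_D ?_ ?_
    · obtain ⟨i, j, rfl⟩ := F.mem_D hd
      rw [conj_pow, ((show Commute F.z F.z' from F.z_comm).zpow_zpow i j).mul_pow, ← zpow_natCast, ← zpow_mul,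
        ← zpow_natCast, ← zpow_mul, mul_comm i, mul_comm j, zpow_mul, zpow_mul, zpow_natCast, zpow_natCast,
        hz, hz', one_zpow, one_zpow, one_mul, mul_one, mul_inv_cancel]
    · have := (commute_conj (g := k) (show Commute d _ from F.D_comm hd hkD)).eq
      rwa [show k * (k⁻¹ * (F.z * F.z') * k) * k⁻¹ = F.z * F.z' by group] at this
  have hle : F.D.map (MulAut.conj k).toMonoidHom ≤ F.D := by
    rintro _ ⟨d, hd, rfl⟩; exact key d hd
  have he := Subgroup.eq_of_le_of_card_ge hle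
    (le_of_eq (Subgroup.card_map_of_injective (MulAut.conj k).injective).symm)
  have hc : ∀ d ∈ F.D, h * F.u * h⁻¹ * d = d * (h * F.u * h⁻¹) := by
    intro d hd
    rw [← he] at hd
    obtain ⟨d0, hd0, rfl⟩ := hd
    rw [← hk]
    refine (commute_conj (g := k) ?_).eq
    obtain ⟨i, j, rfl⟩ := F.mem_D hd0
    obtain ⟨-, -, c1, c2⟩ := F.u_facts
    exact ((show Commute F.u F.z from c1).zpow_right i).mul_right ((show Commute F.u F.z' from c2).zpow_right j)
  refine F.invol_centD ?_ ?_ (hc _ F.z_mem_D.1) (hc _ F.z_mem_D.2)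
  · rw [show h * F.u * h⁻¹ * (h * F.u * h⁻¹) = h * (F.u * F.u) * h⁻¹ by group, F.u_facts.1, mul_one, mul_inv_cancel]
  · exact fun e => F.u_facts.2.1 (conj_one e)

/-- A conjugate of `u` centralising `z` is a transposition. -/
theorem conj_u_of_z {h : G} (hc : F.z * (h * F.u * h⁻¹) = h * F.u * h⁻¹ * F.z) :
    ∃ g : P5, F.f (1, g * t5 * g⁻¹) = h * F.u * h⁻¹ := by
  obtain ⟨hz, hz1, hz', -⟩ := F.z_cube
  obtain ⟨k, hk, hkD⟩ := exists_conj_D F hc hz
  obtain ⟨-, -, c1, c2⟩ := F.u_facts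
  have hu2 : h * F.u * h⁻¹ * (h * F.u * h⁻¹) = 1 := by
    rw [show h * F.u * h⁻¹ * (h * F.u * h⁻¹) = h * (F.u * F.u) * h⁻¹ by group, F.u_facts.1, mul_one, mul_inv_cancel]
  obtain ⟨p, hp, hpc⟩ := F.of_centz hc.symm
  have hp1 : p.1 = 1 := invol_z p.1
    (congrArg Prod.fst (F.inj (show F.f (p * p) = F.f 1 by rw [map_mul, hp, hu2, map_one])))
    (congrArg Prod.fst hpc)
  have hp2 : p.2 ≠ 1 := fun e => F.u_facts.2.1 (conj_one (g := h) (by
    rw [← hp, show p = 1 from Prod.ext hp1 e, map_one]))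
  -- some conjugate of a generator moves the five points
  obtain ⟨d, hd, hdm⟩ : ∃ d ∈ F.D, k * d * k⁻¹ ∉ Subgroup.zpowers F.z := by
    by_contra hcon
    push Not at hcon
    have hle : F.D.map (MulAut.conj k).toMonoidHom ≤ Subgroup.zpowers F.z := by
      rintro _ ⟨d, hd, rfl⟩; exact hcon d hd
    have := Subgroup.card_le_of_le hle
    rw [Subgroup.card_map_of_injective (MulAut.conj k).injective, F.card_D, Nat.card_zpowers,
      orderOf_eq_prime hz hz1] at this
    omega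
  have hdc : k * d * k⁻¹ * F.z = F.z * (k * d * k⁻¹) := by
    have := (commute_conj (g := k) (show Commute d _ from F.D_comm hd hkD)).eq
    rwa [show k * (k⁻¹ * F.z * k) * k⁻¹ = F.z by group] at this
  have hdu : h * F.u * h⁻¹ * (k * d * k⁻¹) = k * d * k⁻¹ * (h * F.u * h⁻¹) := by
    rw [← hk]
    refine (commute_conj (g := k) ?_).eq
    obtain ⟨i, j, rfl⟩ := F.mem_D hd
    exact ((show Commute F.u F.z from c1).zpow_right i).mul_right ((show Commute F.u F.z' from c2).zpow_right j)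
  obtain ⟨q, hq, hqc⟩ := F.of_centz hdc
  have hq3 : q ^ 3 = 1 := F.inj (by
    rw [map_pow, hq, map_one, conj_pow]
    obtain ⟨i, j, rfl⟩ := F.mem_D hd
    rw [((show Commute F.z F.z' from F.z_comm).zpow_zpow i j).mul_pow, ← zpow_natCast, ← zpow_mul,
      ← zpow_natCast, ← zpow_mul, mul_comm i, mul_comm j, zpow_mul, zpow_mul, zpow_natCast, zpow_natCast,
      hz, hz', one_zpow, one_zpow, one_mul, mul_one, mul_inv_cancel])
  have hq2 : q.2 ≠ 1 := by
    intro e
    refine hdm ?_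
    rw [← hq, show q = (q.1, 1) from Prod.ext rfl e]
    rcases ((cent_c q).mp hqc) with r | r | r <;> rw [r]
    · exact (show F.f ((1 : P3), (1 : P5)) = 1 from map_one F.f) ▸ one_mem _
    · exact Subgroup.mem_zpowers _
    · rw [show ((c3⁻¹, 1) : P35) = (c3, 1)⁻¹ from Prod.ext rfl (by simp), map_inv]
      exact inv_mem (Subgroup.mem_zpowers _)
  obtain ⟨g, hg⟩ := invol_three p.2
    (congrArg Prod.snd (F.inj (show F.f (p * p) = F.f 1 by rw [map_mul, hp, hu2, map_one])))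
    hp2 q.2 (congrArg Prod.snd hq3) hq2
    (congrArg Prod.snd (F.inj (show F.f (p * q) = F.f (q * p) by rw [map_mul, map_mul, hp, hq, hdu])))
  exact ⟨g, by rw [← hp]; exact congrArg F.f (Prod.ext hp1.symm hg)⟩

end Cfsg.Agent.Invol.S8Three
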