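import Cfsg.Agent.Lib.Invol.S8Three.TypeU

/-! The centraliser of a four-group of the five-point factor: basic facts and invariant 3'-subgroups. -/

set_option autoImplicit false
set_option maxRecDepth 50000
set_option synthInstance.maxSize 1000
set_option linter.unusedSectionVars false
set_option linter.style.haveILetI false

namespace Cfsg.Agent.Invol.S8Three

universe u

open Equiv

theorem fours_group : ∀ i : Fin 2, (1 : P5) ∈ fours i ∧ ∀ v ∈ fours i, v⁻¹ ∈ fours i := by decide +kernel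

theorem fours_disjoint : ∀ v ∈ fours 0, v ∈ fours 1 → v = 1 := by decide +kernel

theorem fours_three : ∀ v ∈ fours 0, v * d5 = d5 * v → v = 1 := by decide +kernel

theorem order_cases : ∀ w : P5, w ^ 4 = 1 ∨ w ^ 5 = 1 ∨ ((w ^ 2) ^ 3 = 1 ∧ w ^ 2 ≠ 1) := by decide +kernel

theorem t5_moves : ¬ ∀ v ∈ fours 0, t5 * v = v * t5 := by decide +kernel

theorem five_zero : ∀ p : P35, p ^ 7 = 1 → p = 1 := by decide +kernel

/-- A four-group normalised by `d5`. -/
def fourG (i : Fin 2) : Subgroup P5 where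
  carrier := {v | v ∈ fours i}
  one_mem' := (fours_group i).1
  mul_mem' := fun {a b} ha hb => (((fours_facts i a ha).2.2.1 b hb).2)
  inv_mem' := fun {a} ha => (fours_group i).2 a ha

variable {G : Type u} [Group G] [Finite G] (F : Frame G)

theorem mem_normalizer_of_conj {H : Subgroup G} {x : G} (h : ∀ y ∈ H, x * y * x⁻¹ ∈ H) :
    x ∈ Subgroup.normalizer (H : Set G) := by
  have hle : H.map (MulAut.conj x).toMonoidHom ≤ H := by
    rintro _ ⟨y, hy, rfl⟩; exact h y hy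
  have he := Subgroup.eq_of_le_of_card_ge hle
    (le_of_eq (Subgroup.card_map_of_injective (MulAut.conj x).injective).symm)
  refine Subgroup.mem_normalizer_iff.mpr fun y => ⟨h y, fun hy => ?_⟩
  rw [← he] at hy
  obtain ⟨w, hw, e⟩ := hy
  exact (MulAut.conj x).injective e ▸ hw

namespace Frame

/-- The four-group in the five-point factor. -/
def Vz : Subgroup G := (fourG 0).map (F.f.comp (MonoidHom.inr P3 P5))

/-- Its centraliser. -/
def K : Subgroup G := Subgroup.centralizer (F.Vz : Set G)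

theorem mem_Vz {g : G} : g ∈ F.Vz ↔ ∃ v ∈ fours 0, F.f (1, v) = g := Iff.rfl

theorem mem_K {g : G} : g ∈ F.K ↔ ∀ v ∈ fours 0, g * F.f (1, v) = F.f (1, v) * g := by
  rw [K, Subgroup.mem_centralizer_iff]
  refine ⟨fun h v hv => (h _ (F.mem_Vz.mpr ⟨v, hv, rfl⟩)).symm, fun h w hw => ?_⟩
  obtain ⟨v, hv, rfl⟩ := F.mem_Vz.mp hw
  exact (h v hv).symm

theorem f_mem_K {p : P35} : F.f p ∈ F.K ↔ p.2 ∈ fours 0 := by
  rw [F.mem_K, ← cent_four]
  refine forall₂_congr fun v _ => ⟨fun h => ?_, fun h => ?_⟩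
  · exact congrArg Prod.snd (F.inj (show F.f (p * (1, v)) = F.f ((1, v) * p) by rw [map_mul, map_mul, h]))
  · rw [← map_mul, ← map_mul]
    exact congrArg F.f (Prod.ext (by simp) (by simpa using h))

theorem Vz_le_K : F.Vz ≤ F.K := fun g hg => by
  obtain ⟨v, hv, rfl⟩ := F.mem_Vz.mp hg
  exact F.f_mem_K.mpr hv

theorem card_Vz : Nat.card F.Vz = 4 := by
  rw [Vz, Subgroup.card_map_of_injective
    (show Function.Injective (F.f.comp (MonoidHom.inr P3 P5)) from fun a b h => congrArg Prod.snd (F.inj h))]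
  have : Nat.card {v : P5 // v ∈ fours 0} = 4 := by
    rw [Nat.card_eq_fintype_card]; decide +kernel
  exact this

theorem D_norm_K {d : G} (hd : d ∈ F.D) {g : G} (hg : g ∈ F.K) : d * g * d⁻¹ ∈ F.K := by
  rw [F.mem_K] at hg ⊢
  intro v hv
  obtain ⟨⟨p, q⟩, hpq, rfl⟩ := hd
  obtain ⟨-, hq⟩ := Subgroup.mem_prod.mp hpq
  have hn : ∀ q ∈ Subgroup.zpowers d5, q⁻¹ * v * q ∈ fours 0 := by
    have hd5 : d5 ∈ Subgroup.normalizer (fourG 0 : Set P5) := by
      rw [Subgroup.mem_normalizer_iff]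
      show ∀ h : P5, h ∈ fours 0 ↔ d5 * h * d5⁻¹ ∈ fours 0
      decide +kernel
    intro q hq
    have h := ((Subgroup.mem_normalizer_iff.mp (inv_mem (Subgroup.zpowers_le.mpr hd5 hq))) v).1 hv
    rw [inv_inv] at h
    exact h
  have h1 := hg _ (hn q hq)
  have h2 := (commute_conj (g := F.f (p, q)) (show Commute g _ from h1)).eq
  rwa [show F.f (p, q) * F.f (1, q⁻¹ * v * q) * (F.f (p, q))⁻¹ = F.f (1, v) by
    rw [← map_inv, ← map_mul, ← map_mul]; exact congrArg F.f (Prod.ext (by simp) (by simp [mul_assoc]))] at h2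

theorem u_notMem_K : F.u ∉ F.K := fun h => by
  have h' := F.f_mem_K.mp h
  exact absurd h' (by decide)

theorem z_mem_K : F.z ∈ F.K := F.f_mem_K.mpr (show (1 : P5) ∈ fours 0 by decide)

theorem K_centz {g : G} (hg : g ∈ F.K) (hc : g * F.z = F.z * g) :
    ∃ p : P35, F.f p = g ∧ (p.1 = 1 ∨ p.1 = c3 ∨ p.1 = c3⁻¹) ∧ p.2 ∈ fours 0 := by
  obtain ⟨p, rfl, hp⟩ := F.of_centz hc
  exact ⟨p, rfl, (cent_c p).mp hp, F.f_mem_K.mp hg⟩

/-- The centraliser of `z z'⁻¹` normalises the Sylow subgroup as well. -/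
theorem comm_D_of_y {W : Subgroup G} (hW : ¬ 3 ∣ Nat.card W) (hWn : ∀ d ∈ F.D, ∀ w ∈ W, d * w * d⁻¹ ∈ W)
    {g : G} (hg : g ∈ W) (hn : ∀ d ∈ F.D, g * d * g⁻¹ ∈ F.D) : g * F.z = F.z * g ∧ g * F.z' = F.z' * g := by
  have key : ∀ d ∈ F.D, g * d = d * g := by
    intro d hd
    have h1 : g * d * g⁻¹ * d⁻¹ ∈ F.D := mul_mem (hn d hd) (inv_mem hd)
    have h2 : g * d * g⁻¹ * d⁻¹ ∈ W := by
      rw [show g * d * g⁻¹ * d⁻¹ = g * (d * g⁻¹ * d⁻¹) by group]
      exact mul_mem hg (hWn d hd _ (inv_mem hg))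
    refine mul_inv_eq_iff_eq_mul.1 (mul_inv_eq_one.1 ?_)
    by_contra hne
    have h3 : orderOf (g * d * g⁻¹ * d⁻¹) = 3 := orderOf_eq_prime (F.cube_of_D h1) hne
    exact hW (h3 ▸ Subgroup.orderOf_dvd_natCard _ h2)
  exact ⟨key _ F.z_mem_D.1, key _ F.z_mem_D.2⟩

theorem norm_D_of_y {g : G} (h : g * (F.z * F.z') = F.z * F.z' * g) {d : G} (hd : d ∈ F.D) :
    g * d * g⁻¹ ∈ F.D := by
  rcases F.conj_z_of_y h with ⟨h1, h2⟩ | ⟨h1, h2⟩
  · exact F.mem_D_of_conj (by rw [h1]; exact F.z_mem_D.1) (by rw [h2]; exact F.z_mem_D.2) hd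
  · exact F.mem_D_of_conj (by rw [h1]; exact F.z_mem_D.2) (by rw [h2]; exact F.z_mem_D.1) hd

theorem e_norm_D {d : G} (hd : d ∈ F.D) :
    F.f (1, e5) * d * (F.f (1, e5))⁻¹ ∈ F.D ∧ (F.f (1, e5))⁻¹ * d * F.f (1, e5) ∈ F.D := by
  obtain ⟨e1, e2, -⟩ := F.e_conj
  have h := F.mem_D_of_conj (g := F.f (1, e5)) (by rw [e1]; exact F.z_mem_D.1)
    (by rw [e2]; exact inv_mem F.z_mem_D.2) hd
  have hi : (F.f (1, e5))⁻¹ = F.f (1, e5) := by rw [← map_inv]; exact congrArg F.f (by decide)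
  refine ⟨h, ?_⟩
  rw [hi] at h ⊢
  exact h

theorem norm_D_of_y' {g : G} (h : g * (F.z * F.z'⁻¹) = F.z * F.z'⁻¹ * g) {d : G} (hd : d ∈ F.D) :
    g * d * g⁻¹ ∈ F.D := by
  obtain ⟨e1, e2, -⟩ := F.e_conj
  have h1 := (commute_conj (g := F.f (1, e5)) (show Commute g _ from h)).eq
  rw [show F.f (1, e5) * (F.z * F.z'⁻¹) * (F.f (1, e5))⁻¹ =
    (F.f (1, e5) * F.z * (F.f (1, e5))⁻¹) * (F.f (1, e5) * F.z' * (F.f (1, e5))⁻¹)⁻¹ by group, e1, e2, inv_inv] at h1
  have h2 := (F.e_norm_D (F.norm_D_of_y h1 (F.e_norm_D hd).1)).2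
  rwa [show (F.f (1, e5))⁻¹ * (F.f (1, e5) * g * (F.f (1, e5))⁻¹ * (F.f (1, e5) * d * (F.f (1, e5))⁻¹) *
    (F.f (1, e5) * g * (F.f (1, e5))⁻¹)⁻¹) * F.f (1, e5) = g * d * g⁻¹ by group] at h2

theorem no_seven_y {g : G} (h7 : g ^ 7 = 1) (h : g * (F.z * F.z') = F.z * F.z' * g) : g = 1 := by
  have hg : g ∈ F.f.range := by
    rcases F.conj_z_of_y h with ⟨h1, -⟩ | ⟨h1, h2⟩
    · exact F.mem_range_of_conj_z (Or.inl h1)
    · exfalso
      have e2 : g * g * F.z * (g * g)⁻¹ = F.z := by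
        rw [show g * g * F.z * (g * g)⁻¹ = g * (g * F.z * g⁻¹) * g⁻¹ by group, h1, h2]
      have hc : Commute (g * g) F.z := mul_inv_eq_iff_eq_mul.1 e2
      have e6 : (g * g) ^ 4 = g := by rw [← pow_two, ← pow_mul, pow_succ, h7, one_mul]
      have hc4 := hc.pow_left 4
      rw [e6] at hc4
      rw [hc4.eq, mul_inv_cancel_right] at h1
      exact absurd (F.inj h1) (by decide)
  obtain ⟨p, rfl⟩ := hg
  rw [five_zero p (F.inj (by rw [map_pow, h7, map_one])), map_one]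

/-- An element of order five or seven of `K` centralising a non-trivial element of the Sylow subgroup
centralises the twin. -/
theorem K_prime {x : G} (hx : x ∈ F.K) (hx1 : x ≠ 1) (hx5 : x ^ 5 = 1 ∨ x ^ 7 = 1) {d : G} (hd : d ∈ F.D) (hd1 : d ≠ 1)
    (hc : x * d = d * x) : x * F.z' = F.z' * x := by
  have hinv : ∀ w : G, Commute x w⁻¹ → Commute x w := fun w => Commute.inv_right_iff.mp
  rcases F.D_cases hd hd1 with h | h | h | h
  · exfalso
    have hz : Commute x F.z := by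
      rcases h with rfl | rfl
      exacts [hc, hinv _ hc]
    obtain ⟨p, rfl, -, hp2⟩ := F.K_centz hx hz.eq
    have key : ∀ t : P3, ∀ v ∈ fours 0, (((t, v) : P35) ^ 5 = 1 ∨ ((t, v) : P35) ^ 7 = 1) → ((t, v) : P35) = 1 := by
      decide +kernel
    refine hx1 ?_
    rw [show p = (p.1, p.2) from rfl, key p.1 p.2 hp2 ?_, map_one]
    rcases hx5 with e | e
    · exact Or.inl (F.inj (by rw [map_pow, e, map_one]))
    · exact Or.inr (F.inj (by rw [map_pow, e, map_one]))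
  · rcases h with rfl | rfl
    exacts [hc, (hinv _ hc).eq]
  · exfalso
    have hy : Commute x (F.z * F.z') := by
      rcases h with rfl | rfl
      exacts [hc, hinv _ hc]
    rcases hx5 with e | e
    · exact hx1 (F.no_five_y e hy.eq)
    · exact hx1 (F.no_seven_y e hy.eq)
  · exfalso
    have hy : Commute x (F.z * F.z'⁻¹) := by
      rcases h with rfl | rfl
      exacts [hc, hinv _ hc]
    obtain ⟨e1, e2, -⟩ := F.e_conj
    have h1 := (commute_conj (g := F.f (1, e5)) hy).eq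
    rw [show F.f (1, e5) * (F.z * F.z'⁻¹) * (F.f (1, e5))⁻¹ =
      (F.f (1, e5) * F.z * (F.f (1, e5))⁻¹) * (F.f (1, e5) * F.z' * (F.f (1, e5))⁻¹)⁻¹ by group, e1, e2, inv_inv] at h1
    rcases hx5 with e | e
    · exact hx1 (conj_one (F.no_five_y (by rw [conj_pow, e, mul_one, mul_inv_cancel]) h1))
    · exact hx1 (conj_one (F.no_seven_y (by rw [conj_pow, e, mul_one, mul_inv_cancel]) h1))

theorem D_not_cyclic : ¬ IsCyclic F.D := by
  intro h
  obtain ⟨g, hg⟩ := h.exists_generator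
  have h1 : orderOf g = 9 := by rw [orderOf_eq_card_of_forall_mem_zpowers hg, F.card_D]
  have h3 : orderOf g ∣ 3 := orderOf_dvd_of_pow_eq_one (Subtype.ext (F.cube_of_D g.2))
  rw [h1] at h3
  norm_num at h3

set_option maxHeartbeats 1000000 in
/-- Invariant subgroups of order prime to three of `K`. -/
theorem three_free (W : Subgroup G) (hWK : W ≤ F.K) (hW : ¬ 3 ∣ Nat.card W)
    (hWn : ∀ d ∈ F.D, ∀ w ∈ W, d * w * d⁻¹ ∈ W) :
    W ≤ F.Vz ∨ ∃ i : Fin 2, (∀ q ∈ fours i, F.f' (1, q) ∈ W) ∧ (∀ q, F.f' (1, q) ∈ W → q ∈ fours i) ∧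
      ∀ w ∈ W, ∃ v ∈ fours 0, ∃ q ∈ fours i, w = F.f (1, v) * F.f' (1, q) := by
  classical
  haveI : IsMulCommutative F.D := IsMulCommutative.of_comm fun a b => Subtype.ext (F.D_comm a.2 b.2)
  haveI := Fact.mk Nat.prime_three
  let T : Subgroup P5 := W.comap (F.f'.comp (MonoidHom.inr P3 P5))
  have hT : ∀ q, q ∈ T ↔ F.f' (1, q) ∈ W := fun q => Iff.rfl
  have hgood : ∀ q ∈ T, q ^ 4 = 1 ∨ q ^ 5 = 1 := by
    intro q hq
    rcases order_cases q with h | h | ⟨h3, h2⟩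
    · exact Or.inl h
    · exact Or.inr h
    · exfalso
      have hm : F.f' (1, q ^ 2) ∈ W := (hT _).1 (pow_mem hq 2)
      have ho : orderOf (F.f' (1, q ^ 2)) = 3 := orderOf_eq_prime
        (by rw [← map_pow, show ((1, q ^ 2) : P35) ^ 3 = 1 from Prod.ext (one_pow 3) h3, map_one])
        (fun e => h2 (congrArg Prod.snd (F.inj' (e.trans F.f'.map_one.symm))))
      exact hW (ho ▸ Subgroup.orderOf_dvd_natCard _ hm)
  have ht5 : t5 ∉ T := fun h => F.u_notMem_K (F.f'_t ▸ hWK h)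
  have hdT : ∀ q ∈ T, d5 * q * d5⁻¹ ∈ T := by
    intro q hq
    have := hWn _ F.z_mem_D.1 _ ((hT q).1 hq)
    rw [← F.f'_d, ← map_inv, ← map_mul, ← map_mul] at this
    exact (hT _).2 (by simpa using this)
  have hw : ∀ q ∈ T, wordsOk (imN q) = true := by
    intro q hq
    have hgs : ∀ x ∈ ([q, d5 * q * d5⁻¹, d5⁻¹ * q * d5] : List P5), x ∈ T := by
      have h2 := hdT _ (hdT _ hq)
      rw [show d5 * (d5 * q * d5⁻¹) * d5⁻¹ = (d5 * d5) * q * (d5 * d5)⁻¹ by group,
        show d5 * d5 = d5⁻¹ by decide, inv_inv] at h2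
      simp only [List.mem_cons, List.not_mem_nil, or_false]
      rintro x (rfl | rfl | rfl)
      exacts [hq, hdT _ hq, h2]
    have gd : ∀ x ∈ T, good (imN x) = true := by
      intro x hx
      simp only [good, Bool.and_eq_true, Bool.or_eq_true, beq_iff_eq, bne_iff_ne, mulN_imN]
      refine ⟨?_, ?_⟩
      · rcases hgood x hx with h | h
        · left; rw [← imN_one, ← h]; simp only [pow_succ, pow_zero, one_mul, mul_assoc]
        · right; rw [← imN_one, ← h]; simp only [pow_succ, pow_zero, one_mul, mul_assoc]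
      · rw [← words_const.1]
        exact fun e => ht5 (imN_inj e ▸ hx)
    simp only [wordsOk, ← words_const.2.1, ← words_const.2.2, mulN_imN]
    rw [show [imN q, imN (d5 * q * d5⁻¹), imN (d5⁻¹ * q * d5)] =
      ([q, d5 * q * d5⁻¹, d5⁻¹ * q * d5] : List P5).map imN from rfl]
    simp only [List.all_map, List.all_eq_true, Function.comp_apply, Bool.and_eq_true, mulN_imN]
    intro a ha
    refine ⟨gd a (hgs a ha), fun b hb => ⟨gd _ (mul_mem (hgs a ha) (hgs b hb)), fun c hc => ⟨?_, fun d hd => ?_⟩⟩⟩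
    · exact gd _ (mul_mem (mul_mem (hgs a ha) (hgs b hb)) (hgs c hc))
    · exact gd _ (mul_mem (mul_mem (mul_mem (hgs a ha) (hgs b hb)) (hgs c hc)) (hgs d hd))
  have hT4 : ∀ q ∈ T, q ∈ fours 0 ∨ q ∈ fours 1 := fun q hq => words_fours q (hw q hq)
  -- the fixed points
  have hfix : ∀ d ∈ F.D, d ≠ 1 → ∀ w ∈ W, w * d = d * w →
      (∃ v ∈ fours 0, w = F.f (1, v)) ∨ ∃ q ∈ T, w = F.f' (1, q) := by
    intro d hd hd1 w hw hwd
    have hinv : ∀ r : G, Commute w r⁻¹ → Commute w r := fun r => Commute.inv_right_iff.mp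
    have hk := Subgroup.orderOf_dvd_natCard W hw
    have key : ∀ t : P3, (t = 1 ∨ t = c3 ∨ t = c3⁻¹) → t ^ orderOf w = 1 → t = 1 := by
      intro t ht hpow
      have h3 : t ^ 3 = 1 := by rcases ht with rfl | rfl | rfl <;> decide
      have := Nat.dvd_gcd (orderOf_dvd_of_pow_eq_one hpow) (orderOf_dvd_of_pow_eq_one h3)
      rw [Nat.coprime_comm.mp ((Nat.Prime.coprime_iff_not_dvd Nat.prime_three).mpr fun h => hW (h.trans hk)),
        Nat.dvd_one, orderOf_eq_one_iff] at this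
      exact this
    have caseZ : Commute w F.z → ∃ v ∈ fours 0, w = F.f (1, v) := by
      intro hz
      obtain ⟨p, hp, hp1, hp2⟩ := F.K_centz (hWK hw) hz.eq
      have : p.1 = 1 := key _ hp1 (congrArg Prod.fst (F.inj (show F.f (p ^ orderOf w) = F.f 1 by
        rw [map_pow, hp, pow_orderOf_eq_one, map_one])))
      exact ⟨p.2, hp2, by rw [← hp]; exact congrArg F.f (Prod.ext this rfl)⟩
    have caseY : (∀ e ∈ F.D, w * e * w⁻¹ ∈ F.D) → ∃ v ∈ fours 0, w = F.f (1, v) :=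
      fun hn => caseZ (F.comm_D_of_y hW hWn hw hn).1
    rcases F.D_cases hd hd1 with h | h | h | h
    · refine Or.inl (caseZ ?_)
      rcases h with rfl | rfl
      exacts [hwd, hinv _ hwd]
    · right
      have hz : Commute w F.z' := by
        rcases h with rfl | rfl
        exacts [hwd, hinv _ hwd]
      obtain ⟨p, hp⟩ := F.centz' hz.eq
      have hpc : p * (c3, 1) = (c3, 1) * p := F.inj' (by rw [map_mul, map_mul, F.f'_c, hp]; exact hz.eq)
      have : p.1 = 1 := key _ ((cent_c p).mp hpc) (congrArg Prod.fst (F.inj' (show F.f' (p ^ orderOf w) = F.f' 1 by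
        rw [map_pow, hp, pow_orderOf_eq_one, map_one])))
      have he : w = F.f' (1, p.2) := by rw [← hp]; exact congrArg F.f' (Prod.ext this rfl)
      exact ⟨p.2, (hT _).2 (he ▸ hw), he⟩
    · refine Or.inl (caseY fun e he => F.norm_D_of_y ?_ he)
      rcases h with rfl | rfl
      exacts [hwd, (hinv _ hwd).eq]
    · refine Or.inl (caseY fun e he => F.norm_D_of_y' ?_ he)
      rcases h with rfl | rfl
      exacts [hwd, (hinv _ hwd).eq]
  have hgen := Grp.generated_by_centralizers F.D W F.D_not_cyclic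
    (fun d hd => mem_normalizer_of_conj (hWn d hd))
    (by rw [F.card_D, show (9 : ℕ) = 3 ^ 2 by norm_num]
        exact ((Nat.Prime.coprime_iff_not_dvd Nat.prime_three).mpr hW).pow_left 2)
  have hWle : W ≤ F.Vz ⊔ T.map (F.f'.comp (MonoidHom.inr P3 P5)) := by
    conv_lhs => rw [← hgen]
    refine iSup₂_le fun d hd w hw => ?_
    rcases hfix d hd.1 hd.2 w hw.1 (Subgroup.mem_centralizer_singleton_iff.mp hw.2) with ⟨v, hv, rfl⟩ | ⟨q, hq, rfl⟩
    · exact Subgroup.mem_sup_left (F.mem_Vz.mpr ⟨v, hv, rfl⟩)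
    · exact Subgroup.mem_sup_right ⟨q, hq, rfl⟩
  by_cases hne : ∀ q ∈ T, q = 1
  · left
    refine hWle.trans (sup_le le_rfl ?_)
    rintro _ ⟨q, hq, rfl⟩
    rw [hne q hq]
    exact (map_one (F.f'.comp (MonoidHom.inr P3 P5))).symm ▸ one_mem _
  · right
    push Not at hne
    obtain ⟨q, hq, hq1⟩ := hne
    have hcross : ∀ r ∈ T, ∀ s ∈ T, r ∈ fours 0 → s ∈ fours 1 → r ≠ 1 → s ≠ 1 → False := by
      intro r hr s hs hr0 hs1 r1 s1
      have := hw _ (mul_mem hr hs)
      rw [fours_cross r hr0 s hs1 r1 s1] at this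
      exact Bool.noConfusion this
    obtain ⟨i, hi⟩ : ∃ i : Fin 2, q ∈ fours i := by
      rcases hT4 q hq with h | h
      exacts [⟨0, h⟩, ⟨1, h⟩]
    have hsub : ∀ r ∈ T, r ∈ fours i := by
      intro r hr
      by_cases r1 : r = 1
      · rw [r1]; exact (fours_group i).1
      fin_cases i
      · exact (hT4 r hr).resolve_right fun h => hcross q hq r hr hi h hq1 r1
      · exact (hT4 r hr).resolve_left fun h => hcross r hr q hq h hi r1 hq1
    have hfull : ∀ r ∈ fours i, r ∈ T := by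
      intro r hr
      rcases fours_full i q hi hq1 r hr with rfl | rfl | rfl | rfl
      · exact one_mem T
      · exact hq
      · exact hdT _ hq
      · have h2 := hdT _ (hdT _ hq)
        rw [show d5 * (d5 * q * d5⁻¹) * d5⁻¹ = (d5 * d5) * q * (d5 * d5)⁻¹ by group,
          show d5 * d5 = d5⁻¹ by decide, inv_inv] at h2
        exact h2
    refine ⟨i, fun r hr => (hT r).1 (hfull r hr), fun r hr => hsub r ((hT r).2 hr), fun w hw' => ?_⟩
    have hle : T.map (F.f'.comp (MonoidHom.inr P3 P5)) ≤ Subgroup.normalizer (F.Vz : Set G) := by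
      rintro _ ⟨r, hr, rfl⟩
      have hrK : F.f' (1, r) ∈ F.K := hWK hr
      refine mem_normalizer_of_conj fun v hv => ?_
      obtain ⟨v', hv', rfl⟩ := F.mem_Vz.mp hv
      show F.f' (1, r) * F.f (1, v') * (F.f' (1, r))⁻¹ ∈ F.Vz
      rw [F.mem_K.mp hrK v' hv', mul_inv_cancel_right]
      exact hv
    have := hWle hw'
    rw [← SetLike.mem_coe, Subgroup.coe_mul_of_right_le_normalizer_left _ _ hle] at this
    obtain ⟨a, ha, b, hb, rfl⟩ := this
    obtain ⟨v, hv, rfl⟩ := F.mem_Vz.mp ha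
    obtain ⟨r, hr, rfl⟩ := hb
    exact ⟨v, hv, r, hsub r hr, rfl⟩
end Frame

end Cfsg.Agent.Invol.S8Three
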