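import Cfsg.Agent.Lib.Invol.S8Three.KBasic
import Cfsg.Agent.S3331
import Cfsg.Agent.Lib.Invol.PSp43Am.General

/-! The three shapes of the centraliser of a four-group of the five-point factor. -/

set_option autoImplicit false
set_option maxRecDepth 50000
set_option synthInstance.maxSize 1000
set_option linter.unusedSectionVars false
set_option linter.style.haveILetI false

namespace Cfsg.Agent.Invol.S8Three

universe u

open Equiv

theorem p3_normal : ∀ N : P3, N ≠ 1 → (N ^ 3 = 1 ∨ (N * c3 * N⁻¹ * c3⁻¹) ^ 3 = 1 ∧ N * c3 * N⁻¹ * c3⁻¹ ≠ 1) := by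
  decide +kernel

theorem five_cube : ∀ k : Fin 5, ((k : ℕ) * k * k) % 5 = 1 → (k : ℕ) = 1 := by decide

theorem seven_pick : ∀ k l : Fin 7, ((k : ℕ) * k * k) % 7 = 1 → ((l : ℕ) * l * l) % 7 = 1 →
    (k : ℕ) = 1 ∨ (l : ℕ) = 1 ∨ ((k : ℕ) * l) % 7 = 1 ∨ ((k : ℕ) * l * l) % 7 = 1 := by decide

theorem five_sign : ∀ e : P5, e ^ 5 = 1 → Equiv.Perm.sign e = 1 := by decide +kernel


theorem fours_not_normal : ∀ i : Fin 2, ∃ v ∈ fours i, f5 * v * f5⁻¹ ∉ fours i := by decide +kernel

theorem f5_even : Equiv.Perm.sign f5 = 1 := by decide +kernel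

variable {G : Type u} [Group G] [Finite G] (F : Frame G)

/-- Only `S₃` on top of the four-group. -/
def KS : Prop := ∀ g ∈ F.K, ∃ p : P35, p.2 ∈ fours 0 ∧ F.f p = g

/-- Two four-groups below `S₃`. -/
def KW : Prop := F.n * F.a * F.n = F.f (1, e5) ∧ ∃ i : Fin 2, (∀ q ∈ fours i, F.f' (1, q) ∈ F.K) ∧
  ∀ g ∈ F.K, ∃ v ∈ fours 0, ∃ q ∈ fours i, ∃ t : P3, g = F.f (1, v) * F.f' (1, q) * F.f (t, 1)

/-- The alternating group on top of the four-group. -/
def KA : Prop := (∀ e : P5, Equiv.Perm.sign e = 1 → F.f' (1, e) ∈ F.K) ∧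
  ∀ g ∈ F.K, ∃ v ∈ fours 0, ∃ e : P5, Equiv.Perm.sign e = 1 ∧ g = F.f (1, v) * F.f' (1, e)

theorem conj_pow_eq {H : Type*} [Group H] {d x : H} {k : ℕ} (h : d * x * d⁻¹ = x ^ k) :
    d * d * x * (d * d)⁻¹ = x ^ (k * k) ∧ d * d * d * x * (d * d * d)⁻¹ = x ^ (k * k * k) := by
  have h2 : d * d * x * (d * d)⁻¹ = x ^ (k * k) := by
    rw [show d * d * x * (d * d)⁻¹ = d * (d * x * d⁻¹) * d⁻¹ by group, h, ← conj_pow, h, ← pow_mul]
  refine ⟨h2, ?_⟩
  rw [show d * d * d * x * (d * d * d)⁻¹ = d * (d * d * x * (d * d)⁻¹) * d⁻¹ by group, h2, ← conj_pow, h, ← pow_mul,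
    mul_comm k (k * k)]

theorem exp_cube {H : Type*} [Group H] {p : ℕ} {d x : H} (hd : d ^ 3 = 1) (hx : orderOf x = p) {k : ℕ}
    (h : d * x * d⁻¹ = x ^ k) : (k * k * k) % p = 1 % p := by
  obtain ⟨-, h3⟩ := conj_pow_eq h
  rw [show d * d * d = 1 by rw [← hd]; simp [pow_succ, mul_assoc]] at h3
  simp only [inv_one, mul_one, one_mul] at h3
  have h4 : x ^ (k * k * k) = x ^ 1 := by rw [pow_one, ← h3]
  rw [pow_eq_pow_iff_modEq, hx] at h4
  exact h4

theorem pow_conj_one {H : Type*} [Group H] {p : ℕ} {d x : H} (hx : orderOf x = p) {k : ℕ} (hk : k % p = 1 % p)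
    (h : d * x * d⁻¹ = x ^ k) : x * d = d * x := by
  have h1 : x ^ k = x ^ 1 := by
    rw [pow_eq_pow_iff_modEq, hx]; exact hk
  rw [h1, pow_one] at h
  exact (mul_inv_eq_iff_eq_mul.1 h).symm

theorem exists_exp {H : Type*} [Group H] [Finite H] {p : ℕ} {P : Subgroup H} {d x : H} (hP : Subgroup.zpowers x = P)
    (hx : orderOf x = p) (hn : d * x * d⁻¹ ∈ P) : ∃ k : Fin p, d * x * d⁻¹ = x ^ (k : ℕ) := by
  classical
  rw [← hP, (isOfFinOrder_of_finite x).mem_zpowers_iff_mem_range_orderOf, hx] at hn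
  simp only [Finset.mem_image, Finset.mem_range] at hn
  obtain ⟨k, hk, e⟩ := hn
  exact ⟨⟨k, hk⟩, e.symm⟩

set_option maxHeartbeats 4000000 in
theorem k_cases : KS F ∨ KW F ∨ KA F := by
  classical
  haveI := Fact.mk Nat.prime_three
  set V : Subgroup F.K := F.Vz.subgroupOf F.K with hV
  have hVz : ∀ v : F.K, v ∈ V → ∀ g : F.K, g * v = v * g := by
    intro v hv g
    obtain ⟨w, hw, e⟩ : ∃ w ∈ fours 0, F.f (1, w) = (v : G) := F.mem_Vz.mp hv
    refine Subtype.ext ?_
    show (g : G) * (v : G) = (v : G) * (g : G)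
    rw [← e]
    exact F.mem_K.mp g.2 w hw
  haveI hVn : V.Normal := ⟨fun v hv g => by rw [hVz v hv g, mul_inv_cancel_right]; exact hv⟩
  have hVc : Nat.card V = 4 := by rw [hV, Nat.card_congr (Subgroup.subgroupOfEquivOfLe F.Vz_le_K).toEquiv, F.card_Vz]
  have hV3 : ∀ v : F.K, v ∈ V → v ^ 3 = 1 → v = 1 := by
    intro v hv h3
    obtain ⟨w, hw, e⟩ : ∃ w ∈ fours 0, F.f (1, w) = (v : G) := F.mem_Vz.mp hv
    have h3' : (v : G) ^ 3 = 1 := congrArg Subtype.val h3
    rw [← e, ← map_pow] at h3'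
    have h : ((1, w) : P35) ^ 3 = 1 := F.inj (h3'.trans F.f.map_one.symm)
    refine Subtype.ext ?_
    show (v : G) = 1
    rw [← e, show w = 1 from ?_]
    · exact map_one F.f
    · have h2 : w ^ 3 = 1 := congrArg Prod.snd h
      have h1 := (fours_facts 0 w hw).1
      rwa [pow_succ, pow_two, h1, one_mul] at h2
  obtain ⟨hz3, hz1, -, -⟩ := F.z_cube
  let π := QuotientGroup.mk' V
  set zb := π ⟨F.z, F.z_mem_K⟩ with hzb
  have hzb1 : zb ≠ 1 := by
    intro e
    obtain ⟨w, -, e'⟩ : ∃ w ∈ fours 0, F.f (1, w) = F.z :=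
      F.mem_Vz.mp ((QuotientGroup.eq_one_iff (⟨F.z, F.z_mem_K⟩ : F.K)).1 e)
    exact absurd (congrArg Prod.fst (F.inj e')) (show (1 : P3) ≠ c3 by decide)
  have hX : Nat.card (Subgroup.zpowers zb) = 3 := by
    rw [Nat.card_zpowers]
    refine orderOf_eq_prime ?_ hzb1
    rw [hzb, ← map_pow, show (⟨F.z, F.z_mem_K⟩ : F.K) ^ 3 = 1 from Subtype.ext hz3, map_one]
  have hC : Subgroup.centralizer (Subgroup.zpowers zb : Set (F.K ⧸ V)) = Subgroup.zpowers zb := by
    apply le_antisymm
    · intro q hq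
      obtain ⟨g, rfl⟩ := QuotientGroup.mk'_surjective V q
      have hc := Subgroup.mem_centralizer_iff.mp hq zb (Subgroup.mem_zpowers _)
      have h1 : π (g * ⟨F.z, F.z_mem_K⟩ * g⁻¹ * ⟨F.z, F.z_mem_K⟩⁻¹) = 1 := by
        rw [map_mul, map_mul, map_mul, map_inv, map_inv, ← hzb]
        change π g * zb * (π g)⁻¹ * zb⁻¹ = 1
        rw [← hc, mul_inv_cancel_right, mul_inv_cancel]
      have h2 : g * ⟨F.z, F.z_mem_K⟩ * g⁻¹ * ⟨F.z, F.z_mem_K⟩⁻¹ ∈ V := (QuotientGroup.eq_one_iff _).1 h1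
      set v := g * ⟨F.z, F.z_mem_K⟩ * g⁻¹ * (⟨F.z, F.z_mem_K⟩ : F.K)⁻¹ with hv
      have hzc : Commute v ⟨F.z, F.z_mem_K⟩ := (hVz v h2 _).symm
      have he : g * ⟨F.z, F.z_mem_K⟩ * g⁻¹ = v * ⟨F.z, F.z_mem_K⟩ := by rw [hv, inv_mul_cancel_right]
      have h3 := congrArg (· ^ 3) he
      simp only [conj_pow, show (⟨F.z, F.z_mem_K⟩ : F.K) ^ 3 = 1 from Subtype.ext hz3, hzc.mul_pow, mul_one,
        mul_inv_cancel] at h3
      rw [hV3 v h2 h3.symm, one_mul] at he
      have hgz : (g : G) * F.z = F.z * (g : G) := mul_inv_eq_iff_eq_mul.1 (congrArg Subtype.val he)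
      obtain ⟨p, hp, hp1, hp2⟩ := F.K_centz g.2 hgz
      obtain ⟨j, hj⟩ : ∃ j : ℕ, p.1 = c3 ^ j := by
        rcases hp1 with e | e | e
        exacts [⟨0, e⟩, ⟨1, e.trans (pow_one c3).symm⟩, ⟨2, e.trans (by decide)⟩]
      refine Subgroup.mem_zpowers_iff.mpr ⟨(j : ℤ), ?_⟩
      rw [zpow_natCast, hzb, ← map_pow]
      refine (QuotientGroup.mk'_eq_mk' V).2
        ⟨⟨F.f (1, p.2), F.f_mem_K.mpr hp2⟩, F.mem_Vz.mpr ⟨p.2, hp2, rfl⟩, Subtype.ext ?_⟩
      show F.z ^ j * F.f (1, p.2) = (g : G)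
      rw [← hp, Frame.z, ← map_pow, ← map_mul]
      exact congrArg F.f (Prod.ext (by simp [hj]) (by simp))
    · intro q hq
      obtain ⟨i, rfl⟩ := Subgroup.mem_zpowers_iff.mp hq
      refine Subgroup.mem_centralizer_iff.mpr fun r hr => ?_
      obtain ⟨j, rfl⟩ := Subgroup.mem_zpowers_iff.mp hr
      exact ((Commute.refl zb).zpow_zpow j i).eq
  -- the action of the Sylow subgroup
  have hDK : F.D ≤ Subgroup.normalizer (F.K : Set G) :=
    fun d hd => mem_normalizer_of_conj fun g hg => F.D_norm_K hd hg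
  let act : F.D →* MulAut F.K := (Subgroup.normalizerMonoidHom F.K).comp (Subgroup.inclusion hDK)
  have hact : ∀ (d : F.D) (g : F.K), ((act d g : F.K) : G) = (d : G) * g * (d : G)⁻¹ := fun d g => rfl
  letI : MulDistribMulAction F.D F.K := MulDistribMulAction.compHom F.K act
  -- the normal subgroup of order prime to three
  have hW : ∀ (N : Subgroup (F.K ⧸ V)), N.Normal → (Nat.card N).Coprime 3 →
      (∀ M : Subgroup (F.K ⧸ V), M.Normal → (Nat.card M).Coprime 3 → M ≤ N) →
      ∃ W : Subgroup G, W ≤ F.K ∧ F.Vz ≤ W ∧ ¬ 3 ∣ Nat.card W ∧ (∀ d ∈ F.D, ∀ w ∈ W, d * w * d⁻¹ ∈ W) ∧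
        (∀ g ∈ F.K, ∀ w ∈ W, g * w * g⁻¹ ∈ W) ∧ (∀ g : F.K, (g : G) ∈ W ↔ π g ∈ N) ∧
        Nat.card W = 4 * Nat.card N := by
    intro N hN hcop hmax
    have hcard : ∀ M : Subgroup (F.K ⧸ V), Nat.card (M.comap π) = 4 * Nat.card M := by
      intro M
      have hVM : V ≤ M.comap π := fun w hw => by
        show π w ∈ M
        rw [show π w = 1 from (QuotientGroup.eq_one_iff w).2 hw]; exact one_mem M
      rw [← Subgroup.card_mul_index (V.subgroupOf (M.comap π)),
        Nat.card_congr (Subgroup.subgroupOfEquivOfLe hVM).toEquiv, hVc]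
      congr 1
      let ρ : ↥(M.comap π) →* M := (π.comp (Subgroup.subtype _)).codRestrict _ fun m => m.2
      have hsur : Function.Surjective ρ := fun n => by
        obtain ⟨g, hg⟩ := QuotientGroup.mk'_surjective V (n : F.K ⧸ V)
        exact ⟨⟨g, show π g ∈ M by rw [show π g = n from hg]; exact n.2⟩, Subtype.ext hg⟩
      have hk : ρ.ker = V.subgroupOf _ := by
        ext m
        rw [MonoidHom.mem_ker, Subgroup.mem_subgroupOf, ← QuotientGroup.eq_one_iff (N := V)]
        exact Subtype.ext_iff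
      rw [← hk, Subgroup.index_ker, MonoidHom.range_eq_top.2 hsur, Subgroup.card_top]
    have h3 : ¬ 3 ∣ Nat.card (N.comap π) := by
      rw [hcard]
      intro h
      rcases Nat.prime_three.dvd_mul.mp h with h | h
      · omega
      · exact (Nat.Prime.coprime_iff_not_dvd Nat.prime_three).mp hcop.symm h
    have hVW : V ≤ N.comap π := fun w hw => by
      show π w ∈ N
      rw [show π w = 1 from (QuotientGroup.eq_one_iff w).2 hw]; exact one_mem N
    refine ⟨(N.comap π).map F.K.subtype, Subgroup.map_subtype_le _, ?_, ?_, ?_, ?_, ?_, ?_⟩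
    · intro v hv
      exact ⟨⟨v, F.Vz_le_K hv⟩, hVW hv, rfl⟩
    · rwa [Subgroup.card_map_of_injective F.K.subtype_injective]
    · rintro d hd _ ⟨w, hw, rfl⟩
      have hN' : ((N.comap π).map (act ⟨d, hd⟩).toMonoidHom).Normal :=
        (hN.comap π).map _ (act ⟨d, hd⟩).surjective
      have hM : ((N.comap π).map (act ⟨d, hd⟩).toMonoidHom).map π ≤ N := by
        refine hmax _ (hN'.map π (QuotientGroup.mk'_surjective V)) ?_
        refine ((Nat.Prime.coprime_iff_not_dvd Nat.prime_three).mpr fun h => h3 ?_).symm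
        refine h.trans ((Subgroup.card_dvd_of_surjective (π.subgroupMap _) (π.subgroupMap_surjective _)).trans ?_)
        exact (Nat.card_congr ((N.comap π).equivMapOfInjective _ (act ⟨d, hd⟩).injective).toEquiv).symm.dvd
      exact ⟨act ⟨d, hd⟩ w, hM ⟨_, ⟨w, hw, rfl⟩, rfl⟩, hact _ _⟩
    · rintro g hg _ ⟨w, hw, rfl⟩
      exact ⟨⟨g, hg⟩ * w * ⟨g, hg⟩⁻¹, (hN.comap π).conj_mem w hw _, rfl⟩
    · intro g
      refine ⟨?_, fun h => ⟨g, h, rfl⟩⟩
      rintro ⟨w, hw, e⟩
      rw [← show w = g from Subtype.ext e]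
      exact hw
    · rw [Subgroup.card_map_of_injective F.K.subtype_injective, hcard]
  have hcK : ∀ N : Subgroup (F.K ⧸ V), N.Normal → Nat.card F.K = 4 * Nat.card N * Nat.card ((F.K ⧸ V) ⧸ N) := by
    intro N hN
    rw [Subgroup.card_eq_card_quotient_mul_card_subgroup V, hVc,
      Subgroup.card_eq_card_quotient_mul_card_subgroup N]
    ring
  have hSyl : ∀ {p : ℕ} [Fact p.Prime], p ∣ Nat.card F.K → ¬ p * p ∣ Nat.card F.K → ∀ P : Sylow p F.K,
      Nat.card (P : Subgroup F.K) = p := by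
    intro p hp h1 h2 P
    have hf : (Nat.card F.K).factorization p = 1 := by
      have hne : Nat.card F.K ≠ 0 := Nat.card_pos.ne'
      have a1 := (hp.out.dvd_iff_one_le_factorization hne).mp h1
      by_contra hc
      exact h2 (by rw [← pow_two]; exact (hp.out.pow_dvd_iff_le_factorization hne).mpr (by omega))
    rw [P.card_eq_multiplicity, hf, pow_one]
  have hmove : ∀ {p : ℕ} [Fact p.Prime] (P : Sylow p F.K) (d : F.D), d • P = P →
      ∀ x : F.K, x ∈ (P : Subgroup F.K) → (d : G) * x * (d : G)⁻¹ ∈ (P : Subgroup F.K).map F.K.subtype := by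
    intro p _ P d hdP x hx
    refine ⟨act d x, ?_, hact d x⟩
    have : d • x ∈ ((d • P : Sylow p F.K) : Subgroup F.K) := ⟨x, hx, rfl⟩
    rwa [hdP] at this
  rcases S3331.result (Subgroup.zpowers zb) hX hC with h | h | h
  · -- a nilpotent normal subgroup below
    obtain ⟨N, hN, -, hcop, hq⟩ := h
    rcases hq with hq | ⟨⟨e⟩⟩
    · exfalso
      haveI : IsCyclic ((F.K ⧸ V) ⧸ N) := isCyclic_of_prime_card hq
      set ab := QuotientGroup.mk' N (π ⟨F.a, F.f_mem_K.mpr (show (1 : P5) ∈ fours 0 by decide)⟩) with hab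
      set zc := QuotientGroup.mk' N zb with hzc
      have hcm : ab * zc = zc * ab := IsCyclic.commGroup.mul_comm ab zc
      have h1 : ab * zc * ab⁻¹ = zc⁻¹ := by
        rw [hab, hzc, hzb, ← map_inv, ← map_mul, ← map_mul, ← map_inv, ← map_inv, ← map_mul, ← map_mul, ← map_inv]
        refine congrArg (fun w => QuotientGroup.mk' N (π w)) (Subtype.ext ?_)
        show F.a * F.z * F.a⁻¹ = F.z⁻¹
        simp only [Frame.a, Frame.z, ← map_inv, ← map_mul]
        exact congrArg F.f (by decide)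
      rw [hcm, mul_inv_cancel_right] at h1
      have h2 : zc * zc = 1 := by nth_rw 1 [h1]; exact inv_mul_cancel zc
      have h3 : zc ^ 3 = 1 := by
        rw [hzc, hzb, ← map_pow, ← map_pow, show (⟨F.z, F.z_mem_K⟩ : F.K) ^ 3 = 1 from Subtype.ext hz3, map_one, map_one]
      rw [pow_succ, pow_two, h2, one_mul] at h3
      have hm : zb ∈ N := (QuotientGroup.eq_one_iff _).1 h3
      have h4 : 3 ∣ Nat.card N := by
        have := Subgroup.orderOf_dvd_natCard N hm
        rwa [← Nat.card_zpowers, hX] at this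
      exact (Nat.Prime.coprime_iff_not_dvd Nat.prime_three).mp hcop.symm h4
    · have hmax : ∀ M : Subgroup (F.K ⧸ V), M.Normal → (Nat.card M).Coprime 3 → M ≤ N := by
        intro M hM hMc m hm
        by_contra hmN
        let θ := e.toMonoidHom.comp (QuotientGroup.mk' N)
        have hθs : Function.Surjective θ := e.surjective.comp (QuotientGroup.mk'_surjective N)
        have h1 : θ m ≠ 1 := fun h => hmN ((QuotientGroup.eq_one_iff m).1 (e.map_eq_one_iff.1 h))
        have hnm : (M.map θ).Normal := hM.map θ hθs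
        have hthree : ∀ w ∈ M.map θ, w ^ 3 = 1 → w = 1 := by
          intro w hw h3
          by_contra hw1
          have h5 : orderOf w = 3 := orderOf_eq_prime h3 hw1
          exact (Nat.Prime.coprime_iff_not_dvd Nat.prime_three).mp hMc.symm
            ((h5 ▸ Subgroup.orderOf_dvd_natCard _ hw).trans
              (Subgroup.card_dvd_of_surjective (θ.subgroupMap M) (θ.subgroupMap_surjective M)))
        rcases p3_normal _ h1 with h3 | ⟨h3, hne⟩
        · exact h1 (hthree _ ⟨m, hm, rfl⟩ h3)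
        · refine hne (hthree _ ?_ h3)
          rw [show θ m * c3 * (θ m)⁻¹ * c3⁻¹ = θ m * (c3 * (θ m)⁻¹ * c3⁻¹) by group]
          exact mul_mem ⟨m, hm, rfl⟩ (hnm.conj_mem _ (inv_mem ⟨m, hm, rfl⟩) c3)
      obtain ⟨W, hWK, hVW, hW3, hWD, hWnK, hWmem, -⟩ := hW N hN hcop hmax
      -- the symmetric group on three letters covers the quotient
      have hcover : ∀ g ∈ F.K, ∃ w ∈ W, ∃ t : P3, g = w * F.f (t, 1) := by
        intro g hg
        let ι : P3 →* F.K := (F.f.comp (MonoidHom.inl P3 P5)).codRestrict F.K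
          fun t => F.f_mem_K.mpr (show (1 : P5) ∈ fours 0 by decide)
        let χ : P3 →* (F.K ⧸ V) ⧸ N := ((QuotientGroup.mk' N).comp π).comp ι
        have hinj : Function.Injective χ := by
          rw [injective_iff_map_eq_one]
          intro t ht
          have hmW : (ι t : G) ∈ W := (hWmem _).2 ((QuotientGroup.eq_one_iff _).1 ht)
          by_contra ht1
          have key : ∀ t : P3, t ≠ 1 → (t ^ 3 = 1) ∨ ((t * c3 * t⁻¹ * c3⁻¹) ^ 3 = 1 ∧ t * c3 * t⁻¹ * c3⁻¹ ≠ 1) :=
            p3_normal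
          have h3W : ∀ w : P3, F.f (w, 1) ∈ W → w ^ 3 = 1 → w = 1 := by
            intro w hw h3
            by_contra hw1
            have h5 : orderOf (F.f (w, 1)) = 3 := orderOf_eq_prime
              (by rw [← map_pow, show ((w, 1) : P35) ^ 3 = 1 from Prod.ext h3 (one_pow 3), map_one])
              (fun e => hw1 (congrArg Prod.fst (F.inj (e.trans F.f.map_one.symm))))
            exact hW3 (h5 ▸ Subgroup.orderOf_dvd_natCard _ hw)
          rcases key t ht1 with h3 | ⟨h3, hne⟩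
          · exact ht1 (h3W t hmW h3)
          · refine hne (h3W _ ?_ h3)
            have hz : F.f (c3, 1) * (F.f (t, 1))⁻¹ * (F.f (c3, 1))⁻¹ ∈ W := hWnK _ F.z_mem_K _ (inv_mem hmW)
            have := mul_mem hmW hz
            change F.f (t, 1) * (F.f (c3, 1) * (F.f (t, 1))⁻¹ * (F.f (c3, 1))⁻¹) ∈ W at this
            rw [← map_inv, ← map_inv, ← map_mul, ← map_mul, ← map_mul] at this
            rwa [show ((t * c3 * t⁻¹ * c3⁻¹, 1) : P35) = (t, 1) * ((c3, 1) * (t, 1)⁻¹ * (c3, 1)⁻¹) from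
              Prod.ext (by simp [mul_assoc]) (by simp)]
        have hbij : Function.Bijective χ :=
          (Nat.bijective_iff_injective_and_card χ).mpr ⟨hinj, (Nat.card_congr e.toEquiv).symm⟩
        obtain ⟨t, ht⟩ := hbij.2 (QuotientGroup.mk' N (π ⟨g, hg⟩))
        refine ⟨g * (F.f (t, 1))⁻¹, ?_, t, by rw [inv_mul_cancel_right]⟩
        have : π (⟨g, hg⟩ * (ι t)⁻¹) ∈ N := (QuotientGroup.eq_one_iff _).1 (by
          rw [map_mul, map_inv, QuotientGroup.mk_mul, QuotientGroup.mk_inv]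
          exact mul_inv_eq_one.2 ht.symm)
        exact (hWmem _).2 this
      rcases F.three_free W hWK hW3 hWD with hle | ⟨i, hi1, hi2, hi3⟩
      · left
        intro g hg
        obtain ⟨w, hw, t, rfl⟩ := hcover g hg
        obtain ⟨v, hv, rfl⟩ := F.mem_Vz.mp (hle hw)
        exact ⟨(1, v) * (t, 1), by simpa using hv, map_mul _ _ _⟩
      · right; left
        refine ⟨?_, i, fun q hq => hWK (hi1 q hq), ?_⟩
        · rcases F.twist with h | h
          · exact h
          · exfalso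
            obtain ⟨q, hq, hq1⟩ : ∃ q ∈ fours i, q ≠ 1 := by fin_cases i <;> decide
            have ha : F.a = F.f' (1, e5 * t5) := by rw [F.f'_apply, ← h, F.nn]; rfl
            have hm := hWnK F.a (F.f_mem_K.mpr (show (1 : P5) ∈ fours 0 by decide)) _ (hi1 q hq)
            rw [ha, ← map_inv, ← map_mul, ← map_mul] at hm
            have he : ((1, e5 * t5) : P35) * (1, q) * (1, e5 * t5)⁻¹ = (1, (e5 * t5) * q * (e5 * t5)) := by
              refine Prod.ext (by simp) ?_
              show e5 * t5 * q * (e5 * t5)⁻¹ = _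
              rw [show (e5 * t5)⁻¹ = e5 * t5 by decide]
            rw [he] at hm
            have h1 := hi2 _ hm
            have h2 := (fours_facts i q hq).2.2.2.2.1
            have h3 : (e5 * t5) * q * (e5 * t5) = 1 := by
              fin_cases i
              · exact fours_disjoint _ h1 h2
              · exact fours_disjoint _ h2 h1
            refine hq1 ?_
            rw [show q = (e5 * t5) * ((e5 * t5) * q * (e5 * t5)) * (e5 * t5) by
              rw [show (e5 * t5) * ((e5 * t5) * q * (e5 * t5)) * (e5 * t5) =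
                ((e5 * t5) * (e5 * t5)) * q * ((e5 * t5) * (e5 * t5)) by group,
                show e5 * t5 * (e5 * t5) = 1 by decide, one_mul, mul_one], h3, mul_one]
            decide
        · intro g hg
          obtain ⟨w, hw, t, rfl⟩ := hcover g hg
          obtain ⟨v, hv, q, hq, rfl⟩ := hi3 w hw
          exact ⟨v, hv, q, hq, t, rfl⟩
  · -- the alternating group on five letters
    right; right
    obtain ⟨N, hN, hNc, hN2, ⟨e⟩⟩ := h
    haveI := Fact.mk (show Nat.Prime 5 by norm_num)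
    have hcop : (Nat.card N).Coprime 3 := by
      refine ((Nat.Prime.coprime_iff_not_dvd Nat.prime_three).mpr fun h => ?_).symm
      obtain ⟨y, hy⟩ := exists_prime_orderOf_dvd_card' 3 h
      have h2 := orderOf_dvd_of_pow_eq_one (hN2 y y.2)
      rw [Subgroup.orderOf_coe, hy] at h2
      norm_num at h2
    have h60 : Nat.card ((F.K ⧸ V) ⧸ N) = 60 := by
      rw [Nat.card_congr e.toEquiv, nat_card_alternatingGroup, Nat.card_fin]; rfl
    have hmax : ∀ M : Subgroup (F.K ⧸ V), M.Normal → (Nat.card M).Coprime 3 → M ≤ N := by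
      intro M hM hMc
      let θ := e.toMonoidHom.comp (QuotientGroup.mk' N)
      have hθs : Function.Surjective θ := e.surjective.comp (QuotientGroup.mk'_surjective N)
      rcases (hM.map θ hθs).eq_bot_or_eq_top with h | h
      · intro m hm
        have : θ m = 1 := Subgroup.mem_bot.mp (h ▸ (⟨m, hm, rfl⟩ : θ m ∈ M.map θ))
        exact (QuotientGroup.eq_one_iff m).1 (e.map_eq_one_iff.1 this)
      · exfalso
        have h1 := Subgroup.card_dvd_of_surjective (θ.subgroupMap M) (θ.subgroupMap_surjective M)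
        rw [h, Subgroup.card_top, nat_card_alternatingGroup, Nat.card_fin] at h1
        exact (Nat.Prime.coprime_iff_not_dvd Nat.prime_three).mp hMc.symm
          ((show 3 ∣ Nat.factorial 5 / 2 by decide).trans h1)
    obtain ⟨W, hWK, hVW, hW3, hWD, hWnK, hWmem, hWc⟩ := hW N hN hcop hmax
    have hK60 : Nat.card F.K = Nat.card W * 60 := by rw [hcK N hN, h60, hWc]
    have hWsmall : ¬ 5 ∣ Nat.card W := by
      rcases F.three_free W hWK hW3 hWD with hle | ⟨i, -, -, hi3⟩
      · intro h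
        have := h.trans (Subgroup.card_dvd_of_le hle)
        rw [F.card_Vz] at this
        omega
      · intro h
        obtain ⟨⟨y, hy⟩, hy5⟩ := exists_prime_orderOf_dvd_card' 5 h
        rw [← Subgroup.orderOf_coe] at hy5
        obtain ⟨v, hv, q, hq, e⟩ := hi3 y hy
        have hqK : F.f' (1, q) ∈ F.K := by
          have : F.f (1, v) ∈ F.K := F.Vz_le_K (F.mem_Vz.mpr ⟨v, hv, rfl⟩)
          have h' := mul_mem (inv_mem this) (hWK hy)
          rwa [e, inv_mul_cancel_left] at h'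
        have hc : Commute (F.f (1, v)) (F.f' (1, q)) := ((F.mem_K.mp hqK v hv)).symm
        have h2 : y ^ 2 = 1 := by
          rw [e, hc.mul_pow, ← map_pow, ← map_pow,
            show ((1, v) : P35) ^ 2 = 1 from Prod.ext (one_pow 2) (by rw [pow_two]; exact (fours_facts 0 v hv).1),
            show ((1, q) : P35) ^ 2 = 1 from Prod.ext (one_pow 2) (by rw [pow_two]; exact (fours_facts i q hq).1),
            map_one, map_one, mul_one]
        have := orderOf_dvd_of_pow_eq_one h2
        rw [show orderOf y = 5 from hy5] at this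
        omega
    have h5a : 5 ∣ Nat.card F.K := by rw [hK60]; exact dvd_mul_of_dvd_right (by norm_num) _
    have h5b : ¬ 5 * 5 ∣ Nat.card F.K := by
      rw [hK60, show Nat.card W * 60 = 5 * (Nat.card W * 12) by ring]
      intro h
      rcases (show Nat.Prime 5 by norm_num).dvd_mul.mp (Nat.dvd_of_mul_dvd_mul_left (by norm_num) h) with h | h
      · exact hWsmall h
      · omega
    obtain ⟨P, d, hd1, hdP⟩ : ∃ P : Sylow 5 F.K, ∃ d : F.D, d ≠ 1 ∧ d • P = P := by
      by_contra hcon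
      push Not at hcon
      have hfree : ∀ P : Sylow 5 F.K, MulAction.stabilizer F.D P = ⊥ := fun P => by
        rw [Subgroup.eq_bot_iff_forall]
        intro d hd
        by_contra h
        exact hcon P d h hd
      have h9 : 9 ∣ Nat.card (Sylow 5 F.K) := by
        rw [Nat.card_congr (MulAction.selfEquivOrbitsQuotientProd hfree), Nat.card_prod, F.card_D]
        exact dvd_mul_left 9 _
      have hn5 : Nat.card (Sylow 5 F.K) ∣ Nat.card F.K := by
        obtain ⟨P⟩ : Nonempty (Sylow 5 F.K) := inferInstance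
        exact P.card_dvd_index.trans (Subgroup.index_dvd_card _)
      have := h9.trans hn5
      rw [hK60, show Nat.card W * 60 = 3 * (Nat.card W * 20) by ring, show (9 : ℕ) = 3 * 3 by norm_num] at this
      rcases Nat.prime_three.dvd_mul.mp (Nat.dvd_of_mul_dvd_mul_left (by norm_num) this) with h | h
      · exact hW3 h
      · omega
    have hPc := hSyl h5a h5b P
    obtain ⟨⟨x, hxP⟩, hxo⟩ := exists_prime_orderOf_dvd_card' (G := ↥(P : Subgroup F.K)) 5 (by rw [hPc])
    rw [← Subgroup.orderOf_coe] at hxo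
    change orderOf x = 5 at hxo
    have hxG : orderOf (x : G) = 5 := by rw [Subgroup.orderOf_coe, hxo]
    have hxgen : Subgroup.zpowers (x : G) = (P : Subgroup F.K).map F.K.subtype := by
      refine Subgroup.eq_of_le_of_card_ge (Subgroup.zpowers_le.mpr ⟨x, hxP, rfl⟩) ?_
      rw [Subgroup.card_map_of_injective F.K.subtype_injective, hPc, Nat.card_zpowers, hxG]
    obtain ⟨k, hk⟩ := exists_exp hxgen hxG (hmove P d hdP x hxP)
    have hd3 : (d : G) ^ 3 = 1 := F.cube_of_D d.2
    have hk1 : (k : ℕ) = 1 := five_cube k (exp_cube hd3 hxG hk)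
    have hxd : (x : G) * d = (d : G) * x := pow_conj_one hxG (by rw [hk1]) hk
    have hx1 : (x : G) ≠ 1 := fun e => by rw [e, orderOf_one] at hxG; omega
    have hx5 : (x : G) ^ 5 = 1 := hxG ▸ pow_orderOf_eq_one _
    have hxz' := F.K_prime x.2 hx1 (Or.inl hx5) d.2 (fun e => hd1 (Subtype.ext e)) hxd
    obtain ⟨p, hp⟩ := F.centz' hxz'
    have hp1 : p.1 = 1 := by
      have key : ∀ t : P3, t ^ 5 = 1 → t = 1 := by decide
      exact key _ (congrArg Prod.fst (F.inj' (show F.f' (p ^ 5) = F.f' 1 by rw [map_pow, hp, hx5, map_one])))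
    have hp5 : p.2 ^ 5 = 1 :=
      congrArg Prod.snd (F.inj' (show F.f' (p ^ 5) = F.f' 1 by rw [map_pow, hp, hx5, map_one]))
    have hp2 : p.2 ≠ 1 := fun e => hx1 (by rw [← hp, show p = 1 from Prod.ext hp1 e, map_one])
    -- the alternating group centralises the four-group
    let H : Subgroup (alternatingGroup (Fin 5)) :=
      F.K.comap ((F.f'.comp (MonoidHom.inr P3 P5)).comp (alternatingGroup (Fin 5)).subtype)
    have hHtop : H = ⊤ := by
      let e1 : alternatingGroup (Fin 5) := ⟨p.2, five_sign _ hp5⟩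
      let e2 : alternatingGroup (Fin 5) := ⟨d5, by show Equiv.Perm.sign d5 = 1; decide⟩
      have m1 : e1 ∈ H := by
        show F.f' (1, p.2) ∈ F.K
        rw [show ((1, p.2) : P35) = p from Prod.ext hp1.symm rfl, hp]; exact x.2
      have m2 : e2 ∈ H := by
        show F.f' (1, d5) ∈ F.K
        rw [F.f'_d]; exact F.z_mem_K
      have o1 : orderOf e1 = 5 := orderOf_eq_prime (Subtype.ext hp5) fun e => hp2 (congrArg Subtype.val e)
      have o2 : orderOf e2 = 3 := orderOf_eq_prime (Subtype.ext (show d5 ^ 3 = 1 by decide))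
        fun e => absurd (congrArg Subtype.val e) (show d5 ≠ 1 by decide)
      have hc : Nat.card (alternatingGroup (Fin 5)) = 60 := by
        rw [nat_card_alternatingGroup, Nat.card_fin]; rfl
      have h15 : 15 ∣ Nat.card H := Nat.Coprime.mul_dvd_of_dvd_of_dvd (show Nat.Coprime 5 3 by norm_num)
        (by have h := Subgroup.orderOf_dvd_natCard H m1; rwa [o1] at h)
        (by have h := Subgroup.orderOf_dvd_natCard H m2; rwa [o2] at h)
      have hidx : H.index ∣ 4 := by
        have := H.card_mul_index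
        obtain ⟨m, hm⟩ := h15
        rw [hm, hc] at this
        exact ⟨m, by nlinarith⟩
      rcases H.normalCore_normal.eq_bot_or_eq_top with hb | ht
      · exfalso
        have hle : Nat.card (alternatingGroup (Fin 5)) ≤ Nat.card (Equiv.Perm (alternatingGroup (Fin 5) ⧸ H)) := by
          refine Nat.card_le_card_of_injective (MulAction.toPermHom _ (alternatingGroup (Fin 5) ⧸ H)) ?_
          rw [← MonoidHom.ker_eq_bot_iff, ← Subgroup.normalCore_eq_ker]; exact hb
        rw [hc, Nat.card_perm, ← Subgroup.index_eq_card] at hle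
        have := Nat.factorial_le (Nat.le_of_dvd (by norm_num) hidx)
        norm_num [Nat.factorial] at this
        omega
      · exact eq_top_iff.mpr (ht ▸ H.normalCore_le)
    have hA : ∀ e : P5, Equiv.Perm.sign e = 1 → F.f' (1, e) ∈ F.K := fun e he => by
      have : (⟨e, he⟩ : alternatingGroup (Fin 5)) ∈ H := hHtop ▸ Subgroup.mem_top _
      exact this
    have hWV : W ≤ F.Vz := by
      rcases F.three_free W hWK hW3 hWD with hle | ⟨i, hi1, hi2, -⟩
      · exact hle
      · exfalso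
        obtain ⟨v, hv, hv'⟩ := fours_not_normal i
        refine hv' (hi2 _ ?_)
        have := hWnK _ (hA f5 f5_even) _ (hi1 v hv)
        rw [← map_inv, ← map_mul, ← map_mul] at this
        simpa using this
    refine ⟨hA, fun g hg => ?_⟩
    have hWc4 : Nat.card W = 4 := by
      rw [← F.card_Vz]
      exact le_antisymm (Subgroup.card_le_of_le hWV) (Subgroup.card_le_of_le hVW)
    let χ : fourG 0 × alternatingGroup (Fin 5) → F.K := fun r =>
      ⟨F.f (1, r.1.1) * F.f' (1, r.2.1), mul_mem (F.Vz_le_K (F.mem_Vz.mpr ⟨_, r.1.2, rfl⟩)) (hA _ r.2.2)⟩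
    have hinj : Function.Injective χ := by
      rintro ⟨⟨v, hv⟩, ⟨a, ha⟩⟩ ⟨⟨v', hv'⟩, ⟨a', ha'⟩⟩ h
      have h' : F.f (1, v) * F.f' (1, a) = F.f (1, v') * F.f' (1, a') := congrArg Subtype.val h
      have h1 : F.f ((1, v') ⁻¹ * (1, v)) = F.f' ((1, a') * (1, a)⁻¹) := by
        rw [map_mul, map_mul, map_inv, map_inv, eq_mul_inv_iff_mul_eq, mul_assoc, h', inv_mul_cancel_left]
      set w := v'⁻¹ * v with hw
      have hwm : w ∈ fours 0 := (fours_facts 0 _ ((fours_group 0).2 v' hv')).2.2.1 v hv |>.2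
      have h2 : F.f (1, w) = F.f' (1, a' * a⁻¹) := by simpa using h1
      have hz : F.f (1, w) * F.z' = F.z' * F.f (1, w) := by
        rw [h2, ← F.f'_c, ← map_mul, ← map_mul]; exact congrArg F.f' (Prod.ext (by simp) (by simp))
      have hw1 : w = 1 := fours_three w hwm
        (congrArg Prod.snd (F.inj (show F.f ((1, w) * (1, d5)) = F.f ((1, d5) * (1, w)) by rw [map_mul, map_mul]; exact hz)))
      have e1 : v = v' := (inv_mul_eq_one.mp hw1).symm
      have e2 : a = a' := by
        rw [hw1] at h2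
        have := congrArg Prod.snd (F.inj' (h2.symm.trans ((map_one F.f).trans F.f'.map_one.symm)))
        exact (mul_inv_eq_one.mp this).symm
      subst e1 e2; rfl
    have hb : Function.Bijective χ := (Nat.bijective_iff_injective_and_card χ).mpr ⟨hinj, by
      rw [hK60, hWc4, Nat.card_prod, nat_card_alternatingGroup, Nat.card_fin]
      rw [show Nat.card (fourG 0) = 4 by
        show Nat.card {v : P5 // v ∈ fours 0} = 4
        rw [Nat.card_eq_fintype_card]; decide +kernel]
      rfl⟩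
    obtain ⟨⟨⟨v, hv⟩, ⟨a, ha⟩⟩, e⟩ := hb.2 ⟨g, hg⟩
    exact ⟨v, hv, a, ha, (congrArg Subtype.val e).symm⟩
  · -- the simple group of order 168
    exfalso
    obtain ⟨e⟩ := h
    haveI := Fact.mk (show Nat.Prime 7 by norm_num)
    have h168 : Nat.card F.K = 672 := by
      rw [Subgroup.card_eq_card_quotient_mul_card_subgroup V, hVc, Nat.card_congr e.toEquiv]
      have h := Dickson.card_psl_odd (F := ZMod 7) (by rw [ZMod.card]; decide)
      rw [ZMod.card] at h
      omega
    have hn : ¬ 3 ∣ Nat.card (Sylow 7 F.K) := by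
      obtain ⟨P⟩ : Nonempty (Sylow 7 F.K) := inferInstance
      have h1 : Nat.card (Sylow 7 F.K) ∣ 672 := h168 ▸ P.card_dvd_index.trans (Subgroup.index_dvd_card _)
      have h2 := card_sylow_modEq_one 7 F.K
      have key : ∀ n ∈ Nat.divisors 672, n % 7 = 1 → ¬ 3 ∣ n := by decide +kernel
      exact key _ (Nat.mem_divisors.mpr ⟨h1, by norm_num⟩) h2
    obtain ⟨P, hPfix⟩ : ∃ P : Sylow 7 F.K, ∀ d : F.D, d • P = P := by
      have := F.D_isPGroup.card_modEq_card_fixedPoints (Sylow 7 F.K)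
      have hne : Nat.card (MulAction.fixedPoints F.D (Sylow 7 F.K)) ≠ 0 := fun h => hn (by
        rw [h] at this
        exact Nat.modEq_zero_iff_dvd.mp this)
      obtain ⟨⟨P, hP⟩⟩ := (Nat.card_ne_zero.mp hne).1
      exact ⟨P, hP⟩
    have hPc := hSyl (p := 7) (by rw [h168]; norm_num) (by rw [h168]; norm_num) P
    obtain ⟨⟨x, hxP⟩, hxo⟩ := exists_prime_orderOf_dvd_card' (G := ↥(P : Subgroup F.K)) 7 (by rw [hPc])
    rw [← Subgroup.orderOf_coe] at hxo
    change orderOf x = 7 at hxo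
    have hxG : orderOf (x : G) = 7 := by rw [Subgroup.orderOf_coe, hxo]
    have hxgen : Subgroup.zpowers (x : G) = (P : Subgroup F.K).map F.K.subtype := by
      refine Subgroup.eq_of_le_of_card_ge (Subgroup.zpowers_le.mpr ⟨x, hxP, rfl⟩) ?_
      rw [Subgroup.card_map_of_injective F.K.subtype_injective, hPc, Nat.card_zpowers, hxG]
    obtain ⟨k, hk⟩ := exists_exp hxgen hxG (hmove P ⟨F.z, F.z_mem_D.1⟩ (hPfix _) x hxP)
    obtain ⟨l, hl⟩ := exists_exp hxgen hxG (hmove P ⟨F.z', F.z_mem_D.2⟩ (hPfix _) x hxP)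
    obtain ⟨-, -, hz'3, hz'1⟩ := F.z_cube
    have hkl : F.z * F.z' * (x : G) * (F.z * F.z')⁻¹ = (x : G) ^ ((k : ℕ) * l) := by
      rw [show F.z * F.z' * (x : G) * (F.z * F.z')⁻¹ = F.z * (F.z' * (x : G) * F.z'⁻¹) * F.z⁻¹ by group]
      change F.z * (F.z' * (x : G) * F.z'⁻¹) * F.z⁻¹ = _
      rw [show F.z' * (x : G) * F.z'⁻¹ = (x : G) ^ (l : ℕ) from hl, ← conj_pow,
        show F.z * (x : G) * F.z⁻¹ = (x : G) ^ (k : ℕ) from hk, ← pow_mul]
    have hkl2 : F.z * F.z' * F.z' * (x : G) * (F.z * F.z' * F.z')⁻¹ = (x : G) ^ ((k : ℕ) * l * l) := by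
      rw [show F.z * F.z' * F.z' * (x : G) * (F.z * F.z' * F.z')⁻¹ =
          F.z * F.z' * (F.z' * (x : G) * F.z'⁻¹) * (F.z * F.z')⁻¹ by group,
        show F.z' * (x : G) * F.z'⁻¹ = (x : G) ^ (l : ℕ) from hl, ← conj_pow, hkl, ← pow_mul]
    have hx1 : (x : G) ≠ 1 := fun e => by rw [e, orderOf_one] at hxG; omega
    have hx7 : (x : G) ^ 7 = 1 := hxG ▸ pow_orderOf_eq_one _
    have fin : ∀ (d : G), d ∈ F.D → d ≠ 1 → (x : G) * d = d * x → False := by
      intro d hd hd1 hc
      obtain ⟨p, hp⟩ := F.centz' (F.K_prime x.2 hx1 (Or.inr hx7) hd hd1 hc)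
      refine hx1 ?_
      rw [← hp, five_zero p (F.inj' (by rw [map_pow, hp, hx7, map_one])), map_one]
    have hne : ∀ q : P35, q ≠ 1 → F.f q ≠ 1 := fun q hq e => hq (F.inj (e.trans F.f.map_one.symm))
    rcases seven_pick k l (exp_cube hz3 hxG hk) (exp_cube hz'3 hxG hl) with h | h | h | h
    · exact fin _ F.z_mem_D.1 hz1 (pow_conj_one hxG (by rw [h]) hk)
    · exact fin _ F.z_mem_D.2 hz'1 (pow_conj_one hxG (by rw [h]) hl)
    · refine fin _ (mul_mem F.z_mem_D.1 F.z_mem_D.2) ?_ (pow_conj_one hxG (by rw [h]) hkl)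
      rw [F.zz']; exact hne _ (by decide)
    · refine fin _ (mul_mem (mul_mem F.z_mem_D.1 F.z_mem_D.2) F.z_mem_D.2) ?_ (pow_conj_one hxG (by rw [h]) hkl2)
      rw [F.zz', Frame.z', ← map_mul]; exact hne _ (by decide)

end Cfsg.Agent.Invol.S8Three
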