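import Mathlib

/-! Permutations of `Fin n` as lists of numbers, for evaluation in the kernel. -/

set_option autoImplicit false

namespace Cfsg.Agent.Invol.S8Three

/-- The list of images. -/
def imN {n : ℕ} (σ : Equiv.Perm (Fin n)) : List ℕ := (List.finRange n).map fun i => (σ i).val

/-- Composition. -/
def mulN (l m : List ℕ) : List ℕ := m.map fun x => l.getD x 0

theorem imN_get {n : ℕ} (σ : Equiv.Perm (Fin n)) (i : Fin n) : (imN σ).getD i.val 0 = (σ i).val := by
  simp [imN, List.getD_eq_getElem?_getD]

theorem mulN_imN {n : ℕ} (σ τ : Equiv.Perm (Fin n)) : mulN (imN σ) (imN τ) = imN (σ * τ) := by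
  rw [mulN]
  show List.map _ ((List.finRange n).map _) = _
  rw [List.map_map]
  refine List.map_congr_left fun i _ => ?_
  exact imN_get σ (τ i)

theorem imN_inj {n : ℕ} {σ τ : Equiv.Perm (Fin n)} (h : imN σ = imN τ) : σ = τ := by
  refine Equiv.ext fun i => Fin.ext ?_
  rw [← imN_get σ i, h, imN_get]

theorem imN_one {n : ℕ} : imN (1 : Equiv.Perm (Fin n)) = List.range n := by
  simp [imN, ← List.map_coe_finRange_eq_range]

end Cfsg.Agent.Invol.S8Three
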