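import Cfsg.Agent.Lib.Invol.S8Three.Lists

/-! The configuration in Sym(6). -/

set_option autoImplicit false
set_option maxRecDepth 50000

namespace Cfsg.Agent.Invol.S8Three

open Equiv

abbrev P6 := Equiv.Perm (Fin 6)

def reps6 : Fin 2 → P6
  | 0 => swap 0 1 * swap 1 2
  | 1 => swap 0 1 * swap 1 2 * (swap 3 4 * swap 4 5)

def repL : Fin 2 → List ℕ
  | 0 => [1, 2, 0, 3, 4, 5]
  | 1 => [1, 2, 0, 4, 5, 3]

theorem repL_eq : ∀ k, imN (reps6 k) = repL k ∧ imN (reps6 k)⁻¹ = mulN (repL k) (repL k) := by decide +kernel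

def idL : List ℕ := [0, 1, 2, 3, 4, 5]

/-- the triple representative -/
def rTab (i : List ℕ) : List ℕ :=
  if i == [0, 1, 2, 3, 5, 4] then [1, 0, 3, 2, 4, 5]
  else if i == [0, 1, 2, 4, 3, 5] then [1, 0, 5, 3, 4, 2]
  else if i == [0, 1, 2, 5, 4, 3] then [1, 0, 4, 3, 2, 5]
  else if i == [3, 4, 5, 0, 1, 2] then [0, 4, 5, 3, 1, 2]
  else if i == [4, 5, 3, 2, 0, 1] then [0, 5, 3, 2, 4, 1]
  else [0, 3, 4, 1, 2, 5]

def condI (k : Fin 2) (i : List ℕ) : Bool :=
  mulN i i == idL && (i != idL && mulN i (repL k) == mulN (repL k) i)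

def condX (k : Fin 2) (i x : List ℕ) : Bool :=
  mulN (mulN x x) x == idL && (x != idL && (mulN x (repL k) == mulN (repL k) x && mulN (mulN i x) i == mulN x x))

def condJ (k : Fin 2) (i x j : List ℕ) : Bool :=
  mulN j j == idL && (mulN i j == mulN j i && (mulN j x == mulN x j &&
    mulN (mulN j (repL k)) j == mulN (repL k) (repL k)))

def conjs : List (List ℕ × List ℕ) :=
  [([0, 2, 3, 1, 5, 4], [0, 3, 1, 2, 5, 4]), ([0, 3, 1, 2, 5, 4], [0, 2, 3, 1, 5, 4]),
   ([3, 0, 2, 1, 5, 4], [1, 3, 2, 0, 5, 4]), ([1, 5, 0, 4, 2, 3], [2, 0, 4, 5, 3, 1]),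
   ([2, 0, 4, 5, 3, 1], [1, 5, 0, 4, 2, 3]), ([0, 5, 2, 3, 4, 1], [0, 5, 2, 3, 4, 1]),
   ([4, 1, 2, 5, 0, 3], [4, 1, 2, 5, 0, 3])]

def rList (k : Fin 2) (i : List ℕ) : List (List ℕ) :=
  let r := rTab i
  let x := repL k
  [r, mulN (mulN x r) (mulN x x), mulN (mulN (mulN x x) r) x]

theorem six_triple : ∀ k : Fin 2, ∀ i : P6, condI k (imN i) = true →
    (mulN (rTab (imN i)) (rTab (imN i)) == idL && (mulN (rTab (imN i)) (imN i) == mulN (imN i) (rTab (imN i)) &&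
      (rTab (imN i) != idL && (rList k (imN i)).Nodup))) = true := by decide +kernel

theorem six_unique : ∀ k : Fin 2, ∀ i : P6, condI k (imN i) = true → ∀ r : P6,
    (mulN (imN r) (imN r) == idL && (mulN (imN r) (imN i) == mulN (imN i) (imN r) &&
      mulN (mulN (imN r) (mulN (mulN (repL k) (imN r)) (mulN (repL k) (repL k))))
        (mulN (mulN (mulN (repL k) (repL k)) (imN r)) (repL k)) == idL)) = true →
    imN r = idL ∨ imN r ∈ rList k (imN i) := by decide +kernel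

theorem six_exists : ∀ k : Fin 2, ∀ i : P6, condI k (imN i) = true → ∀ x : P6, condX k (imN i) (imN x) = true →
    ∀ j : P6, condJ k (imN i) (imN x) (imN j) = true → ∃ g ∈ conjs, mulN g.1 g.2 = idL ∧
      mulN (mulN g.1 (mulN (imN i) (imN j))) g.2 ∈ rList k (imN i) := by decide +kernel

theorem reps6_cases : ∀ k : Fin 2, (reps6 k).cycleType = Multiset.replicate (k.val + 1) 3 := by decide +kernel

end Cfsg.Agent.Invol.S8Three
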