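import Cfsg.Agent.Lib.Invol.S8Three.KCases
import Cfsg.Agent.Lib.Invol.S8Three.Tab6

/-! When the centraliser of `u` covers Sym(6), a second four-group appears. -/

set_option autoImplicit false
set_option maxRecDepth 50000
set_option synthInstance.maxSize 1000
set_option linter.unusedSectionVars false
set_option linter.style.haveILetI false

namespace Cfsg.Agent.Invol.S8Three

universe u

open Equiv

/-- The properties of a representative of the triple. -/
def sixProps (k : Fin 2) (i s : List ℕ) : Bool :=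
  let x := repL k
  let xx := mulN x x
  let s1 := mulN (mulN x s) xx
  let s2 := mulN (mulN xx s) x
  mulN s i == mulN i s && (mulN (mulN s s1) s2 == idL && (s1 != s && (s != idL &&
    (rList k i).all fun r => r == s || r == s1 || r == s2)))

theorem six_more : ∀ k : Fin 2, ∀ i : P6, condI k (imN i) = true → ∀ s ∈ rList k (imN i),
    sixProps k (imN i) s = true := by decide +kernel

theorem conjs_perm : ∀ g ∈ conjs, ∃ p : P6, imN p = g.1 ∧ imN p⁻¹ = g.2 := by decide +kernel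

theorem one6 : idL = imN (1 : P6) := by decide

theorem repL_cube : ∀ k, mulN (repL k) (repL k) = imN (reps6 k * reps6 k) := by decide +kernel

theorem six_reps (x : P6) (h3 : x ^ 3 = 1) (h1 : x ≠ 1) : ∃ (k : Fin 2) (g : P6), g * x * g⁻¹ = reps6 k := by
  have ho : orderOf x = 3 := haveI := Fact.mk Nat.prime_three; orderOf_eq_prime h3 h1
  obtain ⟨n, hn⟩ := Equiv.Perm.cycleType_prime_order (ho ▸ Nat.prime_three : (orderOf x).Prime)
  rw [ho] at hn
  have hs := x.sum_cycleType_le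
  rw [hn, Multiset.sum_replicate, Fintype.card_fin, smul_eq_mul] at hs
  refine ⟨⟨n, by omega⟩, ?_⟩
  exact isConj_iff.mp (Equiv.Perm.isConj_iff_cycleType_eq.mpr (hn.trans (reps6_cases ⟨n, by omega⟩).symm))

theorem pair_facts :
    ((1, e5) : P35) * (1, e5) = 1 ∧ ((1, e5) : P35) * (1, t5) = (1, t5) * (1, e5) ∧
    ((1, e5) : P35) * (c3, 1) = (c3, 1) * (1, e5) ∧ (1, e5) * ((1, d5) : P35) * (1, e5) = (1, d5)⁻¹ ∧
    ((a3, 1) : P35) * (a3, 1) = 1 ∧ ((1, e5) : P35) * (a3, 1) = (a3, 1) * (1, e5) ∧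
    ((a3, 1) : P35) * (1, d5) = (1, d5) * (a3, 1) ∧ (a3, 1) * ((c3, 1) : P35) * (a3, 1) = (c3, 1)⁻¹ ∧
    ((a3, 1) : P35) * (1, t5) = (1, t5) * (a3, 1) ∧ ((c3, 1) : P35) * (1, d5) = (1, d5) * (c3, 1) ∧
    ((1, t5) : P35) * (1, q5) = (1, e5) ∧ ((1, r5) : P35) * (1, r5) = 1 ∧
    (1, r5) * ((1, t5) : P35) * (1, r5) = (1, e5) ∧ (1, r5) * ((c3, 1) : P35) = (c3, 1) * (1, r5) := by
  decide +kernel

variable {G : Type u} [Group G] [Finite G] (F : Frame G)

/-- The second four-group. -/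
theorem exists_r (hA : CA F) : ∃ r : G, r * r = 1 ∧ r * F.z ≠ F.z * r ∧
    r * (F.z * r * F.z⁻¹) * (F.z⁻¹ * r * F.z) = 1 ∧ r * F.f (1, q5) = F.f (1, q5) * r ∧
    r * F.f (1, r5) = F.f (1, r5) * r ∧ r * F.u = F.u * r := by
  obtain ⟨ee, eu, ez, ed, aa, ea, ad, az, au, zd, tq, rr, rtr, rz⟩ := pair_facts
  set C := Subgroup.centralizer ({F.u} : Set G) with hC
  obtain ⟨ρ, hρs, hρk⟩ : ∃ ρ : C →* P6, Function.Surjective ρ ∧ ∀ x, ρ x = 1 ↔ (x = 1 ∨ (x : G) = F.u) := hA
  have hmem : ∀ {g : G}, g ∈ C ↔ g * F.u = F.u * g := Subgroup.mem_centralizer_singleton_iff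
  have fC : ∀ p : P35, p * (1, t5) = (1, t5) * p → F.f p ∈ C := fun p hp => hmem.2 (by
    rw [Frame.u, ← map_mul, ← map_mul, hp])
  obtain ⟨hu2, hu1, huz, huz'⟩ := F.u_facts
  obtain ⟨hz3, hz1, hz'3, hz'1⟩ := F.z_cube
  let zC : C := ⟨F.z, fC _ (by decide)⟩
  let z'C : C := ⟨F.z', fC _ (by decide)⟩
  let eC : C := ⟨F.f (1, e5), fC _ eu⟩
  let aC : C := ⟨F.a, fC _ au⟩
  let uC : C := ⟨F.u, hmem.2 rfl⟩
  have hne : ∀ (g : C) (p : P35), (g : G) = F.f p → p ≠ 1 → p ≠ (1, t5) → ρ g ≠ 1 := by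
    intro g p hg h1 h2 h
    rcases (hρk g).1 h with e | e
    · exact h1 (F.inj (hg.symm.trans ((congrArg Subtype.val e).trans F.f.map_one.symm)))
    · exact h2 (F.inj (hg.symm.trans e))
  have hx3 : ρ zC ^ 3 = 1 := by rw [← map_pow, show zC ^ 3 = 1 from Subtype.ext hz3, map_one]
  obtain ⟨k, g, hg⟩ := six_reps _ hx3 (hne zC (c3, 1) rfl (by decide) (by decide))
  set θ : C →* P6 := (MulAut.conj g).toMonoidHom.comp ρ with hθ
  have hθk : ∀ x, θ x = 1 ↔ (x = 1 ∨ (x : G) = F.u) := fun x => by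
    rw [← hρk]
    exact (MulAut.conj g).map_eq_one_iff
  have hθs : Function.Surjective θ := (MulAut.conj g).surjective.comp hρs
  have hθz : θ zC = reps6 k := hg
  set i := θ eC with hi
  set j := θ aC with hj
  set x' := θ z'C with hx'
  have rel : ∀ (x y : C), (x : G) = (y : G) → θ x = θ y := fun x y h => congrArg θ (Subtype.ext h)
  have hii : i * i = 1 := by
    rw [hi, ← map_mul, show eC * eC = 1 from Subtype.ext (by
      show F.f (1, e5) * F.f (1, e5) = 1; rw [← map_mul, ee, map_one]), map_one]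
  have hI : condI k (imN i) = true := by
    simp only [condI, Bool.and_eq_true, beq_iff_eq, bne_iff_ne, ← (repL_eq k).1, mulN_imN]
    refine ⟨?_, ?_, ?_⟩
    · rw [hii]; exact imN_one
    · intro h
      have h' : i = 1 := imN_inj (h.trans one6)
      rcases (hθk _).1 h' with e | e
      · exact absurd (F.inj ((congrArg Subtype.val e).trans F.f.map_one.symm)) (by decide)
      · exact absurd (F.inj e) (by decide)
    · rw [← hθz, hi, ← map_mul, ← map_mul]
      exact congrArg imN (rel _ _ (by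
        show F.f (1, e5) * F.z = F.z * F.f (1, e5); rw [Frame.z, ← map_mul, ← map_mul, ez]))
  have hX : condX k (imN i) (imN x') = true := by
    simp only [condX, Bool.and_eq_true, beq_iff_eq, bne_iff_ne, ← (repL_eq k).1, mulN_imN]
    refine ⟨?_, ?_, ?_, ?_⟩
    · rw [hx', ← map_mul, ← map_mul, show z'C * z'C * z'C = 1 from Subtype.ext (by
        show F.z' * F.z' * F.z' = 1; rw [← hz'3]; simp [pow_succ, mul_assoc]), map_one]
      exact imN_one
    · intro h
      have h' : x' = 1 := imN_inj (h.trans one6)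
      rcases (hθk _).1 h' with e | e
      · exact hz'1 (congrArg Subtype.val e)
      · exact absurd (F.inj (show F.f (1, d5) = F.f (1, t5) from e)) (by decide)
    · rw [← hθz, hx', ← map_mul, ← map_mul]
      exact congrArg imN (rel _ _ F.z_comm.symm)
    · rw [hi, hx', ← map_mul, ← map_mul, ← map_mul]
      refine congrArg imN (rel _ _ ?_)
      show F.f (1, e5) * F.z' * F.f (1, e5) = F.z' * F.z'
      rw [Frame.z', ← map_mul, ← map_mul, ← map_mul, ed, show ((1, d5) : P35)⁻¹ = (1, d5) * (1, d5) by decide]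
  have hJ : condJ k (imN i) (imN x') (imN j) = true := by
    simp only [condJ, Bool.and_eq_true, beq_iff_eq, ← (repL_eq k).1, mulN_imN]
    refine ⟨?_, ?_, ?_, ?_⟩
    · rw [hj, ← map_mul, show aC * aC = 1 from Subtype.ext (by
        show F.a * F.a = 1; rw [Frame.a, ← map_mul, aa, map_one]), map_one]
      exact imN_one
    · rw [hi, hj, ← map_mul, ← map_mul]
      exact congrArg imN (rel _ _ (by
        show F.f (1, e5) * F.a = F.a * F.f (1, e5); rw [Frame.a, ← map_mul, ← map_mul, ea]))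
    · rw [hj, hx', ← map_mul, ← map_mul]
      exact congrArg imN (rel _ _ (by
        show F.a * F.z' = F.z' * F.a; rw [Frame.a, Frame.z', ← map_mul, ← map_mul, ad]))
    · rw [hj, ← hθz, ← map_mul, ← map_mul, ← map_mul]
      refine congrArg imN (rel _ _ ?_)
      show F.a * F.z * F.a = F.z * F.z
      rw [Frame.z, Frame.a, ← map_mul, ← map_mul, ← map_mul, az, show ((c3, 1) : P35)⁻¹ = (c3, 1) * (c3, 1) by decide]
  obtain ⟨w, hw, -, hwr⟩ := six_exists k i hI x' hX j hJ
  obtain ⟨p, hp1, hp2⟩ := conjs_perm w hw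
  rw [← hp1, ← hp2, mulN_imN, mulN_imN, mulN_imN] at hwr
  set σ := p * (i * j) * p⁻¹ with hσ
  have hprops := six_more k i hI _ hwr
  simp only [sixProps, ← (repL_eq k).1, mulN_imN, Bool.and_eq_true, beq_iff_eq, bne_iff_ne, List.all_eq_true,
    Bool.or_eq_true] at hprops
  obtain ⟨hσi, hσ3, hσm, hσ1, hall⟩ := hprops
  have hσi' : σ * i = i * σ := imN_inj hσi
  obtain ⟨cp, hcp⟩ := hθs p
  set h := cp * (eC * aC) * cp⁻¹ with hh
  have hθh : θ h = σ := by rw [hh, map_mul, map_mul, map_mul, map_inv, hcp, ← hi, ← hj]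
  have hh2 : h * h = 1 := by
    have e : eC * aC * (eC * aC) = 1 := Subtype.ext (by
      show F.f (1, e5) * F.a * (F.f (1, e5) * F.a) = 1
      rw [Frame.a, ← map_mul, ← map_mul, show ((1, e5) : P35) * (a3, 1) * ((1, e5) * (a3, 1)) = 1 by decide, map_one])
    rw [hh, show cp * (eC * aC) * cp⁻¹ * (cp * (eC * aC) * cp⁻¹) = cp * (eC * aC * (eC * aC)) * cp⁻¹ by group, e]
    group
  have hx2 : reps6 k * reps6 k = (reps6 k)⁻¹ := imN_inj (by rw [← repL_cube, (repL_eq k).2])
  let T : C → C := fun r => r * (zC * r * zC⁻¹) * (zC⁻¹ * r * zC)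
  have hucen : ∀ r : C, r * uC = uC * r := fun r => Subtype.ext (hmem.1 r.2)
  have huu : uC * uC = 1 := Subtype.ext hu2
  have hTθ : θ (T h) = 1 := by
    show θ (h * (zC * h * zC⁻¹) * (zC⁻¹ * h * zC)) = 1
    simp only [map_mul, map_inv, hθh, hθz]
    rw [← hx2]
    have h3 := imN_inj (hσ3.trans one6)
    exact h3
  -- fix the sign
  obtain ⟨r, hr2, hrT, hrθ⟩ : ∃ r : C, r * r = 1 ∧ T r = 1 ∧ θ r = σ := by
    rcases (hθk _).1 hTθ with e | e
    · exact ⟨h, hh2, e, hθh⟩
    · refine ⟨h * uC, ?_, ?_, by rw [map_mul, hθh, (hθk uC).2 (Or.inr rfl), mul_one]⟩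
      · rw [← mul_assoc, mul_assoc h uC h, ← hucen, ← mul_assoc, hh2, one_mul, huu]
      · have hTu : T (h * uC) = T h * uC := by
          have c1 : ∀ a b : C, a * (b * uC) = a * b * uC := fun a b => (mul_assoc a b uC).symm
          have c2 : ∀ a b : C, a * uC * b = a * b * uC := fun a b => by rw [mul_assoc, ← hucen, mul_assoc]
          show h * uC * (zC * (h * uC) * zC⁻¹) * (zC⁻¹ * (h * uC) * zC) = _
          simp only [c1, c2]
          rw [mul_assoc _ uC uC, huu, mul_one]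
        rw [hTu, show T h = uC from Subtype.ext e, huu]
  -- the uniqueness of the triple
  have huniq : ∀ s : C, s * s = 1 → s * eC = eC * s → T s = 1 →
      s = r ∨ s = zC * r * zC⁻¹ ∨ s = zC⁻¹ * r * zC ∨ s = 1 := by
    intro s hs hse hsT
    have e1 : θ s * θ s = 1 := by rw [← map_mul, hs, map_one]
    have e2 : θ s * i = i * θ s := by rw [hi, ← map_mul, ← map_mul, hse]
    have e3 : θ s * (reps6 k * θ s * (reps6 k * reps6 k)) * (reps6 k * reps6 k * θ s * reps6 k) = 1 := by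
      rw [hx2, ← hθz, ← map_inv]; simp only [← map_mul]
      exact (congrArg θ hsT).trans (map_one θ)
    have hsu := six_unique k i hI (θ s) (by
      simp only [Bool.and_eq_true, beq_iff_eq, ← (repL_eq k).1, mulN_imN]
      refine ⟨?_, ?_, ?_⟩
      · rw [e1]; exact imN_one
      · rw [e2]
      · rw [e3]; exact imN_one)
    have fix : ∀ t : C, T t = 1 → θ s = θ t → s = t := by
      intro t ht he
      have : θ (t⁻¹ * s) = 1 := by rw [map_mul, map_inv, he, inv_mul_cancel]
      rcases (hθk _).1 this with e | e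
      · exact (inv_mul_eq_one.1 e).symm
      · exfalso
        have e' : s = t * uC := by rw [← show t⁻¹ * s = uC from Subtype.ext e, mul_inv_cancel_left]
        have hTu : T (t * uC) = T t * uC := by
          have c1 : ∀ a b : C, a * (b * uC) = a * b * uC := fun a b => (mul_assoc a b uC).symm
          have c2 : ∀ a b : C, a * uC * b = a * b * uC := fun a b => by rw [mul_assoc, ← hucen, mul_assoc]
          show t * uC * (zC * (t * uC) * zC⁻¹) * (zC⁻¹ * (t * uC) * zC) = _
          simp only [c1, c2]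
          rw [mul_assoc _ uC uC, huu, mul_one]
        rw [e', hTu, ht, one_mul] at hsT
        exact hu1 (congrArg Subtype.val hsT)
    have hz3' : zC ^ 3 = 1 := Subtype.ext hz3
    have hT1 : T (zC * r * zC⁻¹) = 1 := by
      have e : T (zC * r * zC⁻¹) = zC * T r * zC⁻¹ := by simp only [T]; group
      rw [e, hrT, mul_one, mul_inv_cancel]
    have hT2 : T (zC⁻¹ * r * zC) = 1 := by
      have e : T (zC⁻¹ * r * zC) = zC⁻¹ * T r * zC := by simp only [T]; group
      rw [e, hrT, mul_one, inv_mul_cancel]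
    rcases hsu with hsu | hsu
    · refine Or.inr (Or.inr (Or.inr (fix 1 (by simp [T]) ?_)))
      rw [map_one]; exact imN_inj (hsu.trans one6)
    · rcases hall _ hsu with (e | e) | e
      · exact Or.inl (fix r hrT (by rw [hrθ]; exact imN_inj e))
      · refine Or.inr (Or.inl (fix _ hT1 ?_))
        rw [map_mul, map_mul, map_inv, hrθ, hθz, ← hx2]; exact imN_inj e
      · refine Or.inr (Or.inr (Or.inl (fix _ hT2 ?_)))
        rw [map_mul, map_mul, map_inv, hrθ, hθz, ← hx2]; exact imN_inj e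
  -- commuting with `e`
  have hre : r * eC = eC * r := by
    have hθc : θ (r * eC * r⁻¹ * eC⁻¹) = 1 := by
      rw [map_mul, map_mul, map_mul, map_inv, map_inv, hrθ, ← hi, hσi', mul_inv_cancel_right, mul_inv_cancel]
    rcases (hθk _).1 hθc with e | e
    · exact mul_inv_eq_iff_eq_mul.1 (mul_inv_eq_one.1 e)
    · exfalso
      set w := r * eC * r⁻¹ * eC⁻¹ with hw'
      have hwu : w = uC := Subtype.ext e
      have hce : zC * eC * zC⁻¹ = eC := mul_inv_eq_iff_eq_mul.2 (Subtype.ext (by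
        show F.z * F.f (1, e5) = F.f (1, e5) * F.z; rw [Frame.z, ← map_mul, ← map_mul, ez]))
      have hce' : zC⁻¹ * eC * zC = eC := by nth_rw 1 [← hce]; group
      have hcu : ∀ g : C, g * uC * g⁻¹ = uC := fun g => mul_inv_eq_iff_eq_mul.2 (hucen g)
      have base : r * eC * r⁻¹ = uC * eC := by rw [← hwu, hw', inv_mul_cancel_right]
      have b1 : (zC * r * zC⁻¹) * eC * (zC * r * zC⁻¹)⁻¹ = uC * eC := by
        calc (zC * r * zC⁻¹) * eC * (zC * r * zC⁻¹)⁻¹ = zC * (r * (zC⁻¹ * eC * zC) * r⁻¹) * zC⁻¹ := by group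
          _ = (zC * uC * zC⁻¹) * (zC * eC * zC⁻¹) := by rw [hce', base]; group
          _ = uC * eC := by rw [hcu, hce]
      have b2 : (zC⁻¹ * r * zC) * eC * (zC⁻¹ * r * zC)⁻¹ = uC * eC := by
        calc (zC⁻¹ * r * zC) * eC * (zC⁻¹ * r * zC)⁻¹ = zC⁻¹ * (r * (zC * eC * zC⁻¹) * r⁻¹) * zC := by group
          _ = (zC⁻¹ * uC * zC⁻¹⁻¹) * (zC⁻¹ * eC * zC) := by rw [hce, base]; group
          _ = uC * eC := by rw [hcu, hce']
      have h3 : T r * eC * (T r)⁻¹ = uC * (uC * (uC * eC)) := by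
        calc T r * eC * (T r)⁻¹
            = r * ((zC * r * zC⁻¹) * ((zC⁻¹ * r * zC) * eC * (zC⁻¹ * r * zC)⁻¹) * (zC * r * zC⁻¹)⁻¹) * r⁻¹ := by
              simp only [T, mul_inv_rev, inv_inv, mul_assoc]
          _ = r * (((zC * r * zC⁻¹) * uC * (zC * r * zC⁻¹)⁻¹) *
              ((zC * r * zC⁻¹) * eC * (zC * r * zC⁻¹)⁻¹)) * r⁻¹ := by rw [b2]; group
          _ = (r * uC * r⁻¹) * ((r * uC * r⁻¹) * (r * eC * r⁻¹)) := by rw [hcu, b1]; group
          _ = _ := by rw [hcu, base]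
      rw [hrT, one_mul, inv_one, mul_one, ← mul_assoc uC uC, huu, one_mul] at h3
      exact hu1 (congrArg Subtype.val (mul_eq_right.1 h3.symm))
  -- the twin reflection
  have hqe : F.f (1, q5) = F.u * F.f (1, e5) := by
    rw [Frame.u, ← map_mul]; exact congrArg F.f (by decide)
  have hru : (r : G) * F.u = F.u * (r : G) := hmem.1 r.2
  have hreG : (r : G) * F.f (1, e5) = F.f (1, e5) * (r : G) := congrArg Subtype.val hre
  set t := F.f (1, r5) with ht
  have htt : t * t = 1 := by rw [ht, ← map_mul, rr, map_one]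
  have hti : t⁻¹ = t := inv_eq_of_mul_eq_one_right htt
  have htu : t * F.u * t⁻¹ = F.f (1, e5) := by
    rw [hti, ht, Frame.u, ← map_mul, ← map_mul, rtr]
  have hte : t * F.f (1, e5) * t⁻¹ = F.u := by rw [← htu, hti]; rw [show t * (t * F.u * t) * t = t * t * F.u * (t * t) by group, htt, one_mul, mul_one]
  have htz : t * F.z * t⁻¹ = F.z := by
    rw [mul_inv_eq_iff_eq_mul, ht, Frame.z, ← map_mul, ← map_mul, rz]
  have hsC : ∀ g : C, g * eC = eC * g → t * (g : G) * t⁻¹ ∈ C := fun g hge => by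
    refine hmem.2 ?_
    have := commute_conj (g := t) (show Commute (g : G) (F.f (1, e5)) from congrArg Subtype.val hge)
    rw [hte] at this
    exact this.eq
  let s : C := ⟨t * (r : G) * t⁻¹, hsC r hre⟩
  have hss : s * s = 1 := Subtype.ext (by
    show t * (r : G) * t⁻¹ * (t * (r : G) * t⁻¹) = 1
    rw [show t * (r : G) * t⁻¹ * (t * (r : G) * t⁻¹) = t * ((r : G) * (r : G)) * t⁻¹ by group,
      show (r : G) * r = 1 from congrArg Subtype.val hr2, mul_one, mul_inv_cancel])
  have hse : s * eC = eC * s := Subtype.ext (by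
    show t * (r : G) * t⁻¹ * F.f (1, e5) = F.f (1, e5) * (t * (r : G) * t⁻¹)
    have := (commute_conj (g := t) (show Commute (r : G) F.u from hru)).eq
    rwa [htu] at this)
  have hsT : T s = 1 := Subtype.ext (by
    show t * (r : G) * t⁻¹ * (F.z * (t * (r : G) * t⁻¹) * F.z⁻¹) * (F.z⁻¹ * (t * (r : G) * t⁻¹) * F.z) = 1
    rw [show t * (r : G) * t⁻¹ * (F.z * (t * (r : G) * t⁻¹) * F.z⁻¹) * (F.z⁻¹ * (t * (r : G) * t⁻¹) * F.z) =
      t * ((r : G) * ((t⁻¹ * F.z * t) * (r : G) * (t⁻¹ * F.z * t)⁻¹) *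
        ((t⁻¹ * F.z * t)⁻¹ * (r : G) * (t⁻¹ * F.z * t))) * t⁻¹ by group]
    rw [show t⁻¹ * F.z * t = F.z by nth_rw 1 [← htz]; group]
    rw [show (r : G) * (F.z * (r : G) * F.z⁻¹) * (F.z⁻¹ * (r : G) * F.z) = 1 from congrArg Subtype.val hrT,
      mul_one, mul_inv_cancel])
  have hzr : (r : G) * F.z ≠ F.z * (r : G) := fun e => hσm (congrArg imN (by
    rw [hx2, ← hθz, ← hrθ, ← map_inv, ← map_mul, ← map_mul]
    exact congrArg θ (Subtype.ext (mul_inv_eq_iff_eq_mul.2 e.symm))))
  have hr1 : (r : G) ≠ 1 := fun e => hzr (by rw [e, one_mul, mul_one])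
  refine ⟨r, congrArg Subtype.val hr2, hzr, congrArg Subtype.val hrT, ?_, ?_, hru⟩
  · rw [hqe, ← mul_assoc, hru, mul_assoc, hreG, mul_assoc]
  · -- the involution commuting with the triangle fixes it
    have hmv : ∀ w : G, t * (F.z * w * F.z⁻¹) * t⁻¹ = F.z * (t * w * t⁻¹) * F.z⁻¹ := fun w => by
      rw [show t * (F.z * w * F.z⁻¹) * t⁻¹ = (t * F.z * t⁻¹) * (t * w * t⁻¹) * (t * F.z * t⁻¹)⁻¹ by group, htz]
    have hz3' : F.z * F.z * F.z = 1 := by rw [← hz3]; simp [pow_succ, mul_assoc]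
    have hzi : F.z⁻¹ = F.z * F.z := inv_eq_of_mul_eq_one_right (by rw [← mul_assoc]; exact hz3')
    rcases huniq s hss hse hsT with e | e | e | e
    · have e' : t * (r : G) * t⁻¹ = r := congrArg Subtype.val e
      exact (mul_inv_eq_iff_eq_mul.1 e').symm
    · exfalso
      have e' : t * (r : G) * t⁻¹ = F.z * r * F.z⁻¹ := congrArg Subtype.val e
      have e2 : (r : G) = F.z * F.z * r * (F.z * F.z)⁻¹ := by
        calc (r : G) = t * (t * (r : G) * t⁻¹) * t⁻¹ := by
              rw [hti, show t * (t * (r : G) * t) * t = t * t * r * (t * t) by group, htt, one_mul, mul_one]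
          _ = _ := by rw [e', hmv, e']; group
      refine hzr ?_
      rw [← hzi, inv_inv] at e2
      calc (r : G) * F.z = F.z * (F.z⁻¹ * r * F.z) := by group
        _ = F.z * r := by rw [← e2]
    · exfalso
      have e' : t * (r : G) * t⁻¹ = F.z⁻¹ * r * F.z := congrArg Subtype.val e
      have hmv' : t * (F.z⁻¹ * (r : G) * F.z) * t⁻¹ = F.z⁻¹ * (t * (r : G) * t⁻¹) * F.z := by
        rw [show t * (F.z⁻¹ * (r : G) * F.z) * t⁻¹ = (t * F.z * t⁻¹)⁻¹ * (t * (r : G) * t⁻¹) * (t * F.z * t⁻¹) by group, htz]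
      have e2 : (r : G) = F.z⁻¹ * F.z⁻¹ * r * (F.z * F.z) := by
        calc (r : G) = t * (t * (r : G) * t⁻¹) * t⁻¹ := by
              rw [hti, show t * (t * (r : G) * t) * t = t * t * r * (t * t) by group, htt, one_mul, mul_one]
          _ = _ := by rw [e', hmv', e']; group
      refine hzr ?_
      rw [← hzi, show F.z⁻¹ * F.z⁻¹ = F.z by rw [hzi]; rw [show F.z * F.z * (F.z * F.z) = F.z * (F.z * F.z * F.z) by group, hz3', mul_one]] at e2
      exact eq_mul_inv_iff_mul_eq.1 e2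
    · exfalso
      have e' : t * (r : G) * t⁻¹ = 1 := congrArg Subtype.val e
      exact hr1 (conj_one e')

end Cfsg.Agent.Invol.S8Three
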