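import Cfsg.Agent.Lib.Invol.S8Three.Pair

/-! The small shape is impossible; the alternating shape forces a small centraliser of `u`. -/

set_option autoImplicit false
set_option maxRecDepth 50000
set_option synthInstance.maxSize 1000
set_option linter.unusedSectionVars false
set_option linter.style.haveILetI false

namespace Cfsg.Agent.Invol.S8Three

universe u

open Equiv

theorem fours_gen : ∀ v ∈ fours 0, v = 1 ∨ v = swap 0 1 * swap 2 3 ∨ v = swap 0 2 * swap 1 3 ∨
    v = (swap 0 1 * swap 2 3) * (swap 0 2 * swap 1 3) := by decide +kernel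

theorem a5_products : ∀ x : P5, Equiv.Perm.sign x = 1 → ∃ a ∈ fours 0, ∃ b ∈ fours 1, ∃ c ∈ fours 0, ∃ d ∈ fours 1,
    x = a * b * c * d := by decide +kernel

theorem a5_central : ∀ w : P5, (∀ e ∈ ([swap 0 1 * swap 1 2, swap 2 3 * swap 3 4] : List P5), w * e = e * w) →
    w = 1 := by decide +kernel

theorem five_y_t : ∀ p : P35, p * (1, t5) = (1, t5) * p → p ^ 5 = 1 → p = 1 := by decide +kernel

theorem small_e : ∀ p : P35, p * (1, t5) = (1, t5) * p → p * (a3, 1) = (a3, 1) * p → p * (1, q5) = (1, q5) * p →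
    (1, r5) * p * (1, r5) = p⁻¹ → p = 1 ∨ p = (a3, 1) ∨ p = (1, q5) ∨ p = (a3, q5) := by decide +kernel

theorem twist_word : True ∧
    t5 = (r5 * t5) * d5 * (r5 * t5) * d5 * d5 * (r5 * t5) * d5 * d5 * (r5 * t5) * d5 * (r5 * t5) * d5 ∧
    q5 * (r5 * d5 * r5) * q5 = t5 * (r5 * d5 * r5) * t5 ∧ t5 * (r5 * d5 * r5) ≠ (r5 * d5 * r5) * t5 := by
  decide +kernel

variable {G : Type u} [Group G] [Finite G] (F : Frame G)

/-- The centraliser of the other four-group. -/
theorem of_centF {g : G} (hq : g * F.f (1, q5) = F.f (1, q5) * g) (hr : g * F.f (1, r5) = F.f (1, r5) * g) :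
    (F.f (1, g5))⁻¹ * g * F.f (1, g5) ∈ F.K := by
  obtain ⟨c1, c2, -⟩ := conj_F
  rw [F.mem_K]
  intro v hv
  set h := (F.f (1, g5))⁻¹ * g * F.f (1, g5) with hh
  have key : ∀ w q : P5, g5 * w * g5⁻¹ = q → g * F.f (1, q) = F.f (1, q) * g →
      Commute h (F.f (1, w)) := by
    intro w q e hc
    have := commute_conj (g := (F.f (1, g5))⁻¹) (show Commute g _ from hc)
    rw [inv_inv, ← hh] at this
    rwa [show (F.f (1, g5))⁻¹ * F.f (1, q) * F.f (1, g5) = F.f (1, w) by
      rw [← map_inv, ← map_mul, ← map_mul]; exact congrArg F.f (Prod.ext (by simp) (by simp [← e, mul_assoc]))] at this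
  have k1 := key _ _ c1 hq
  have k2 := key _ _ c2 hr
  rcases fours_gen v hv with rfl | rfl | rfl | rfl
  · rw [show ((1 : P3), (1 : P5)) = (1 : P35) from rfl, map_one, mul_one, one_mul]
  · exact k1.eq
  · exact k2.eq
  · have := (k1.mul_right k2).eq
    rwa [← map_mul] at this

theorem no_five_u (hB : CB F) {g : G} (h5 : g ^ 5 = 1) (hu : g * F.u = F.u * g) : g = 1 := by
  have hg : g ∈ F.f.range := by
    have h2 : g * g * F.u = F.u * (g * g) := ((show Commute g F.u from hu).mul_left hu).eq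
    have e6 : (g * g) ^ 3 = g := by rw [← pow_two, ← pow_mul, pow_succ, h5, one_mul]
    rcases hB (g * g) h2 with h | h
    · exact e6 ▸ pow_mem h 3
    · rcases hB g hu with h' | h'
      · exact h'
      · have := mul_mem h (inv_mem h')
        rwa [show g * g * F.n * (g * F.n)⁻¹ = g by group] at this
  obtain ⟨p, rfl⟩ := hg
  rw [five_y_t p (F.inj (by rw [map_mul, map_mul]; exact hu)) (F.inj (by rw [map_pow, h5, map_one])), map_one]

theorem KA_comm (hK : KA F) : ∀ x : P5, Equiv.Perm.sign x = 1 → ∀ e : P5, Equiv.Perm.sign e = 1 →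
    Commute (F.f (1, x)) (F.f' (1, e)) := by
  obtain ⟨hA, -⟩ := hK
  have h0 : ∀ v ∈ fours 0, ∀ e : P5, Equiv.Perm.sign e = 1 → Commute (F.f (1, v)) (F.f' (1, e)) :=
    fun v hv e he => ((F.mem_K.mp (hA e he)) v hv).symm
  have h1 : ∀ v ∈ fours 1, ∀ e : P5, Equiv.Perm.sign e = 1 → Commute (F.f (1, v)) (F.f' (1, e)) := by
    intro v hv e he
    obtain ⟨hu2, -⟩ := F.u_facts
    have hui : F.u⁻¹ = F.u := inv_eq_of_mul_eq_one_right hu2
    have hw : t5 * v * t5 ∈ fours 0 := (fours_facts 1 v hv).2.2.2.2.2.1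
    have he' : Equiv.Perm.sign (t5 * e * t5) = 1 := by simp [he]
    have := commute_conj (g := F.u) (h0 _ hw _ he')
    rw [hui] at this
    rwa [show F.u * F.f (1, t5 * v * t5) * F.u = F.f (1, v) by
        rw [Frame.u, ← map_mul, ← map_mul]; refine congrArg F.f (Prod.ext (by simp) ?_)
        show t5 * (t5 * v * t5) * t5 = v
        rw [show t5 * (t5 * v * t5) * t5 = (t5 * t5) * v * (t5 * t5) by group, show t5 * t5 = 1 by decide, one_mul, mul_one],
      show F.u * F.f' (1, t5 * e * t5) * F.u = F.f' (1, e) by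
        rw [← F.f'_t, ← map_mul, ← map_mul]; refine congrArg F.f' (Prod.ext (by simp) ?_)
        show t5 * (t5 * e * t5) * t5 = e
        rw [show t5 * (t5 * e * t5) * t5 = (t5 * t5) * e * (t5 * t5) by group, show t5 * t5 = 1 by decide, one_mul, mul_one]]
      at this
  intro x hx e he
  obtain ⟨a, ha, b, hb, c, hc, d, hd, rfl⟩ := a5_products x hx
  rw [show ((1, a * b * c * d) : P35) = (1, a) * (1, b) * (1, c) * (1, d) from Prod.ext (by simp) rfl, map_mul, map_mul,
    map_mul]
  exact (((h0 a ha e he).mul_left (h1 b hb e he)).mul_left (h0 c hc e he)).mul_left (h1 d hd e he)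

theorem KA_inter (hK : KA F) {x e : P5} (hx : Equiv.Perm.sign x = 1) (he : Equiv.Perm.sign e = 1)
    (h : F.f (1, x) = F.f' (1, e)) : x = 1 ∧ e = 1 := by
  have he1 : e = 1 := a5_central e fun w hw => by
    have hs : Equiv.Perm.sign w = 1 := by
      simp only [List.mem_cons, List.not_mem_nil, or_false] at hw
      rcases hw with rfl | rfl <;> decide
    have hc := KA_comm F hK x hx w hs
    rw [h] at hc
    exact congrArg Prod.snd (F.inj' (show F.f' ((1, e) * (1, w)) = F.f' ((1, w) * (1, e)) by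
      rw [map_mul, map_mul]; exact hc.eq))
  refine ⟨?_, he1⟩
  subst he1
  rw [show ((1 : P3), (1 : P5)) = (1 : P35) from rfl, map_one] at h
  exact congrArg Prod.snd (F.inj (h.trans F.f.map_one.symm))

theorem not_CA_of_KS (hK : KS F) : ¬ CA F := by
  intro hA
  obtain ⟨r, hr2, hrz, hr3, hrq, hrr, -⟩ := exists_r F hA
  obtain ⟨⟨t, v⟩, hv, hp⟩ := hK _ (of_centF F hrq hrr)
  set g := F.f (1, g5) with hg
  have hr : r = g * F.f (t, v) * g⁻¹ := by rw [hp]; group
  have hgz : Commute g F.z := by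
    show g * F.z = F.z * g
    rw [hg, Frame.z, ← map_mul, ← map_mul]; exact congrArg F.f (by decide)
  have h2 : t * t = 1 := by
    have : F.f ((t, v) * (t, v)) = F.f 1 := by
      rw [map_mul, hp, map_one, show g⁻¹ * r * g * (g⁻¹ * r * g) = g⁻¹ * (r * r) * g by group, hr2]; group
    exact congrArg Prod.fst (F.inj this)
  have hgz' : g⁻¹ * F.z * g = F.z := by rw [mul_assoc, ← hgz.eq, inv_mul_cancel_left]
  have h3 : F.f ((t, v) * (c3 * t * c3⁻¹, v) * (c3⁻¹ * t * c3, v)) = F.f 1 := by
    rw [map_one, map_mul, map_mul,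
      show F.f (c3 * t * c3⁻¹, v) = F.z * F.f (t, v) * F.z⁻¹ by
        rw [Frame.z, ← map_inv, ← map_mul, ← map_mul]; exact congrArg F.f (Prod.ext rfl (by simp)),
      show F.f (c3⁻¹ * t * c3, v) = F.z⁻¹ * F.f (t, v) * F.z by
        rw [Frame.z, ← map_inv, ← map_mul, ← map_mul]; exact congrArg F.f (Prod.ext rfl (by simp)), hp]
    rw [← hgz']
    rw [show g⁻¹ * r * g * (g⁻¹ * F.z * g * (g⁻¹ * r * g) * (g⁻¹ * F.z * g)⁻¹) *
      ((g⁻¹ * F.z * g)⁻¹ * (g⁻¹ * r * g) * (g⁻¹ * F.z * g)) = g⁻¹ * (r * (F.z * r * F.z⁻¹) * (F.z⁻¹ * r * F.z)) * g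
      by group, hr3]
    group
  have := pair_triple t v hv h2 (F.inj h3)
  rw [this] at hr
  rw [map_one, mul_one, mul_inv_cancel] at hr
  exact hrz (by rw [hr, one_mul, mul_one])

theorem not_CA_of_KA (hK : KA F) : ¬ CA F := by
  intro hA
  obtain ⟨r, hr2, hrz, hr3, hrq, hrr, hru⟩ := exists_r F hA
  obtain ⟨v, hv, e, he, hp⟩ := hK.2 _ (of_centF F hrq hrr)
  have hg5 : Equiv.Perm.sign g5 = 1 := by decide
  have hv1 := (fours_facts 0 v hv).2.1
  have hz : F.z = F.f' (1, d5) := F.f'_d.symm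
  set q := g5 * v * g5⁻¹ with hq
  have hqs : Equiv.Perm.sign q = 1 := by rw [hq]; simp [hv1]
  have hr : r = F.f (1, q) * F.f' (1, e) := by
    rw [show r = F.f (1, g5) * ((F.f (1, g5))⁻¹ * r * F.f (1, g5)) * (F.f (1, g5))⁻¹ by group, hp,
      show F.f (1, g5) * (F.f (1, v) * F.f' (1, e)) * (F.f (1, g5))⁻¹ =
      (F.f (1, g5) * F.f (1, v) * (F.f (1, g5))⁻¹) * (F.f (1, g5) * F.f' (1, e) * (F.f (1, g5))⁻¹) by group,
      (KA_comm F hK g5 hg5 e he).eq, mul_inv_cancel_right, ← map_inv, ← map_mul, ← map_mul]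
    exact congrArg (· * _) (congrArg F.f (Prod.ext (by simp) rfl))
  have hqq : q * q = 1 := by
    rw [hq, show g5 * v * g5⁻¹ * (g5 * v * g5⁻¹) = g5 * (v * v) * g5⁻¹ by group, (fours_facts 0 v hv).1, mul_one,
      mul_inv_cancel]
  have split : ∀ a b : P5, Equiv.Perm.sign a = 1 → Equiv.Perm.sign b = 1 → F.f (1, a) * F.f' (1, b) = 1 → a = 1 ∧ b = 1 := by
    intro a b ha hb h
    have := KA_inter F hK ha (show Equiv.Perm.sign b⁻¹ = 1 by simp [hb])
      (by rw [show ((1, b⁻¹) : P35) = (1, b)⁻¹ from Prod.ext (by simp) rfl, map_inv]; exact eq_inv_of_mul_eq_one_left h)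
    exact ⟨this.1, inv_eq_one.1 this.2⟩
  have hee : e * e = 1 := by
    refine (split 1 (e * e) (by simp) (by simp [he]) ?_).2
    have h1 : r * r = 1 := hr2
    rw [hr, (KA_comm F hK q hqs e he).symm.mul_mul_mul_comm, ← map_mul, ← map_mul] at h1
    rwa [show ((1, q) : P35) * (1, q) = (1, 1) from Prod.ext (by simp) hqq,
      show ((1, e) : P35) * (1, e) = (1, e * e) from Prod.ext (by simp) rfl] at h1
  have htrip : q = 1 ∧ e * (d5 * e * d5⁻¹) * (d5⁻¹ * e * d5) = 1 := by
    refine split _ _ hqs (by simp [he]) ?_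
    have hdc : Commute (F.f (1, q)) F.z := hz ▸ KA_comm F hK q hqs d5 (by decide)
    have h1 : F.z * r * F.z⁻¹ = F.f (1, q) * F.f' (1, d5 * e * d5⁻¹) := by
      rw [hr, show F.z * (F.f (1, q) * F.f' (1, e)) * F.z⁻¹ = (F.z * F.f (1, q)) * F.f' (1, e) * F.z⁻¹ by group, ← hdc.eq,
        mul_assoc (F.f (1, q)), mul_assoc (F.f (1, q)), hz, ← map_inv, ← map_mul, ← map_mul]
      exact congrArg (_ * ·) (congrArg F.f' (Prod.ext (by simp) rfl))
    have h2 : F.z⁻¹ * r * F.z = F.f (1, q) * F.f' (1, d5⁻¹ * e * d5) := by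
      rw [hr, show F.z⁻¹ * (F.f (1, q) * F.f' (1, e)) * F.z = (F.z⁻¹ * F.f (1, q)) * F.f' (1, e) * F.z by group,
        ← (hdc.inv_right).eq, mul_assoc (F.f (1, q)), mul_assoc (F.f (1, q)), hz, ← map_inv, ← map_mul, ← map_mul]
      exact congrArg (_ * ·) (congrArg F.f' (Prod.ext (by simp) rfl))
    rw [h1, h2, hr, (KA_comm F hK q hqs e he).symm.mul_mul_mul_comm,
      show F.f (1, q) * F.f (1, q) = 1 by
        rw [← map_mul]; exact (map_one F.f) ▸ congrArg F.f (Prod.ext (by simp) hqq), one_mul] at hr3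
    have cc := (KA_comm F hK q hqs e he).mul_right (KA_comm F hK q hqs (d5 * e * d5⁻¹) (by simp [he]))
    rw [← mul_assoc, ← cc.eq] at hr3
    rw [← hr3, mul_assoc (F.f (1, q)), ← map_mul]
    exact congrArg (_ * ·) ((congrArg F.f' (Prod.ext (by simp) rfl : ((1, e * (d5 * e * d5⁻¹) * (d5⁻¹ * e * d5)) : P35) = (1, e) * (1, d5 * e * d5⁻¹) * (1, d5⁻¹ * e * d5))).trans (map_mul _ _ _))
  have het : e * t5 = t5 * e := by
    rw [hr, htrip.1, show ((1 : P3), (1 : P5)) = (1 : P35) from rfl, map_one, one_mul, ← F.f'_t] at hru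
    exact congrArg Prod.snd (F.inj' (show F.f' ((1, e) * (1, t5)) = F.f' ((1, t5) * (1, e)) by
      rw [map_mul, map_mul]; exact hru))
  have he1 := even_triple e he het hee htrip.2
  apply hrz
  rw [hr, htrip.1, he1, show ((1 : P3), (1 : P5)) = (1 : P35) from rfl, map_one, map_one, one_mul, one_mul, mul_one]

theorem not_KS_of_CB (hB : CB F) : ¬ KS F := by
  intro hK
  obtain ⟨c1, c2, c3', c4, c5, c6, c7, c8⟩ := conj_F
  set q' := F.f (1, r5) with hq'
  set r := F.n * q' * F.n with hr
  set j := F.f (1, q5) with hj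
  -- the twist
  have htw : F.n * F.a * F.n = j := by
    rcases F.twist with h | h
    · exfalso
      have ha : F.a = F.n * F.f (1, e5) * F.n := by rw [← h, F.nn]; rfl
      set g := F.n * q' with hg
      have hgu : g * F.u * g⁻¹ = F.a := by
        rw [ha, hg, hq', show F.n * F.f (1, r5) * F.u * (F.n * F.f (1, r5))⁻¹ =
          F.n * (F.f (1, r5) * F.u * (F.f (1, r5))⁻¹) * F.n⁻¹ by group, F.n_inv]
        congr 2
        rw [Frame.u, ← map_inv, ← map_mul, ← map_mul]; exact congrArg F.f (by decide)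
      have hc : Commute (F.f (1, f5)) F.a := by
        show F.f (1, f5) * F.a = F.a * F.f (1, f5)
        rw [Frame.a, ← map_mul, ← map_mul]; exact congrArg F.f (Prod.ext (by simp) (by simp))
      have h1 := commute_conj (g := g⁻¹) hc
      rw [inv_inv, show g⁻¹ * F.a * g = F.u by rw [← hgu]; group] at h1
      have h2 := no_five_u F hB (by
        rw [show g⁻¹ * F.f (1, f5) * g = g⁻¹ * F.f (1, f5) * g⁻¹⁻¹ by group, conj_pow, ← map_pow,
          show ((1, f5) : P35) ^ 5 = 1 from Prod.ext (one_pow 5) f5_facts.1, map_one, mul_one, mul_inv_cancel]) h1.eq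
      rw [show g⁻¹ * F.f (1, f5) * g = g⁻¹ * F.f (1, f5) * g⁻¹⁻¹ by group] at h2
      exact f5_facts.2 (congrArg Prod.snd (F.inj ((conj_one h2).trans F.f.map_one.symm)))
    · rw [hj, show q5 = e5 * t5 by decide]; exact h
  have hnn := F.n_sq
  have hni := F.n_inv
  have hqq : q' * q' = 1 := by rw [hq', ← map_mul]; exact (map_one F.f) ▸ congrArg F.f (Prod.ext (by simp) c6)
  have hr' : r = F.f' (1, r5) := (F.f'_apply _).symm
  have hrr : r * r = 1 := by rw [hr', ← map_mul]; exact (map_one F.f') ▸ congrArg F.f' (Prod.ext (by simp) c6)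
  have hri : r⁻¹ = r := inv_eq_of_mul_eq_one_right hrr
  have hqi : q'⁻¹ = q' := inv_eq_of_mul_eq_one_right hqq
  have ha' : F.a = F.f' (1, q5) := by rw [F.f'_apply, ← hj, ← htw, F.nn]
  have hj' : j = F.f' (a3, 1) := by rw [F.f'_apply, ← htw]; rfl
  have rj : r * j * r = j := by rw [hr', hj', ← map_mul, ← map_mul]; exact congrArg F.f' (by decide)
  have ra : r * F.a * r = F.a := by rw [hr', ha', ← map_mul, ← map_mul]; exact congrArg F.f' (by decide)
  have ru : r * F.u * r = F.u * F.a := by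
    rw [hr', ha', ← F.f'_t, ← map_mul, ← map_mul, ← map_mul]; exact congrArg F.f' (by decide)
  have qj : q' * j * q' = j := by rw [hq', hj, ← map_mul, ← map_mul]; exact congrArg F.f (by decide)
  have qa : q' * F.a * q' = F.a := by rw [hq', Frame.a, ← map_mul, ← map_mul]; exact congrArg F.f (by decide)
  have qu : q' * F.u * q' = F.u * j := by
    rw [hq', hj, Frame.u, ← map_mul, ← map_mul, ← map_mul]; exact congrArg F.f (by decide)
  have cof : ∀ g x : G, g * g = 1 → g * x * g = x → Commute g x := fun g x hgg h => by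
    show g * x = x * g
    calc g * x = g * x * (g * g) := by rw [hgg, mul_one]
      _ = (g * x * g) * g := by group
      _ = x * g := by rw [h]
  set e := q' * r * q' * r with he
  have ea : Commute e F.a :=
    (((cof _ _ hqq qa).mul_left (cof _ _ hrr ra)).mul_left (cof _ _ hqq qa)).mul_left (cof _ _ hrr ra)
  have ej : Commute e j :=
    (((cof _ _ hqq qj).mul_left (cof _ _ hrr rj)).mul_left (cof _ _ hqq qj)).mul_left (cof _ _ hrr rj)
  have hjj : j * j = 1 := by rw [hj, ← map_mul]; exact (map_one F.f) ▸ congrArg F.f (by decide)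
  have haa : F.a * F.a = 1 := by rw [Frame.a, ← map_mul]; exact (map_one F.f) ▸ congrArg F.f (by decide)
  have eu : e * F.u * e⁻¹ = F.u := by
    have hrja : r * (F.u * j * F.a) * r = F.u * j := by
      calc r * (F.u * j * F.a) * r = (r * F.u * r⁻¹) * (r * j * r⁻¹) * (r * F.a * r) := by group
        _ = _ := by
          rw [hri, ru, rj, ra, show F.u * F.a * j * F.a = F.u * (F.a * j * F.a) by group]
          rw [show F.a * j * F.a = j by
            rw [hj, Frame.a, ← map_mul, ← map_mul]; exact congrArg F.f (by decide)]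
    calc e * F.u * e⁻¹ = q' * (r * (q' * (r * F.u * r⁻¹) * q'⁻¹) * r⁻¹) * q'⁻¹ := by rw [he]; group
      _ = q' * (r * ((q' * F.u * q') * (q' * F.a * q')) * r) * q' := by
          rw [hri, hqi, ru]
          rw [show q' * F.u * q' * (q' * F.a * q') = q' * F.u * (q' * q') * F.a * q' by group, hqq, mul_one]
          group
      _ = q' * (F.u * j) * q' := by rw [qu, qa, hrja]
      _ = (q' * F.u * q') * (q' * j * q') := by
          rw [show q' * F.u * q' * (q' * j * q') = q' * F.u * (q' * q') * j * q' by group, hqq, mul_one]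
          group
      _ = F.u := by rw [qu, qj, mul_assoc, hjj, mul_one]
  have heu : e * F.u = F.u * e := mul_inv_eq_iff_eq_mul.1 eu
  obtain ⟨p, hp⟩ : e ∈ F.f.range := by
    rcases hB e heu with h | ⟨p, hp⟩
    · exact h
    · exfalso
      have h1 : F.f p * F.a * (F.f p)⁻¹ = j := by
        rw [hp, show e * F.n * F.a * (e * F.n)⁻¹ = e * (F.n * F.a * F.n⁻¹) * e⁻¹ by group, hni, htw, ej.eq,
          mul_inv_cancel_right]
      rw [Frame.a, hj, ← map_inv, ← map_mul, ← map_mul] at h1
      have h2 := congrArg Prod.fst (F.inj h1)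
      simp only [Prod.fst_mul, Prod.fst_inv] at h2
      exact absurd (show a3 = 1 by
        rw [show a3 = p.1⁻¹ * (p.1 * a3 * p.1⁻¹) * p.1 by group, h2, mul_one, inv_mul_cancel]) (by decide)
  have hinv : e⁻¹ = r * q' * r * q' := inv_eq_of_mul_eq_one_right (by
    rw [he, show q' * r * q' * r * (r * q' * r * q') = q' * r * q' * (r * r) * q' * r * q' by group, hrr, mul_one,
      show q' * r * q' * q' * r * q' = q' * r * (q' * q') * r * q' by group, hqq, mul_one,
      show q' * r * r * q' = q' * (r * r) * q' by group, hrr, mul_one, hqq])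
  have hei : q' * e * q' = e⁻¹ := by
    rw [hinv, he, show q' * (q' * r * q' * r) * q' = (q' * q') * (r * q' * r * q') by group, hqq, one_mul]
  have hne : F.n * e * F.n = e⁻¹ := by
    have h1 : F.n * q' * F.n⁻¹ = r := by rw [hni]
    have h2 : F.n * r * F.n⁻¹ = q' := by rw [hni, hr]; exact F.nn q'
    rw [hinv, he]
    calc F.n * (q' * r * q' * r) * F.n = F.n * (q' * r * q' * r) * F.n⁻¹ := by rw [hni]
      _ = (F.n * q' * F.n⁻¹) * (F.n * r * F.n⁻¹) * (F.n * q' * F.n⁻¹) * (F.n * r * F.n⁻¹) := by group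
      _ = _ := by rw [h1, h2]
  have hpu : p * (1, t5) = (1, t5) * p := F.inj (by rw [map_mul, map_mul, hp]; exact heu)
  have hpa : p * (a3, 1) = (a3, 1) * p := F.inj (by rw [map_mul, map_mul, hp]; exact ea.eq)
  have hpj : p * (1, q5) = (1, q5) * p := F.inj (by rw [map_mul, map_mul, hp]; exact ej.eq)
  have hpr : (1, r5) * p * (1, r5) = p⁻¹ := F.inj (by rw [map_mul, map_mul, map_inv, hp]; exact hei)
  have main : e = 1 ∨ e = F.a * j := by
    rcases small_e p hpu hpa hpj hpr with h | h | h | h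
    · left; rw [← hp, h, map_one]
    · exfalso
      have : e = F.a := by rw [← hp, h]; rfl
      rw [this, htw, inv_eq_of_mul_eq_one_right haa] at hne
      exact absurd (F.inj hne) (by decide)
    · exfalso
      have : e = j := by rw [← hp, h]
      rw [this, inv_eq_of_mul_eq_one_right hjj, show F.n * j * F.n = F.a by rw [← htw, F.nn]] at hne
      exact absurd (F.inj hne) (by decide)
    · right; rw [← hp, h, hj, Frame.a, ← map_mul]; exact congrArg F.f (Prod.ext (by simp) (by simp))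
  rcases main with h | h
  · -- then `r` centralises the four-group
    have hc : Commute r q' := by
      show r * q' = q' * r
      calc r * q' = q' * q' * r * q' * (r * r) := by rw [hqq, hrr, one_mul, mul_one]
        _ = q' * (q' * r * q' * r) * r := by group
        _ = q' * r := by rw [← he, h, mul_one]
    have hm := of_centF F (show r * F.f (1, q5) = F.f (1, q5) * r from (cof _ _ hrr rj).eq) hc.eq
    obtain ⟨w, -, hw⟩ := hK _ hm
    have hrw : r = F.f ((1, g5) * w * (1, g5)⁻¹) := by rw [map_mul, map_mul, map_inv, hw]; group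
    rw [hrw, Frame.u, Frame.a, ← map_mul, ← map_mul, ← map_mul] at ru
    have h2 := congrArg Prod.fst (F.inj ru)
    simp only [Prod.fst_mul, Prod.fst_inv, one_mul, mul_one, inv_one] at h2
    have hrr' := congrArg Prod.fst (F.inj (show F.f (((1, g5) * w * (1, g5)⁻¹) * ((1, g5) * w * (1, g5)⁻¹)) = F.f 1 by
      rw [map_mul, ← hrw, hrr, map_one]))
    simp only [Prod.fst_mul, Prod.fst_inv, Prod.fst_one, one_mul, mul_one, inv_one] at hrr'
    rw [hrr'] at h2
    exact absurd h2.symm (by decide)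
  · -- then `q' u` and `z'` centralise a conjugate of `z`, so `u` does
    obtain ⟨-, hw, hd, hne'⟩ := twist_word
    set z1 := F.f' (1, r5 * d5 * r5) with hz1
    have hz1' : z1 = r * F.z * r := by
      rw [hz1, hr', ← F.f'_d, ← map_mul, ← map_mul]; exact congrArg F.f' (Prod.ext (by simp) rfl)
    have hqz : q' * F.z * q' = F.z := by
      rw [hq', Frame.z, ← map_mul, ← map_mul]; exact congrArg F.f (by decide)
    have hjz : j * F.z * j = F.z := by
      rw [hj, Frame.z, ← map_mul, ← map_mul]; exact congrArg F.f (by decide)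
    have hji : j⁻¹ = j := inv_eq_of_mul_eq_one_right hjj
    have hai : F.a⁻¹ = F.a := inv_eq_of_mul_eq_one_right haa
    have hjz1 : j * z1 * j = z1 := by
      have hjr : j * r = r * j := (cof _ _ hrr rj).symm.eq
      rw [hz1', show j * (r * F.z * r) * j = (j * r) * F.z * (r * j) by group, hjr, ← hjr,
        show j * r * F.z * (j * r) = j * r * (F.z * j) * r by group]
      rw [hjr, show r * j * (F.z * j) * r = r * (j * F.z * j) * r by group, hjz]
    have hqz1 : q' * z1 * q' = F.a * z1 * F.a := by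
      have e1 : q' * r = F.a * j * r * q' := by
        rw [← h, he]
        calc q' * r = q' * r * q' * (r * r) * q' := by rw [hrr, mul_one, mul_assoc, mul_assoc, hqq, mul_one]
          _ = _ := by group
      calc q' * z1 * q' = (q' * r) * F.z * (q' * r)⁻¹ := by rw [hz1', mul_inv_rev, hri, hqi]; group
        _ = F.a * j * r * (q' * F.z * q'⁻¹) * r⁻¹ * j⁻¹ * F.a⁻¹ := by rw [e1]; group
        _ = F.a * (j * (r * F.z * r) * j) * F.a := by rw [hri, hqi, hji, hai, hqz]; group
        _ = _ := by rw [← hz1', hjz1]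
    have hA : Commute (F.f (1, r5 * t5)) z1 := by
      rw [show F.f (1, r5 * t5) = q' * F.u by rw [hq', Frame.u, ← map_mul]; exact congrArg F.f (Prod.ext (by simp) rfl)]
      have haz : F.a * z1 * F.a = F.u * z1 * F.u := by
        rw [ha', hz1, ← F.f'_t, ← map_mul, ← map_mul, ← map_mul, ← map_mul]
        exact congrArg F.f' (Prod.ext (by simp) hd)
      show q' * F.u * z1 = z1 * (q' * F.u)
      have e2 : F.u * z1 = q' * z1 * q' * F.u := by
        rw [hqz1, haz, mul_assoc _ F.u F.u, F.u_facts.1, mul_one]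
      rw [mul_assoc, e2, show q' * (q' * z1 * q' * F.u) = q' * q' * z1 * (q' * F.u) by group, hqq, one_mul]
    have hB' : Commute (F.f (1, d5)) z1 := by
      rw [show F.f (1, d5) = F.f' (c3, 1) from F.f'_c.symm, hz1]
      show _ * _ = _ * _
      rw [← map_mul, ← map_mul]; exact congrArg F.f' (Prod.ext (by simp) (by simp))
    let X : Subgroup P5 := (Subgroup.centralizer ({z1} : Set G)).comap (F.f.comp (MonoidHom.inr P3 P5))
    have hXA : r5 * t5 ∈ X := Subgroup.mem_centralizer_singleton_iff.mpr hA.eq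
    have hXB : d5 ∈ X := Subgroup.mem_centralizer_singleton_iff.mpr hB'.eq
    have hXu : t5 ∈ X := by
      rw [hw]
      exact (X.mul_mem (X.mul_mem (X.mul_mem (X.mul_mem (X.mul_mem (X.mul_mem (X.mul_mem (X.mul_mem (X.mul_mem (X.mul_mem (X.mul_mem hXA hXB) hXA) hXB) hXB) hXA) hXB) hXB) hXA) hXB) hXA) hXB)
    have hu := Subgroup.mem_centralizer_singleton_iff.mp hXu
    change F.u * z1 = z1 * F.u at hu
    rw [hz1, ← F.f'_t, ← map_mul, ← map_mul] at hu
    exact hne' (congrArg Prod.snd (F.inj' hu))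

end Cfsg.Agent.Invol.S8Three
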