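import Cfsg.Agent.Lib.Invol.S8Three.Lists

/-! Finite facts on Sym(3) × Sym(5) and Sym(6). -/

set_option autoImplicit false
set_option maxRecDepth 50000

namespace Cfsg.Agent.Invol.S8Three

abbrev P3 := Equiv.Perm (Fin 3)
abbrev P5 := Equiv.Perm (Fin 5)
abbrev P35 := P3 × P5

open Equiv

/-- generators -/
def a3 : P3 := swap 0 1
def b3 : P3 := swap 1 2
def c3 : P3 := swap 0 1 * swap 1 2
def d5 : P5 := swap 0 1 * swap 1 2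
def t5 : P5 := swap 3 4
def e5 : P5 := swap 0 1
/-- the four-groups normalised by `d5` -/
def fours : Fin 2 → List P5
  | 0 => [1, swap 0 1 * swap 2 3, swap 0 2 * swap 1 3, swap 0 3 * swap 1 2]
  | 1 => [1, swap 0 1 * swap 2 4, swap 0 2 * swap 1 4, swap 0 4 * swap 1 2]
/-- the four-group on `{0, 1, 3, 4}` -/
def q5 : P5 := swap 0 1 * swap 3 4
def r5 : P5 := swap 0 3 * swap 1 4
def g5 : P5 := swap 0 1 * swap 2 4

theorem gen_facts : a3 * a3 = 1 ∧ c3 ^ 3 = 1 ∧ c3 ≠ 1 ∧ a3 * c3 * a3 = c3⁻¹ ∧ d5 ^ 3 = 1 ∧ d5 ≠ 1 ∧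
    t5 * t5 = 1 ∧ t5 * d5 = d5 * t5 ∧ e5 * d5 * e5 = d5⁻¹ ∧ e5 * t5 = t5 * e5 ∧ e5 * e5 = 1 := by decide

theorem normal_three : ∀ p : P35, p ^ 3 = 1 → p ≠ 1 →
    (∀ q ∈ ([(a3, 1), (1, e5), (1, swap 1 2), (1, swap 2 3), (1, swap 3 4)] : List P35),
      q * p * q⁻¹ = p ∨ q * p * q⁻¹ = p⁻¹) → p = (c3, 1) ∨ p = (c3⁻¹, 1) := by decide +kernel

theorem cent_c : ∀ p : P35, p * (c3, 1) = (c3, 1) * p ↔ (p.1 = 1 ∨ p.1 = c3 ∨ p.1 = c3⁻¹) := by decide +kernel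

theorem p3_rot : ∀ t : P3, t = 1 ∨ t = c3 ∨ t = c3⁻¹ ∨ t = a3 ∨ t = a3 * c3 ∨ t = a3 * c3⁻¹ := by
  decide +kernel

theorem three_conj : ∀ e : P5, e ^ 3 = 1 → e ≠ 1 → ∃ g : P5, g * e * g⁻¹ = d5 := by decide +kernel

theorem cent_d : ∀ e : P5, e * d5 = d5 * e ↔
    (e = 1 ∨ e = d5 ∨ e = d5⁻¹ ∨ e = t5 ∨ e = d5 * t5 ∨ e = d5⁻¹ * t5) := by decide +kernel

theorem inv_d : ∀ e : P5, e * e = 1 → e * d5 * e⁻¹ = d5⁻¹ → e * t5 = t5 * e →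
    ∃ k : Fin 3, d5 ^ (k : ℕ) * e * (d5 ^ (k : ℕ))⁻¹ = e5 ∨ d5 ^ (k : ℕ) * e * (d5 ^ (k : ℕ))⁻¹ = e5 * t5 := by
  decide +kernel

/-- orders `1, 2, 4, 5` and different from `t5` -/
def good (w : List ℕ) : Bool :=
  let w2 := mulN w w
  let w4 := mulN w2 w2
  (w4 == List.range 5 || mulN w4 w == List.range 5) && w != [0, 1, 2, 4, 3]

/-- products of length up to four of the conjugates of `e` under `d5` -/
def wordsOk (e : List ℕ) : Bool :=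
  let g := [e, mulN (mulN [1, 2, 0, 3, 4] e) [2, 0, 1, 3, 4], mulN (mulN [2, 0, 1, 3, 4] e) [1, 2, 0, 3, 4]]
  g.all fun a => good a && g.all fun b => good (mulN a b) && g.all fun c =>
    good (mulN (mulN a b) c) && g.all fun d => good (mulN (mulN (mulN a b) c) d)

theorem words_fours : ∀ e : P5, wordsOk (imN e) = true → e ∈ fours 0 ∨ e ∈ fours 1 := by decide +kernel

theorem words_const : imN t5 = [0, 1, 2, 4, 3] ∧ imN d5 = [1, 2, 0, 3, 4] ∧ imN d5⁻¹ = [2, 0, 1, 3, 4] := by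
  decide +kernel

theorem fours_cross : ∀ v ∈ fours 0, ∀ w ∈ fours 1, v ≠ 1 → w ≠ 1 → wordsOk (imN (v * w)) = false := by
  decide +kernel

theorem fours_full : ∀ i : Fin 2, ∀ v ∈ fours i, v ≠ 1 → ∀ w ∈ fours i,
    w = 1 ∨ w = v ∨ w = d5 * v * d5⁻¹ ∨ w = d5⁻¹ * v * d5 := by decide +kernel

theorem fours_facts : ∀ i : Fin 2, ∀ v ∈ fours i, v * v = 1 ∧ Equiv.Perm.sign v = 1 ∧
    (∀ w ∈ fours i, v * w = w * v ∧ v * w ∈ fours i) ∧ d5 * v * d5⁻¹ ∈ fours i ∧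
    (e5 * t5) * v * (e5 * t5) ∈ fours (1 - i) ∧ t5 * v * t5 ∈ fours (1 - i) ∧
    e5 * v * e5 ∈ fours i ∧ v * (d5 * v * d5⁻¹) * (d5⁻¹ * v * d5) = 1 := by
  decide +kernel

theorem cent_four : ∀ e : P5, (∀ v ∈ fours 0, e * v = v * e) ↔ e ∈ fours 0 := by decide +kernel

theorem conj_F : g5 * (swap 0 1 * swap 2 3) * g5⁻¹ = q5 ∧ g5 * (swap 0 2 * swap 1 3) * g5⁻¹ = r5 ∧
    t5 * q5 = q5 * t5 ∧ r5 * t5 * r5 = e5 ∧ e5 = t5 * q5 ∧ r5 * r5 = 1 ∧ q5 * q5 = 1 ∧ r5 * q5 = q5 * r5 := by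
  decide +kernel

/-- a triple of conjugates under `d5` with trivial product -/
def triple (f : P5) : Prop := f * f = 1 ∧ f * (d5 * f * d5⁻¹) * (d5⁻¹ * f * d5) = 1

theorem even_triple : ∀ e : P5, Equiv.Perm.sign e = 1 → e * t5 = t5 * e → e * e = 1 →
    e * (d5 * e * d5⁻¹) * (d5⁻¹ * e * d5) = 1 → e = 1 := by decide +kernel

theorem pair_triple : ∀ (t : P3) (v : P5), v ∈ fours 0 → t * t = 1 →
    (t, v) * ((c3 : P3) * t * c3⁻¹, v) * (c3⁻¹ * t * c3, v) = 1 → (t, v) = 1 := by decide +kernel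

end Cfsg.Agent.Invol.S8Three
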