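import Cfsg.Agent.Lib.Invol.S8Three.Cands
import Cfsg.Agent.Lib.Invol.S8Three.Tab
import Cfsg.Agent.Lib.Perm.S8Spec

/-! Finite facts on Sym(8). -/

set_option autoImplicit false
set_option maxRecDepth 50000
set_option synthInstance.maxSize 1000

namespace Cfsg.Agent.Invol.S8Three

open Equiv

/-- Representatives of the classes of involutions. -/
def inv8 : Fin 4 → S8
  | 0 => swap 6 7
  | 1 => swap 3 4 * swap 6 7
  | 2 => swap 0 3 * swap 1 4 * swap 2 5
  | 3 => swap 0 3 * swap 1 4 * swap 2 5 * swap 6 7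

theorem inv8_type : ∀ k : Fin 4, (inv8 k).cycleType = Multiset.replicate (k.val + 1) 2 := by decide +kernel

theorem classify (σ : S8) (h2 : σ * σ = 1) (h1 : σ ≠ 1) : ∃ (k : Fin 4) (g : S8), g * σ * g⁻¹ = inv8 k := by
  have ho : orderOf σ = 2 := haveI := Fact.mk Nat.prime_two; orderOf_eq_prime (by rw [pow_two, h2]) h1
  obtain ⟨n, hn⟩ := Equiv.Perm.cycleType_prime_order (ho ▸ Nat.prime_two : (orderOf σ).Prime)
  rw [ho] at hn
  have hs := σ.sum_cycleType_le
  rw [hn, Multiset.sum_replicate, Fintype.card_fin, smul_eq_mul] at hs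
  exact ⟨⟨n, by omega⟩, isConj_iff.mp (Equiv.Perm.isConj_iff_cycleType_eq.mpr (hn.trans (inv8_type ⟨n, by omega⟩).symm))⟩

theorem pow_105 (σ : S8) (h : Odd (orderOf σ)) : σ ^ 105 = 1 := by
  have hm : orderOf σ ∈ Set.range (orderOf : S8 → ℕ) := ⟨σ, rfl⟩
  rw [S8Spec.range_orderOf] at hm
  apply orderOf_dvd_iff_pow_eq_one.mp
  simp only [Set.mem_setOf_eq, List.mem_cons, List.not_mem_nil, or_false] at hm
  rcases hm with e | e | e | e | e | e | e | e | e | e | e <;> rw [e] at h ⊢ <;> revert h <;> decide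

theorem swap_conj (g : S8) : g * inv8 0 * g⁻¹ = swap (g 6) (g 7) := (Equiv.swap_apply_apply g 6 7).symm

theorem card_centralizer_T : Nat.card (Subgroup.centralizer ({inv8 0} : Set S8)) = 1440 := by
  rw [Equiv.Perm.nat_card_centralizer, inv8_type 0]
  decide +kernel

/-- No element of order three centralises the pair. -/
def noThree (hs : List S8) : Bool :=
  (cands hs 8).all fun l => (powL l 3 != oneL) || l == oneL

/-- The power `104`. -/
def pow104 (l : List (Fin 8)) : List (Fin 8) :=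
  let l2 := mulL l l
  let l4 := mulL l2 l2
  let l8 := mulL l4 l4
  let l16 := mulL l8 l8
  let l32 := mulL l16 l16
  let l64 := mulL l32 l32
  mulL (mulL l64 l32) l8

theorem pow104_imgs (σ : S8) : pow104 (imgs σ) = imgs (σ ^ 104) := by
  simp only [pow104, mulL_imgs]
  congr 1

/-- An element of odd order with odd commutators. -/
def killed (hs : List S8) (gs : List (List (Fin 8) × List (Fin 8))) : Bool :=
  (cands hs 8).all fun l => (mulL (pow104 l) l != oneL) ||
    ((!gs.all fun g => let c := mulL (mulL (mulL g.1 l) g.2) (pow104 l); mulL (pow104 c) c == oneL) || l == oneL)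

theorem noThree_sound {hs : List S8} (h : noThree hs = true) {σ : S8} (hc : ∀ g ∈ hs, g * σ = σ * g)
    (h3 : σ ^ 3 = 1) : σ = 1 := by
  have := List.all_eq_true.mp h _ (imgs_mem hc)
  simp only [Bool.or_eq_true, bne_iff_ne, beq_iff_eq, powL_imgs, h3, imgs_one, ne_eq, not_true, false_or] at this
  exact imgs_inj (this.trans imgs_one.symm)

theorem killed_sound {hs : List S8} {gs : List S8}
    (h : killed hs (gs.map fun g => (imgs g, imgs g⁻¹)) = true) {σ : S8} (hc : ∀ g ∈ hs, g * σ = σ * g)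
    (h5 : σ ^ 105 = 1) (hg : ∀ g ∈ gs, (g * σ * g⁻¹ * σ⁻¹) ^ 105 = 1) : σ = 1 := by
  have hinv : σ ^ 104 = σ⁻¹ := eq_inv_of_mul_eq_one_left (by rw [← pow_succ]; exact h5)
  have := List.all_eq_true.mp h _ (imgs_mem hc)
  simp only [Bool.or_eq_true, bne_iff_ne, beq_iff_eq, pow104_imgs, mulL_imgs, ← pow_succ, h5, imgs_one, ne_eq,
    not_true, false_or, Bool.not_eq_true', List.all_map] at this
  rcases this with e | e
  · exfalso
    rw [List.all_eq_false] at e
    obtain ⟨g, hgm, hne⟩ := e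
    simp only [Function.comp_apply, mulL_imgs, pow104_imgs, ← pow_succ, hinv, hg g hgm, imgs_one, beq_self_eq_true,
      not_true] at hne
  · exact imgs_inj (e.trans imgs_one.symm)

theorem v_pairs : ∀ a b : Fin 8, a ≠ b → swap a b * inv8 2 = inv8 2 * swap a b → swap a b * inv8 0 = inv8 0 * swap a b →
    swap a b = inv8 0 ∨ noThree [inv8 2, swap a b] = true := by decide +kernel

theorem v_kill : (([swap 0 3, swap 1 4, swap 2 5, swap 6 7] : List S8).all fun τ =>
    killed [inv8 2, τ] (([swap 0 3, swap 1 4, swap 2 5] : List S8).map fun g => (imgs g, imgs g⁻¹))) = true := by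
  decide +kernel

theorem x2_pairs : ∀ a b : Fin 8, a ≠ b → swap a b * inv8 1 = inv8 1 * swap a b →
    swap a b * swap 3 4 = swap 3 4 * swap a b ∧
      (swap a b = swap 3 4 ∨ swap a b = swap 6 7 ∨ noThree [inv8 1, swap a b] = true) := by decide +kernel

theorem x2_kill : (([swap 3 4, swap 6 7, swap 0 1, swap 2 5, swap 0 2, swap 1 5] : List S8).all fun τ =>
    killed [inv8 1, τ] (([swap 0 1 * swap 2 5, swap 0 2 * swap 1 5, swap 0 1, swap 3 4] : List S8).map
      fun g => (imgs g, imgs g⁻¹))) = true := by decide +kernel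

theorem x2_killF : killed [inv8 1, swap 0 1 * swap 2 5, swap 0 2 * swap 1 5]
    (([swap 0 1 * swap 2 5, swap 0 2 * swap 1 5, swap 0 1, swap 3 4] : List S8).map fun g => (imgs g, imgs g⁻¹)) = true := by
  decide +kernel

theorem x4_pairs : ∀ a b : Fin 8, a ≠ b → swap a b * inv8 3 = inv8 3 * swap a b →
    ∃ h ∈ ([1, swap 0 6 * swap 3 7, swap 1 6 * swap 4 7, swap 2 6 * swap 5 7] : List S8),
      h * inv8 3 = inv8 3 * h ∧ h * inv8 0 * h⁻¹ = swap a b := by decide +kernel

/-- the number of fixed points -/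
def fixL (l : List (Fin 8)) : ℕ := ((List.finRange 8).filter fun i => appL l i == i).length

theorem x4_mul : ∀ l ∈ cands [inv8 0] 8, powL l 2 = oneL → fixL l = 0 →
    powL (mulL l (imgs (inv8 0))) 2 = oneL ∧ fixL (mulL l (imgs (inv8 0))) = 2 := by decide +kernel

theorem fix_reps : ∀ k : Fin 4, fixL (imgs (inv8 k)) = 6 - 2 * k.val := by decide +kernel

theorem fixL_imgs (σ : S8) : fixL (imgs σ) = Fintype.card {i : Fin 8 // σ i = i} := by
  classical
  rw [fixL, appL_imgs, Fintype.card_subtype, Finset.card_def, Finset.filter_val]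
  rfl

theorem fix_conj (σ g : S8) : fixL (imgs (g * σ * g⁻¹)) = fixL (imgs σ) := by
  rw [fixL_imgs, fixL_imgs]
  exact (Fintype.card_congr (g.subtypeEquiv fun i => by simp)).symm

end Cfsg.Agent.Invol.S8Three
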