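import Cfsg.Agent.Lib.Invol.S8Three.Sym8Map
import Cfsg.Agent.Lib.Invol.S8Three.Sym8Tab

/-! The copy of Sym(8) is the whole group. -/

set_option autoImplicit false
set_option maxRecDepth 50000
set_option synthInstance.maxSize 1000
set_option linter.unusedSectionVars false
set_option linter.style.haveILetI false

namespace Cfsg.Agent.Invol.S8Three

universe u

open Equiv

theorem iota_y : iota (c3, d5) * inv8 2 = inv8 2 * iota (c3, d5) ∧ iota (c3, d5) * inv8 3 = inv8 3 * iota (c3, d5) ∧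
    iota (c3, 1) * inv8 1 = inv8 1 * iota (c3, 1) ∧ (iota (c3, d5)) ^ 3 = 1 ∧ iota (c3, d5) ≠ 1 ∧
    (iota (c3, d5)) * inv8 0 = inv8 0 * iota (c3, d5) ∧ iota (1, t5) = inv8 0 ∧
    inv8 2 ≠ inv8 0 ∧ inv8 3 ≠ inv8 0 ∧ inv8 3 * inv8 0 = inv8 2 := by decide +kernel

theorem iota_t2 : ∀ g : P5, iota (1, g * t5 * g⁻¹) ≠ inv8 1 := by decide +kernel

/-- moves the four-group `{3, 4, 5, 6}` to `{0, 1, 2, 5}` -/
def g8 : S8 := n8 * swap 2 6

theorem g8_facts : ∀ v ∈ ([swap 0 1 * swap 2 3, swap 0 2 * swap 1 3] : List P5),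
    g8 * iota (1, v) * g8⁻¹ = swap 0 1 * swap 2 5 ∨ g8 * iota (1, v) * g8⁻¹ = swap 0 2 * swap 1 5 := by decide +kernel

theorem small_facts :
    (swap 3 6 * swap 4 7 : S8) * (swap 3 6 * swap 4 7) = 1 ∧
    (swap 3 6 * swap 4 7 : S8) * inv8 1 = inv8 1 * (swap 3 6 * swap 4 7) ∧
    (swap 3 6 * swap 4 7 : S8) * swap 6 7 * (swap 3 6 * swap 4 7) = swap 3 4 ∧
    (swap 3 4 : S8) * swap 6 7 = inv8 1 ∧ (swap 3 4 : S8) * inv8 1 = inv8 1 * swap 3 4 ∧
    (swap 0 1 * swap 1 2 : S8) * inv8 1 = inv8 1 * (swap 0 1 * swap 1 2) ∧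
    (swap 0 1 * swap 1 2 : S8) * swap 3 4 = swap 3 4 * (swap 0 1 * swap 1 2) ∧
    (swap 0 1 * swap 1 2 : S8) ^ 3 = 1 ∧ (swap 0 1 * swap 1 2 : S8) ≠ 1 ∧
    (swap 0 3 * swap 1 4 : S8) * (swap 0 3 * swap 1 4) = 1 ∧ (swap 0 3 * swap 1 4 : S8) ≠ 1 ∧
    (swap 0 3 * swap 1 4 : S8) * inv8 3 = inv8 3 * (swap 0 3 * swap 1 4) ∧
    fixL (imgs (swap 0 3 * swap 1 4)) = 4 ∧
    swap 0 3 * swap 1 4 * swap 2 5 = inv8 2 ∧ inv8 0 * inv8 2 = inv8 2 * inv8 0 ∧
    (∀ k : Fin 4, inv8 k * inv8 k = 1 ∧ inv8 k ≠ 1) := by decide +kernel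

theorem v_comm : ∀ τ ∈ ([swap 0 3, swap 1 4, swap 2 5] : List S8), τ * inv8 2 = inv8 2 * τ ∧ τ * τ = 1 := by
  intro τ hτ
  simp only [List.mem_cons, List.not_mem_nil, or_false] at hτ
  rcases hτ with rfl | rfl | rfl <;> decide +kernel

theorem x2_comm : ∀ τ ∈ ([swap 3 4, swap 6 7, swap 0 1, swap 2 5, swap 0 2, swap 1 5, swap 0 1 * swap 2 5,
    swap 0 2 * swap 1 5] : List S8), τ * inv8 1 = inv8 1 * τ ∧ τ * τ = 1 := by
  intro τ hτ
  simp only [List.mem_cons, List.not_mem_nil, or_false] at hτ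
  rcases hτ with rfl | rfl | rfl | rfl | rfl | rfl | rfl | rfl <;> decide +kernel

theorem cycleType_five : (swap 0 1 * swap 1 2 * swap 2 3 * swap 3 4 : S8) ^ 5 = 1 ∧
    (swap 0 1 * swap 1 2 * swap 2 3 * swap 3 4 : S8) ≠ 1 ∧
    (swap 0 1 * swap 1 2 * swap 2 3 * swap 3 4 : S8) * inv8 0 = inv8 0 * (swap 0 1 * swap 1 2 * swap 2 3 * swap 3 4) := by
  decide +kernel

variable {G : Type u} [Group G] [Finite G] (F : Frame G)

/-- A copy of Sym(8) adapted to the frame. -/
structure Copy : Type u where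
  ψ : S8 →* G
  inj : Function.Injective ψ
  hι : ∀ p, ψ (iota p) = F.f p
  hn : F.n ∈ ψ.range
  hK : F.K ≤ ψ.range
  hCA : CA F

theorem exists_copy (hd : CB F ∨ CA F) (h : KW1 F) : Nonempty (Copy F) := by
  obtain ⟨ψ, hinj, hι, hn⟩ := exists_psi F h
  have hA : CA F := by
    refine hd.resolve_left fun hB => ?_
    obtain ⟨h5, h1, hc⟩ := cycleType_five
    have := no_five_u F hB (g := ψ (swap 0 1 * swap 1 2 * swap 2 3 * swap 3 4)) (by rw [← map_pow, h5, map_one])
      (by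
        rw [show F.u = ψ (inv8 0) by rw [← iota_y.2.2.2.2.2.2.1, hι]; rfl, ← map_mul, ← map_mul, hc])
    exact h1 (hinj (this.trans ψ.map_one.symm))
  refine ⟨⟨ψ, hinj, hι, hn, fun g hg => ?_, hA⟩⟩
  obtain ⟨v, -, q, -, t, rfl⟩ := h.2.2 g hg
  refine mul_mem (mul_mem ⟨_, hι _⟩ ?_) ⟨_, hι _⟩
  rw [F.f'_apply]
  exact mul_mem (mul_mem hn ⟨_, hι _⟩) hn

namespace Copy

variable {F} (E : Copy F)

/-- The image. -/
def G0 : Subgroup G := E.ψ.range

theorem psi_mem (σ : S8) : E.ψ σ ∈ E.G0 := ⟨σ, rfl⟩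

theorem u_eq : E.ψ (inv8 0) = F.u := by rw [← iota_y.2.2.2.2.2.2.1, E.hι]; rfl

theorem commute_iff {σ τ : S8} : E.ψ σ * E.ψ τ = E.ψ τ * E.ψ σ ↔ σ * τ = τ * σ := by
  rw [← map_mul, ← map_mul]; exact E.inj.eq_iff

theorem cent_u {g : G} (hg : g * F.u = F.u * g) : g ∈ E.G0 := by
  set C := Subgroup.centralizer ({F.u} : Set G) with hC
  obtain ⟨ρ, hs, hk⟩ : ∃ ρ : C →* P6, Function.Surjective ρ ∧ ∀ x, ρ x = 1 ↔ (x = 1 ∨ (x : G) = F.u) := E.hCA
  have hcard : Nat.card C ≤ 1440 := by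
    have h2 : Nat.card ρ.ker ≤ 2 := by
      have : ∀ x : ρ.ker, (x : G) = 1 ∨ (x : G) = F.u := fun x => by
        rcases (hk _).1 x.2 with e | e
        exacts [Or.inl (congrArg Subtype.val e), Or.inr e]
      classical
      let χ : ρ.ker → Fin 2 := fun x => if (x : G) = 1 then 0 else 1
      refine (Nat.card_le_card_of_injective χ fun x y e => ?_).trans (by simp)
      refine Subtype.ext (Subtype.ext ?_)
      rcases this x with a | a <;> rcases this y with b | b <;>
        simp only [χ, a, b, if_true, if_neg F.u_facts.2.1] at e ⊢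
      all_goals exact absurd e (by decide)
    rw [Subgroup.card_eq_card_quotient_mul_card_subgroup ρ.ker,
      Nat.card_congr (QuotientGroup.quotientKerEquivOfSurjective ρ hs).toEquiv, Nat.card_eq_fintype_card (α := P6),
      Fintype.card_perm, Fintype.card_fin]
    exact (Nat.mul_le_mul_left _ h2).trans (le_of_eq rfl)
  have hle : (Subgroup.centralizer ({inv8 0} : Set S8)).map E.ψ ≤ C := by
    rintro _ ⟨σ, hσ, rfl⟩
    refine Subgroup.mem_centralizer_singleton_iff.mpr ?_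
    rw [← E.u_eq, E.commute_iff]
    exact Subgroup.mem_centralizer_singleton_iff.mp hσ
  have he := Subgroup.eq_of_le_of_card_ge hle
    (by rw [Subgroup.card_map_of_injective E.inj, card_centralizer_T]; exact hcard)
  have : g ∈ C := Subgroup.mem_centralizer_singleton_iff.mpr hg
  rw [← he] at this
  obtain ⟨σ, -, rfl⟩ := this
  exact E.psi_mem σ

theorem cent_conj {σ : S8} (hgood : ∀ g : G, g * E.ψ σ = E.ψ σ * g → g ∈ E.G0) (h : S8) {g : G}
    (hg : g * E.ψ (h * σ * h⁻¹) = E.ψ (h * σ * h⁻¹) * g) : g ∈ E.G0 := by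
  have h1 := (commute_conj (g := (E.ψ h)⁻¹) (show Commute g _ from hg)).eq
  rw [show (E.ψ h)⁻¹ * E.ψ (h * σ * h⁻¹) * (E.ψ h)⁻¹⁻¹ = E.ψ σ by
    rw [map_mul, map_mul, map_inv]; group] at h1
  have h2 := mul_mem (mul_mem (E.psi_mem h) (hgood _ h1)) (inv_mem (E.psi_mem h))
  rwa [show E.ψ h * ((E.ψ h)⁻¹ * g * (E.ψ h)⁻¹⁻¹) * (E.ψ h)⁻¹ = g by group] at h2

theorem exists_conj_swap {a b : Fin 8} (hab : a ≠ b) : ∃ h : S8, h * inv8 0 * h⁻¹ = swap a b :=
  isConj_iff.mp (by
    have hs : (swap a b).IsSwap := ⟨a, b, hab, rfl⟩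
    rw [Equiv.Perm.isConj_iff_cycleType_eq, inv8_type, Equiv.Perm.isSwap_iff_cycleType.mp hs]; rfl)

theorem cent_swap {a b : Fin 8} (hab : a ≠ b) {g : G} (hg : g * E.ψ (swap a b) = E.ψ (swap a b) * g) :
    g ∈ E.G0 := by
  obtain ⟨h, hh⟩ := exists_conj_swap hab
  rw [← hh] at hg
  exact E.cent_conj (fun x hx => E.cent_u (by rwa [E.u_eq] at hx)) h hg

theorem not_T {k : Fin 4} (hk : k ≠ 0) (h : G) : h * F.u * h⁻¹ ≠ E.ψ (inv8 k) := by
  intro he
  obtain ⟨y2, y3, z1, -, -, -, -, n2, n3, -⟩ := iota_y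
  have hy : F.z * F.z' = E.ψ (iota (c3, d5)) := by rw [E.hι, F.zz']
  fin_cases k
  · exact hk rfl
  · obtain ⟨g, hg⟩ := conj_u_of_z F (h := h) (by
      rw [he, show F.z = E.ψ (iota (c3, 1)) by rw [E.hι]; rfl, E.commute_iff]; exact z1)
    rw [he, ← E.hι] at hg
    exact iota_t2 g (E.inj hg)
  · have := conj_u_of_y F (h := h) (by rw [he, hy, E.commute_iff]; exact y2)
    rw [he, ← E.u_eq] at this
    exact n2 (E.inj this)
  · have := conj_u_of_y F (h := h) (by rw [he, hy, E.commute_iff]; exact y3)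
    rw [he, ← E.u_eq] at this
    exact n3 (E.inj this)

theorem swap_of_conj {σ : S8} {h : G} (he : h * F.u * h⁻¹ = E.ψ σ) : ∃ a b : Fin 8, a ≠ b ∧ σ = swap a b := by
  have h2 : σ * σ = 1 := E.inj (by
    rw [map_mul, ← he, map_one, show h * F.u * h⁻¹ * (h * F.u * h⁻¹) = h * (F.u * F.u) * h⁻¹ by group, F.u_facts.1]
    group)
  have h1 : σ ≠ 1 := fun e => F.u_facts.2.1 (conj_one (by rw [he, e, map_one]))
  obtain ⟨k, g, hg⟩ := classify σ h2 h1
  by_cases hk : k = 0
  · subst hk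
    refine ⟨g⁻¹ 6, g⁻¹ 7, fun e => absurd (g⁻¹.injective e) (by decide), ?_⟩
    rw [← swap_conj, ← hg]; group
  · exfalso
    refine E.not_T hk (E.ψ g * h) ?_
    rw [← hg, map_mul, map_mul, map_inv, ← he]; group

theorem eq_one_of_killed {hs gs : List S8} (hk : killed hs (gs.map fun g => (imgs g, imgs g⁻¹)) = true)
    {O : Subgroup G} (hO : Odd (Nat.card O)) (hn : ∀ g ∈ gs, ∀ n ∈ O, E.ψ g * n * (E.ψ g)⁻¹ ∈ O) {n : G}
    (hnO : n ∈ O) (hG : n ∈ E.G0) (hc : ∀ g ∈ hs, Commute (E.ψ g) n) : n = 1 := by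
  obtain ⟨σ, rfl⟩ := hG
  have odd : ∀ τ : S8, E.ψ τ ∈ O → τ ^ 105 = 1 := fun τ hτ => pow_105 τ (by
    have hd := Subgroup.orderOf_dvd_natCard O hτ
    rw [orderOf_injective E.ψ E.inj τ] at hd
    exact hO.of_dvd_nat hd)
  rw [killed_sound hk (fun g hg => E.commute_iff.mp (hc g hg).eq) (odd σ hnO) fun g hg => odd _ (by
    rw [map_mul, map_mul, map_mul, map_inv, map_inv]
    exact mul_mem (hn g hg _ hnO) (inv_mem hnO)), map_one]

theorem invol_psi {σ : S8} (h : σ * σ = 1) : E.ψ σ * E.ψ σ = 1 := by rw [← map_mul, h, map_one]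

theorem order_psi {σ : S8} (h : σ * σ = 1) (h1 : σ ≠ 1) : orderOf (E.ψ σ) = 2 := by
  rw [orderOf_injective E.ψ E.inj]
  haveI := Fact.mk Nat.prime_two
  exact orderOf_eq_prime (by rw [pow_two, h]) h1

theorem cent_v {g : G} (hg : g * E.ψ (inv8 2) = E.ψ (inv8 2) * g) : g ∈ E.G0 := by
  obtain ⟨y2, -, -, y3, y1, y0, -, n2, -, -⟩ := iota_y
  obtain ⟨-, -, -, -, -, -, -, -, -, -, -, -, -, v3, c02, sq⟩ := small_facts
  set C := Subgroup.centralizer ({E.ψ (inv8 2)} : Set G) with hC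
  have hmem : ∀ {x : G}, x ∈ C ↔ x * E.ψ (inv8 2) = E.ψ (inv8 2) * x := Subgroup.mem_centralizer_singleton_iff
  have huC : F.u ∈ C := hmem.2 (by rw [← E.u_eq, E.commute_iff]; exact c02)
  have hiso : ∀ x ∈ C, Commute F.u (x * F.u * x⁻¹) → x * F.u * x⁻¹ = F.u := by
    intro x hx hc
    obtain ⟨σ, hσ⟩ := E.cent_u hc.symm.eq
    obtain ⟨a, b, hab, rfl⟩ := E.swap_of_conj hσ.symm
    have h2 : swap a b * inv8 2 = inv8 2 * swap a b := E.commute_iff.mp (by
      rw [hσ]
      exact hmem.1 (mul_mem (mul_mem hx huC) (inv_mem hx)))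
    have h0 : swap a b * inv8 0 = inv8 0 * swap a b := E.commute_iff.mp (by rw [hσ, E.u_eq]; exact hc.symm.eq)
    rcases v_pairs a b hab h2 h0 with e | e
    · rw [← hσ, e, E.u_eq]
    · exfalso
      set y := E.ψ (iota (c3, d5)) with hy
      have hyu : Commute y F.u := by
        show y * F.u = F.u * y
        rw [hy, ← E.u_eq, E.commute_iff]; exact y0
      have hyv : Commute y (E.ψ (inv8 2)) := by
        show y * _ = _ * y
        rw [hy, E.commute_iff]; exact y2
      have k1 := commute_conj (g := x) hyu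
      have k2 := commute_conj (g := x) hyv
      rw [hmem.1 hx, mul_inv_cancel_right] at k2
      rw [← hσ] at k1
      obtain ⟨τ, hτ⟩ := E.cent_swap hab k1.eq
      rw [← hτ] at k1 k2
      have ht3 : τ ^ 3 = 1 := E.inj (by rw [map_pow, hτ, conj_pow, hy, ← map_pow, y3, map_one]; group)
      have := noThree_sound e (σ := τ) (fun g hg => by
        simp only [List.mem_cons, List.not_mem_nil, or_false] at hg
        rcases hg with rfl | rfl
        exacts [(E.commute_iff.mp k2.eq).symm, (E.commute_iff.mp k1.eq).symm]) ht3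
      rw [this, map_one] at hτ
      exact y1 (E.inj ((conj_one hτ.symm).trans E.ψ.map_one.symm))
  obtain ⟨O, hOC, hOodd, hOn, hOc⟩ := exists_core C huC F.u_order hiso
  have hgs : ∀ τ ∈ ([swap 0 3, swap 1 4, swap 2 5] : List S8), E.ψ τ ∈ C := fun τ hτ =>
    hmem.2 (E.commute_iff.mpr (v_comm τ hτ).1)
  have hfix : ∀ τ ∈ ([swap 0 3, swap 1 4, swap 2 5, swap 6 7] : List S8), ∀ n ∈ O, Commute (E.ψ τ) n → n = 1 := by
    intro τ hτ n hn hc
    refine E.eq_one_of_killed (List.all_eq_true.mp v_kill τ hτ) hOodd (fun g hg => hOn _ (hgs g hg)) hn ?_ ?_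
    · obtain ⟨a, b, hab, rfl⟩ : ∃ a b : Fin 8, a ≠ b ∧ τ = swap a b := by
        simp only [List.mem_cons, List.not_mem_nil, or_false] at hτ
        rcases hτ with rfl | rfl | rfl | rfl
        exacts [⟨0, 3, by decide, rfl⟩, ⟨1, 4, by decide, rfl⟩, ⟨2, 5, by decide, rfl⟩, ⟨6, 7, by decide, rfl⟩]
      exact E.cent_swap hab hc.symm.eq
    · intro g hg
      simp only [List.mem_cons, List.not_mem_nil, or_false] at hg
      rcases hg with rfl | rfl
      exacts [(hmem.1 (hOC hn)).symm, hc]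
  have hinv : ∀ τ ∈ ([swap 0 3, swap 1 4, swap 2 5] : List S8), ∀ n ∈ O,
      E.ψ τ * n * (E.ψ τ)⁻¹ = n⁻¹ := fun τ hτ n hn =>
    inverts_of_no_fixed O (E.invol_psi (v_comm τ hτ).2) (fun m hm => hOn _ (hgs τ hτ) m hm)
      (fun m hm => hfix τ (by
        simp only [List.mem_cons, List.not_mem_nil, or_false] at hτ ⊢
        rcases hτ with r | r | r
        exacts [Or.inl r, Or.inr (Or.inl r), Or.inr (Or.inr (Or.inl r))]) m hm) hn
  have hO1 : ∀ n ∈ O, n = 1 := by
    intro n hn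
    have i1 := hinv (swap 0 3) (by simp) n hn
    have i2 := hinv (swap 1 4) (by simp) n hn
    have i3 := hinv (swap 2 5) (by simp) n hn
    have c := commute_of_inverted i1 i2
    have hc3 : Commute (E.ψ (inv8 2)) n := (hmem.1 (hOC hn)).symm
    rw [← v3, map_mul, map_mul] at hc3
    have hs : Commute (E.ψ (swap 2 5)) n := by
      have := (c.inv_left).mul_left hc3
      rwa [inv_mul_cancel_left] at this
    exact eq_one_of_inverted (hOodd.of_dvd_nat (Subgroup.orderOf_dvd_natCard O hn)) i3 hs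
  exact E.cent_u (mul_inv_eq_iff_eq_mul.1 (show F.u * g * F.u⁻¹ = g from
    mul_inv_eq_one.1 (hO1 _ (hOc g (hmem.2 hg))))).symm

theorem cent_four {g : G} (h1 : g * E.ψ (swap 0 1 * swap 2 5) = E.ψ (swap 0 1 * swap 2 5) * g)
    (h2 : g * E.ψ (swap 0 2 * swap 1 5) = E.ψ (swap 0 2 * swap 1 5) * g) : g ∈ E.G0 := by
  set h := (E.ψ g8)⁻¹ * g * E.ψ g8 with hh
  have key : ∀ v ∈ ([swap 0 1 * swap 2 3, swap 0 2 * swap 1 3] : List P5), Commute h (F.f (1, v)) := by
    intro v hv
    have hc : Commute g (E.ψ (g8 * iota (1, v) * g8⁻¹)) := by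
      rcases g8_facts v hv with e | e <;> rw [e]
      exacts [h1, h2]
    have := commute_conj (g := (E.ψ g8)⁻¹) hc
    rw [inv_inv, ← hh] at this
    rwa [show (E.ψ g8)⁻¹ * E.ψ (g8 * iota (1, v) * g8⁻¹) * E.ψ g8 = F.f (1, v) by
      rw [map_mul, map_mul, map_inv, E.hι]; group] at this
  have hm : h ∈ F.K := by
    rw [F.mem_K]
    intro v hv
    have k1 := key (swap 0 1 * swap 2 3) (by simp)
    have k2 := key (swap 0 2 * swap 1 3) (by simp)
    rcases fours_gen v hv with rfl | rfl | rfl | rfl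
    · rw [show ((1 : P3), (1 : P5)) = (1 : P35) from rfl, map_one, mul_one, one_mul]
    · exact k1.eq
    · exact k2.eq
    · have := (k1.mul_right k2).eq
      rwa [← map_mul] at this
  have := mul_mem (mul_mem (E.psi_mem g8) (E.hK hm)) (inv_mem (E.psi_mem g8))
  rwa [hh, show E.ψ g8 * ((E.ψ g8)⁻¹ * g * E.ψ g8) * (E.ψ g8)⁻¹ = g by group] at this

theorem conj_swap_u (a b : Fin 8) (hab : a ≠ b) : ∃ h : G, h * F.u * h⁻¹ = E.ψ (swap a b) := by
  obtain ⟨h, hh⟩ := exists_conj_swap hab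
  exact ⟨E.ψ h, by rw [← hh, map_mul, map_mul, map_inv, E.u_eq]⟩

theorem cent_t2 {g : G} (hg : g * E.ψ (inv8 1) = E.ψ (inv8 1) * g) : g ∈ E.G0 := by
  obtain ⟨h8s, h8x, h8ab, hab, hax, t1, t2, t3, t4, -, -, -, -, -, -, sq⟩ := small_facts
  set x := E.ψ (inv8 1) with hx
  set a := E.ψ (swap 3 4) with ha
  set b := E.ψ (swap 6 7) with hb
  set C := Subgroup.centralizer ({x} : Set G) with hC
  have hmem : ∀ {w : G}, w ∈ C ↔ w * x = x * w := Subgroup.mem_centralizer_singleton_iff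
  have hgs : ∀ τ ∈ ([swap 3 4, swap 6 7, swap 0 1, swap 2 5, swap 0 2, swap 1 5, swap 0 1 * swap 2 5,
      swap 0 2 * swap 1 5] : List S8), E.ψ τ ∈ C := fun τ hτ => hmem.2 (E.commute_iff.mpr (x2_comm τ hτ).1)
  have haC : a ∈ C := hgs _ (by simp)
  have hm' : E.ψ (swap 3 6 * swap 4 7) ∈ C := hmem.2 (E.commute_iff.mpr h8x)
  set hh := E.ψ (swap 3 6 * swap 4 7) with hhh
  have hh2 : hh * hh = 1 := E.invol_psi h8s
  have haa : a * a = 1 := E.invol_psi (Equiv.swap_mul_self _ _)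
  have hxx : x * x = 1 := E.invol_psi (sq 1).1
  have hbx : a * x = b := by
    rw [hx, ← hab, map_mul, ← ha, ← hb, ← mul_assoc, haa, one_mul]
  obtain ⟨hu, hcu⟩ := E.conj_swap_u 3 4 (by decide)
  have hiso : ∀ w ∈ C, (a * (w * a * w⁻¹) * a = w * a * w⁻¹ ∨ a * (w * a * w⁻¹) * a = w * a * w⁻¹ * x) →
      w * a * w⁻¹ = a ∨ w * a * w⁻¹ = a * x := by
    intro w hw hcase
    set a' := w * a * w⁻¹ with ha'
    have ha'C : a' ∈ C := mul_mem (mul_mem hw haC) (inv_mem hw)
    have hconj : (w * hu) * F.u * (w * hu)⁻¹ = a' := by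
      rw [ha', ha, ← hcu]; group
    have swapform : a' ∈ E.G0 → ∃ p q : Fin 8, p ≠ q ∧ a' = E.ψ (swap p q) ∧
        swap p q * inv8 1 = inv8 1 * swap p q := by
      rintro ⟨σ, hσ⟩
      obtain ⟨p, q, hpq, rfl⟩ := E.swap_of_conj (hconj.trans hσ.symm)
      exact ⟨p, q, hpq, hσ.symm, E.commute_iff.mp (by rw [hσ]; exact hmem.1 ha'C)⟩
    rcases hcase with h | h
    · have hc : a' * a = a * a' := by
        calc a' * a = (a * a' * a) * a := by rw [h]
          _ = a * a' * (a * a) := by group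
          _ = a * a' := by rw [haa, mul_one]
      obtain ⟨p, q, hpq, he, hx1⟩ := swapform (E.cent_swap (show (3 : Fin 8) ≠ 4 by decide) hc)
      obtain ⟨-, e | e | e⟩ := x2_pairs p q hpq hx1
      · exact Or.inl (by rw [he, e])
      · exact Or.inr (by rw [hbx, he, e])
      · exfalso
        have k1 : Commute (w * E.ψ (swap 0 1 * swap 1 2) * w⁻¹) a' :=
          commute_conj (show Commute _ a from E.commute_iff.mpr t2)
        have k2 : Commute (w * E.ψ (swap 0 1 * swap 1 2) * w⁻¹) x := by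
          have := commute_conj (g := w) (show Commute (E.ψ (swap 0 1 * swap 1 2)) x from E.commute_iff.mpr t1)
          rwa [hmem.1 hw, mul_inv_cancel_right] at this
        rw [he] at k1
        obtain ⟨τ, hτ⟩ := E.cent_swap hpq k1.eq
        rw [← hτ] at k1 k2
        have ht3 : τ ^ 3 = 1 := E.inj (by rw [map_pow, hτ, conj_pow, ← map_pow, t3, map_one]; group)
        have := noThree_sound e (σ := τ) (fun g hg => by
          simp only [List.mem_cons, List.not_mem_nil, or_false] at hg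
          rcases hg with rfl | rfl
          exacts [(E.commute_iff.mp k2.eq).symm, (E.commute_iff.mp k1.eq).symm]) ht3
        rw [this, map_one] at hτ
        exact t4 (E.inj ((conj_one hτ.symm).trans E.ψ.map_one.symm))
    · exfalso
      have ha'2 : a' * a' = 1 := by
        rw [ha', show w * a * w⁻¹ * (w * a * w⁻¹) = w * (a * a) * w⁻¹ by group, haa]; group
      have hxa' : a' * x = x * a' := hmem.1 ha'C
      have e1 : a' * a * a' = a * x := by
        calc a' * a * a' = a' * (a * a' * a) * a := by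
              rw [show a' * (a * a' * a) * a = a' * a * a' * (a * a) by group, haa, mul_one]
          _ = (a' * a') * x * a := by rw [h]; group
          _ = a * x := by rw [ha'2, one_mul]; exact (hmem.1 haC).symm
      have e2 : hh * a' * a = a * (hh * a') := by
        have hhb : hh * b * hh = a := by rw [hhh, hb, ← map_mul, ← map_mul, h8ab]
        calc hh * a' * a = hh * (a' * a * a') * a' := by
              rw [show hh * (a' * a * a') * a' = hh * a' * a * (a' * a') by group, ha'2, mul_one]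
          _ = (hh * b * hh) * (hh * a') := by
              rw [e1, hbx, show hh * b * hh * (hh * a') = hh * b * (hh * hh) * a' by group, hh2, mul_one]
          _ = a * (hh * a') := by rw [hhb]
      have hG : a' ∈ E.G0 := by
        have := mul_mem (inv_mem (E.psi_mem (swap 3 6 * swap 4 7))) (E.cent_swap (show (3 : Fin 8) ≠ 4 by decide) e2)
        rwa [← hhh, inv_mul_cancel_left] at this
      obtain ⟨p, q, hpq, he, hx1⟩ := swapform hG
      have hc : a' * a = a * a' := by rw [he, ha, E.commute_iff]; exact (x2_pairs p q hpq hx1).1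
      rw [← hc, mul_assoc, haa, mul_one] at h
      exact (sq 1).2 (E.inj ((mul_left_cancel (h.symm.trans (mul_one a').symm)).trans E.ψ.map_one.symm))
  have hax' : a ≠ x := fun e => absurd (E.inj e) (by decide)
  obtain ⟨O, hOC, hOodd, hOn, hOc⟩ := exists_core_mod C (hmem.2 rfl) (E.order_psi (sq 1).1 (sq 1).2) haC
    (E.order_psi (Equiv.swap_mul_self _ _) (by decide)) hax' (fun w hw => hmem.1 hw) hiso
  have hgsC : ∀ g ∈ ([swap 0 1 * swap 2 5, swap 0 2 * swap 1 5, swap 0 1, swap 3 4] : List S8), E.ψ g ∈ C := by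
    intro g hg
    refine hgs g ?_
    simp only [List.mem_cons, List.not_mem_nil, or_false] at hg ⊢
    rcases hg with r | r | r | r <;> simp [r]
  have hinv : ∀ p q : Fin 8, p ≠ q → swap p q ∈ ([swap 3 4, swap 6 7, swap 0 1, swap 2 5, swap 0 2, swap 1 5] : List S8) →
      ∀ n ∈ O, E.ψ (swap p q) * n * (E.ψ (swap p q))⁻¹ = n⁻¹ := by
    intro p q hpq hτ n hn
    have hτC : E.ψ (swap p q) ∈ C := hgs _ (List.mem_append_left [swap 0 1 * swap 2 5, swap 0 2 * swap 1 5] hτ)
    refine inverts_of_no_fixed O (E.invol_psi (Equiv.swap_mul_self _ _)) (fun m hm => hOn _ hτC m hm) (fun m hm hc => ?_) hn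
    refine E.eq_one_of_killed (List.all_eq_true.mp x2_kill _ hτ) hOodd (fun g hg => hOn _ (hgsC g hg)) hm
      (E.cent_swap hpq hc.symm.eq) ?_
    intro g hg
    simp only [List.mem_cons, List.not_mem_nil, or_false] at hg
    rcases hg with rfl | rfl
    exacts [(hmem.1 (hOC hm)).symm, hc]
  have hO1 : ∀ n ∈ O, n = 1 := by
    intro n hn
    have c1 := commute_of_inverted (hinv 0 1 (by decide) (by simp) n hn) (hinv 2 5 (by decide) (by simp) n hn)
    have c2 := commute_of_inverted (hinv 0 2 (by decide) (by simp) n hn) (hinv 1 5 (by decide) (by simp) n hn)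
    rw [← map_mul] at c1 c2
    refine E.eq_one_of_killed x2_killF hOodd (fun g hg => hOn _ (hgsC g hg)) hn (E.cent_four c1.symm.eq c2.symm.eq) ?_
    intro g hg
    simp only [List.mem_cons, List.not_mem_nil, or_false] at hg
    rcases hg with rfl | rfl | rfl
    exacts [(hmem.1 (hOC hn)).symm, c1, c2]
  obtain ⟨o, ho, e | e⟩ := hOc g (hmem.2 hg)
  · rw [hO1 o ho] at e
    exact E.cent_swap (show (3 : Fin 8) ≠ 4 by decide) (mul_inv_eq_iff_eq_mul.1 (mul_inv_eq_one.1 e)).symm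
  · rw [hO1 o ho, one_mul] at e
    have e1 : a * g * a⁻¹ = x * g := mul_inv_eq_iff_eq_mul.1 e
    have e2 : a * g = x * g * a := mul_inv_eq_iff_eq_mul.1 e1
    have e3 : hh * g * a = a * (hh * g) := by
      have hxa : a * x = x * a := hmem.1 haC
      have hhb : hh * b * hh = a := by rw [hhh, hb, ← map_mul, ← map_mul, h8ab]
      have e4 : g * a = b * g := by
        calc g * a = (x * x) * g * a := by rw [hxx, one_mul]
          _ = x * (x * g * a) := by group
          _ = x * (a * g) := by rw [e2]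
          _ = b * g := by rw [← mul_assoc, ← hxa, hbx]
      calc hh * g * a = (hh * b * hh) * (hh * g) := by
            rw [show hh * b * hh * (hh * g) = hh * b * (hh * hh) * g by group, hh2, mul_one, mul_assoc, e4, mul_assoc]
        _ = a * (hh * g) := by rw [hhb]
    have := mul_mem (inv_mem (E.psi_mem (swap 3 6 * swap 4 7))) (E.cent_swap (show (3 : Fin 8) ≠ 4 by decide) e3)
    rwa [← hhh, inv_mul_cancel_left] at this

theorem cent_small {σ g8' : S8} {k : Fin 4} (hk : k ≠ 3) (hσ : g8' * σ * g8'⁻¹ = inv8 k) {g : G}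
    (hg : g * E.ψ σ = E.ψ σ * g) : g ∈ E.G0 := by
  have hs : σ = g8'⁻¹ * inv8 k * g8'⁻¹⁻¹ := by rw [← hσ]; group
  rw [hs] at hg
  refine E.cent_conj (fun w hw => ?_) _ hg
  fin_cases k
  · exact E.cent_u (by rw [← E.u_eq]; exact hw)
  · exact E.cent_t2 hw
  · exact E.cent_v hw
  · exact absurd rfl hk

theorem T_comm_t4 {h : G} (hc : h * F.u * h⁻¹ * E.ψ (inv8 3) = E.ψ (inv8 3) * (h * F.u * h⁻¹)) :
    h * F.u * h⁻¹ ∈ E.G0 := by
  obtain ⟨-, -, -, -, -, -, -, -, -, g2, g1, gx, gf, -, -, sq⟩ := small_facts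
  set x := E.ψ (inv8 3) with hx
  set u' := h * F.u * h⁻¹ with hu'
  set g0 := E.ψ (swap 0 3 * swap 1 4) with hg0
  have hu2 : orderOf u' = 2 := by rw [hu', orderOf_conj_eq, F.u_order]
  have hg02 : orderOf g0 = 2 := E.order_psi g2 g1
  obtain ⟨c, cg, hcg⟩ := classify _ g2 g1
  have hne : ∀ w : G, w * u' * w⁻¹ ≠ g0 := by
    intro w he
    obtain ⟨a, b, hab, e⟩ := E.swap_of_conj (h := w * h) (σ := swap 0 3 * swap 1 4) (by rw [← hg0, ← he, hu']; group)
    obtain ⟨r, hr⟩ := exists_conj_swap hab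
    rw [e, ← hr, fix_conj, fix_reps] at gf
    simp at gf
  obtain ⟨w, hw2, hwu, hwg, k, hk⟩ := exists_central hu2 hg02 hne
  -- the central involution lies in the copy
  have gcase : ∀ t : G, Commute t g0 → t ∈ E.G0 := by
    intro t ht
    have hc1 : c = 1 := by
      have h1 := fix_conj (swap 0 3 * swap 1 4) cg
      rw [hcg, fix_reps, gf] at h1
      omega
    exact E.cent_small (show (1 : Fin 4) ≠ 3 by decide) (hc1 ▸ hcg) ht.eq
  obtain ⟨σ, hσ⟩ := gcase w hwg
  have hσ2 : σ * σ = 1 := E.inj (by rw [map_mul, hσ, ← pow_two, ← hw2, pow_orderOf_eq_one, map_one])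
  have hσ1 : σ ≠ 1 := fun e => by rw [e, map_one] at hσ; rw [← hσ, orderOf_one] at hw2; omega
  obtain ⟨j, q, hq⟩ := classify σ hσ2 hσ1
  by_cases hj : j = 3
  · exfalso
    subst hj
    -- conjugate `u'` to `u`
    set w' := h⁻¹ * w * h with hw'
    have hwu' : w' * F.u = F.u * w' := by
      have := (commute_conj (g := h⁻¹) hwu).eq
      rwa [inv_inv, ← hw', hu', show h⁻¹ * (h * F.u * h⁻¹) * h = F.u by group] at this
    obtain ⟨τ, hτ⟩ := E.cent_u hwu'
    have hτw : E.ψ τ = h⁻¹ * (E.ψ q)⁻¹ * E.ψ (inv8 3) * E.ψ q * h := by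
      rw [hτ, hw', ← hσ, ← hq, map_mul, map_mul, map_inv]; group
    have hτ2 : τ * τ = 1 := E.inj (by
      rw [map_mul, hτ, hw', show h⁻¹ * w * h * (h⁻¹ * w * h) = h⁻¹ * (w * w) * h by group, ← pow_two, ← hw2,
        pow_orderOf_eq_one, map_one]; group)
    have hτ1 : τ ≠ 1 := fun e => by
      rw [e, map_one] at hτ
      have : w = 1 := by rw [show w = h * (h⁻¹ * w * h) * h⁻¹ by group, ← hw', ← hτ]; group
      rw [this, orderOf_one] at hw2; omega
    obtain ⟨l, p, hp⟩ := classify τ hτ2 hτ1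
    set W := E.ψ p * (h⁻¹ * (E.ψ q)⁻¹) with hW
    have hWe : W * E.ψ (inv8 3) * W⁻¹ = E.ψ (inv8 l) := by
      rw [hW, ← hp, map_mul, map_mul, map_inv, hτw]; group
    have hl : l = 3 := by
      by_contra hl
      -- the centraliser of the fixed-point-free class then lies in the copy, so the classes differ
      have hin : ∀ t : G, Commute t (E.ψ (inv8 l)) → t ∈ E.G0 := fun t ht =>
        E.cent_small hl (show (1 : S8) * inv8 l * 1⁻¹ = inv8 l by simp) ht.eq
      let f : Subgroup.centralizer ({inv8 3} : Set S8) → Subgroup.centralizer ({inv8 l} : Set S8) := fun t =>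
        ⟨(hin (W * E.ψ t * W⁻¹) (by
            rw [← hWe]; exact commute_conj (E.commute_iff.mpr (Subgroup.mem_centralizer_singleton_iff.mp t.2)))).choose,
          Subgroup.mem_centralizer_singleton_iff.mpr (E.commute_iff.mp (by
            rw [Exists.choose_spec (hin (W * E.ψ t * W⁻¹) (by
              rw [← hWe]; exact commute_conj (E.commute_iff.mpr (Subgroup.mem_centralizer_singleton_iff.mp t.2))))]
            rw [← hWe]
            exact (commute_conj (E.commute_iff.mpr (Subgroup.mem_centralizer_singleton_iff.mp t.2))).eq))⟩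
      have hf : Function.Injective f := by
        intro s t e
        have e' := congrArg (fun r => E.ψ (Subtype.val r)) e
        simp only [f] at e'
        rw [Exists.choose_spec (hin (W * E.ψ s * W⁻¹) (by
            rw [← hWe]; exact commute_conj (E.commute_iff.mpr (Subgroup.mem_centralizer_singleton_iff.mp s.2)))),
          Exists.choose_spec (hin (W * E.ψ t * W⁻¹) (by
            rw [← hWe]; exact commute_conj (E.commute_iff.mpr (Subgroup.mem_centralizer_singleton_iff.mp t.2))))] at e'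
        exact Subtype.ext (E.inj (mul_left_cancel (mul_right_cancel e')))
      by_cases h0 : l = 0
      · subst h0
        refine E.not_T (show (3 : Fin 4) ≠ 0 by decide) W⁻¹ ?_
        rw [← E.u_eq, ← hWe]; group
      · have hle := Nat.card_le_card_of_injective f hf
        rw [Equiv.Perm.nat_card_centralizer, Equiv.Perm.nat_card_centralizer, inv8_type, inv8_type] at hle
        fin_cases l
        · exact h0 rfl
        · revert hle; decide +kernel
        · revert hle; decide +kernel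
        · exact hl rfl
    subst hl
    have hτc : τ * inv8 0 = inv8 0 * τ := E.commute_iff.mp (by rw [hτ, E.u_eq]; exact hwu')
    have hfτ : fixL (imgs τ) = 0 := by rw [← fix_conj τ p, hp, fix_reps]; rfl
    have hm := x4_mul _ (imgs_mem (hs := [inv8 0]) (σ := τ) (fun g hg => by
      simp only [List.mem_cons, List.not_mem_nil, or_false] at hg
      subst hg; exact hτc.symm)) (by rw [powL_imgs, pow_two, hτ2, imgs_one]) hfτ
    rw [mulL_imgs, powL_imgs, ← imgs_one] at hm
    have hm2 : τ * inv8 0 * (τ * inv8 0) = 1 := by rw [← pow_two]; exact imgs_inj hm.1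
    have hm1 : τ * inv8 0 ≠ 1 := fun e => by
      have := hm.2; rw [e] at this; exact absurd this (by decide +kernel)
    obtain ⟨i, r, hr⟩ := classify _ hm2 hm1
    have hi : i = 2 := by
      have h1 := hm.2
      rw [← fix_conj _ r, hr, fix_reps] at h1
      omega
    subst hi
    -- the product is conjugate to a class other than those of the two generators
    have hprod : u' * w = h * E.ψ (τ * inv8 0) * h⁻¹ := by
      rw [map_mul, hτ, E.u_eq, hwu', hw', hu']; group
    have hconv : ∀ T : G, k * (u' * w) * k⁻¹ = T →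
        E.ψ r * h⁻¹ * k⁻¹ * T * (E.ψ r * h⁻¹ * k⁻¹)⁻¹ = E.ψ (inv8 2) := by
      intro T hT
      rw [← hT, hprod, ← hr, map_mul, map_mul, map_mul, map_mul, map_inv]; group
    rcases hk with hk | hk
    · refine E.not_T (show (2 : Fin 4) ≠ 0 by decide) (E.ψ r * h⁻¹ * k⁻¹ * h) ?_
      rw [← hconv u' hk, hu']; group
    · set V := E.ψ r * h⁻¹ * k⁻¹ with hV
      have hVg : V * g0 * V⁻¹ = E.ψ (inv8 2) := hconv g0 hk
      let f : Subgroup.centralizer ({swap 0 3 * swap 1 4} : Set S8) → Subgroup.centralizer ({inv8 2} : Set S8) := fun t =>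
        ⟨(show ∃ s, E.ψ s = V * E.ψ t * V⁻¹ from E.cent_v (by
            rw [← hVg]
            exact (commute_conj (E.commute_iff.mpr (Subgroup.mem_centralizer_singleton_iff.mp t.2))).eq)).choose,
          Subgroup.mem_centralizer_singleton_iff.mpr (E.commute_iff.mp (by
            rw [(show ∃ s, E.ψ s = V * E.ψ t * V⁻¹ from E.cent_v (by
              rw [← hVg]
              exact (commute_conj (E.commute_iff.mpr (Subgroup.mem_centralizer_singleton_iff.mp t.2))).eq)).choose_spec,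
              ← hVg]
            exact (commute_conj (E.commute_iff.mpr (Subgroup.mem_centralizer_singleton_iff.mp t.2))).eq))⟩
      have hf : Function.Injective f := by
        intro s t e
        have e' := congrArg (fun r => E.ψ (Subtype.val r)) e
        simp only [f] at e'
        rw [Exists.choose_spec (show ∃ s', E.ψ s' = V * E.ψ s * V⁻¹ from E.cent_v (by
              rw [← hVg]
              exact (commute_conj (E.commute_iff.mpr (Subgroup.mem_centralizer_singleton_iff.mp s.2))).eq)),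
          Exists.choose_spec (show ∃ s', E.ψ s' = V * E.ψ t * V⁻¹ from E.cent_v (by
              rw [← hVg]
              exact (commute_conj (E.commute_iff.mpr (Subgroup.mem_centralizer_singleton_iff.mp t.2))).eq))] at e'
        exact Subtype.ext (E.inj (mul_left_cancel (mul_right_cancel e')))
      have hle := Nat.card_le_card_of_injective f hf
      have ht : (swap 0 3 * swap 1 4 : S8).cycleType = Multiset.replicate 2 2 := by decide +kernel
      rw [Equiv.Perm.nat_card_centralizer, Equiv.Perm.nat_card_centralizer, ht, inv8_type] at hle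
      revert hle; decide +kernel
  · exact E.cent_small hj hq (show u' * E.ψ σ = E.ψ σ * u' from hσ ▸ hwu.symm.eq)

theorem cent_t4 {g : G} (hg : g * E.ψ (inv8 3) = E.ψ (inv8 3) * g) : g ∈ E.G0 := by
  have hux : F.u * E.ψ (inv8 3) = E.ψ (inv8 3) * F.u := by
    rw [← E.u_eq, E.commute_iff]; decide +kernel
  have hc : g * F.u * g⁻¹ * E.ψ (inv8 3) = E.ψ (inv8 3) * (g * F.u * g⁻¹) := by
    have := (commute_conj (g := g) (show Commute F.u _ from hux)).eq
    rwa [hg, mul_inv_cancel_right] at this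
  obtain ⟨σ, hσ⟩ := E.T_comm_t4 hc
  obtain ⟨a, b, hab, rfl⟩ := E.swap_of_conj hσ.symm
  obtain ⟨s, -, hsx, hs⟩ := x4_pairs a b hab (E.commute_iff.mp (by rw [hσ]; exact hc))
  rw [← hs, map_mul, map_mul, map_inv, E.u_eq] at hσ
  have h1 : ((E.ψ s)⁻¹ * g) * F.u = F.u * ((E.ψ s)⁻¹ * g) := by
    calc ((E.ψ s)⁻¹ * g) * F.u = (E.ψ s)⁻¹ * (g * F.u * g⁻¹) * g := by group
      _ = _ := by rw [← hσ]; group
  have := mul_mem (E.psi_mem s) (E.cent_u h1)
  rwa [mul_inv_cancel_left] at this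

theorem cent_invol {σ : S8} (h2 : σ * σ = 1) (h1 : σ ≠ 1) {g : G} (hg : g * E.ψ σ = E.ψ σ * g) : g ∈ E.G0 := by
  obtain ⟨k, q, hq⟩ := classify σ h2 h1
  by_cases hk : k = 3
  · subst hk
    rw [show σ = q⁻¹ * inv8 3 * q⁻¹⁻¹ by rw [← hq]; group] at hg
    exact E.cent_conj (fun w hw => E.cent_t4 hw) _ hg
  · exact E.cent_small hk hq hg

theorem top : E.G0 = ⊤ := by
  obtain ⟨-, -, -, -, -, -, -, -, -, -, -, -, -, -, -, sq⟩ := small_facts
  rw [eq_top_iff]
  intro g _
  have hne : ∀ w : G, w * (g * F.u * g⁻¹) * w⁻¹ ≠ E.ψ (inv8 2) := fun w he =>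
    E.not_T (show (2 : Fin 4) ≠ 0 by decide) (w * g) (by rw [← he]; group)
  obtain ⟨w, hw2, hwu, hwv, -⟩ := exists_central (by rw [orderOf_conj_eq, F.u_order])
    (E.order_psi (sq 2).1 (sq 2).2) hne
  obtain ⟨σ, hσ⟩ := E.cent_v hwv.eq
  have hσ2 : σ * σ = 1 := E.inj (by rw [map_mul, hσ, ← pow_two, ← hw2, pow_orderOf_eq_one, map_one])
  have hσ1 : σ ≠ 1 := fun e => by rw [e, map_one] at hσ; rw [← hσ, orderOf_one] at hw2; omega
  obtain ⟨τ, hτ⟩ := E.cent_invol hσ2 hσ1 (show g * F.u * g⁻¹ * E.ψ σ = E.ψ σ * (g * F.u * g⁻¹) from hσ ▸ hwu.symm.eq)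
  obtain ⟨a, b, hab, rfl⟩ := E.swap_of_conj hτ.symm
  obtain ⟨s, hs⟩ := exists_conj_swap hab
  rw [← hs, map_mul, map_mul, map_inv, E.u_eq] at hτ
  have h1 : ((E.ψ s)⁻¹ * g) * F.u = F.u * ((E.ψ s)⁻¹ * g) := by
    calc ((E.ψ s)⁻¹ * g) * F.u = (E.ψ s)⁻¹ * (g * F.u * g⁻¹) * g := by group
      _ = _ := by rw [← hτ]; group
  have := mul_mem (E.psi_mem s) (E.cent_u h1)
  rwa [mul_inv_cancel_left] at this

theorem iso (E : Copy F) : Nonempty (G ≃* S8) :=
  ⟨(MulEquiv.ofBijective E.ψ ⟨E.inj, MonoidHom.range_eq_top.mp E.top⟩).symm⟩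

end Copy

end Cfsg.Agent.Invol.S8Three
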