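import Cfsg.Agent.Lib.Invol.S8Three.SmallK
import Cfsg.Agent.Lib.Invol.S8Three.Cands
import Cfsg.Agent.Lib.Fus.SymPath

/-! A copy of Sym(8). -/

set_option autoImplicit false
set_option maxRecDepth 50000
set_option synthInstance.maxSize 1000
set_option linter.unusedSectionVars false
set_option linter.style.haveILetI false

namespace Cfsg.Agent.Invol.S8Three

universe u

open Equiv

/-- The embedding of the two factors. -/
def iota : P35 →* S8 :=
  ((finSumFinEquiv : Fin 3 ⊕ Fin 5 ≃ Fin 8).permCongrHom.toMonoidHom).comp (Equiv.Perm.sumCongrHom (Fin 3) (Fin 5))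

/-- exchanges the two triangles -/
def n8 : S8 := swap 0 3 * swap 1 4 * swap 2 5
/-- from the positions in the path to the points -/
def rho8 : S8 := swap 3 7 * swap 4 6

theorem iota_vals : iota (a3, 1) = swap 0 1 ∧ iota (b3, 1) = swap 1 2 ∧ iota (1, swap 0 1) = swap 3 4 ∧
    iota (1, swap 1 2) = swap 4 5 ∧ iota (1, swap 2 3) = swap 5 6 ∧ iota (1, t5) = swap 6 7 ∧
    iota (c3, 1) = swap 0 1 * swap 1 2 ∧ iota (1, d5) = swap 3 4 * swap 4 5 ∧
    n8 * iota (c3, 1) * n8 = iota (1, d5) ∧ n8 * n8 = 1 ∧ rho8 * rho8 = 1 := by decide +kernel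

theorem b3_eq : b3 = a3 * c3 ∧ (swap 1 2 : P5) = e5 * d5 ∧ c3 = a3 * b3 := by decide +kernel

theorem triple_four : ∀ w : P5, w 3 = 3 → w * w = 1 → w * (d5 * w * d5⁻¹) * (d5⁻¹ * w * d5) = 1 → w ∈ fours 1 := by
  decide +kernel

theorem up_list : ∀ x ∈ ([1, d5, d5⁻¹, e5, e5 * d5, e5 * d5⁻¹] : List P5), ∀ v ∈ fours 1, (v * x) 3 = 3 := by
  decide +kernel

theorem swap24 : ∃ v ∈ fours 1, ∃ x ∈ ([1, d5, d5⁻¹, e5, e5 * d5, e5 * d5⁻¹] : List P5), (swap 2 4 : P5) = v * x := by
  decide +kernel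

theorem s23_fours : ∀ v ∈ fours 0, (swap 2 3 : P5) * v * swap 2 3 ∈ fours 0 := by decide +kernel

theorem P35_braids :
    (∀ i ∈ ([(a3, 1), (b3, 1), (1, t5), (1, swap 2 3), (1, swap 1 2), (1, swap 0 1)] : List P35), i * i = 1) ∧
    ((a3, 1) : P35) * (b3, 1) * (a3, 1) = (b3, 1) * (a3, 1) * (b3, 1) ∧
    ((1, t5) : P35) * (1, swap 2 3) * (1, t5) = (1, swap 2 3) * (1, t5) * (1, swap 2 3) ∧
    ((1, swap 2 3) : P35) * (1, swap 1 2) * (1, swap 2 3) = (1, swap 1 2) * (1, swap 2 3) * (1, swap 1 2) ∧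
    ((1, swap 1 2) : P35) * (1, swap 0 1) * (1, swap 1 2) = (1, swap 0 1) * (1, swap 1 2) * (1, swap 0 1) ∧
    ((1, t5) : P35) * (1, swap 1 2) = (1, swap 1 2) * (1, t5) ∧
    ((1, t5) : P35) * (1, swap 0 1) = (1, swap 0 1) * (1, t5) ∧
    ((1, swap 2 3) : P35) * (1, swap 0 1) = (1, swap 0 1) * (1, swap 2 3) := by decide +kernel

theorem P5_braids :
    ((1, swap 2 4) : P35) * (1, swap 2 4) = 1 ∧
    ((1, swap 1 2) : P35) * (1, swap 2 4) * (1, swap 1 2) = (1, swap 2 4) * (1, swap 1 2) * (1, swap 2 4) ∧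
    ((1, swap 2 4) : P35) * (1, t5) * (1, swap 2 4) = (1, t5) * (1, swap 2 4) * (1, t5) ∧
    ((1, e5) : P35) * (1, swap 2 4) = (1, swap 2 4) * (1, e5) := by decide +kernel

theorem rho_adj : Fus.SymPath.adj 7 0 = rho8 * swap 0 1 * rho8 ∧ Fus.SymPath.adj 7 1 = rho8 * swap 1 2 * rho8 ∧
    Fus.SymPath.adj 7 2 = rho8 * swap 2 7 * rho8 ∧ Fus.SymPath.adj 7 3 = rho8 * swap 6 7 * rho8 ∧
    Fus.SymPath.adj 7 4 = rho8 * swap 5 6 * rho8 ∧ Fus.SymPath.adj 7 5 = rho8 * swap 4 5 * rho8 ∧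
    Fus.SymPath.adj 7 6 = rho8 * swap 3 4 * rho8 := by decide +kernel

variable {G : Type u} [Group G] [Finite G] (F : Frame G)

/-- Changing the exchanging involution by `u`. -/
def Frame.flip : Frame G where
  f := F.f
  inj := F.inj
  centz := F.centz
  invz := F.invz
  n := F.n * F.f (1, t5)
  n_sq := by
    have h := F.n_u
    rw [← mul_assoc, h, ← map_mul, show ((1, t5) : P35) * (1, t5) = 1 by decide, map_one]
  n_z := by
    have e : F.f (1, t5) * F.f (c3, 1) = F.f (c3, 1) * F.f (1, t5) := by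
      rw [← map_mul, ← map_mul]; exact congrArg F.f (by decide)
    calc F.n * F.f (1, t5) * F.f (c3, 1) * (F.n * F.f (1, t5))
        = F.n * (F.f (1, t5) * F.f (c3, 1)) * F.n * F.f (1, t5) := by group
      _ = (F.n * F.f (c3, 1) * F.n) * (F.n * F.n)⁻¹ * (F.n * F.f (1, t5) * F.n) * F.f (1, t5) := by rw [e]; group
      _ = F.f (1, d5) := by
        rw [F.n_z, F.n_sq, F.n_u, inv_one, mul_one, mul_assoc, ← map_mul, show ((1, t5) : P35) * (1, t5) = 1 by decide,
          map_one, mul_one]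
  n_u := by
    calc F.n * F.f (1, t5) * F.f (1, t5) * (F.n * F.f (1, t5))
        = F.n * (F.f (1, t5) * F.f (1, t5)) * F.n * F.f (1, t5) := by group
      _ = F.f (1, t5) := by
        rw [← map_mul, show ((1, t5) : P35) * (1, t5) = 1 by decide, map_one, mul_one, F.n_sq, one_mul]
  centy := by
    intro g hg
    rcases F.centy g hg with h | h
    · exact Or.inl h
    · right
      rw [← mul_assoc]
      exact mul_mem h ⟨_, rfl⟩
  sylow := F.sylow
  twist := by
    have key : ∀ x : P5, x * t5 = t5 * x → F.n * F.f (a3, 1) * F.n = F.f (1, x) →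
        F.n * F.f (1, t5) * F.f (a3, 1) * (F.n * F.f (1, t5)) = F.f (1, x) := by
      intro x hx h
      have e : F.f (1, t5) * F.f (a3, 1) = F.f (a3, 1) * F.f (1, t5) := by
        rw [← map_mul, ← map_mul]; exact congrArg F.f (by decide)
      calc F.n * F.f (1, t5) * F.f (a3, 1) * (F.n * F.f (1, t5))
          = F.n * (F.f (1, t5) * F.f (a3, 1)) * F.n * F.f (1, t5) := by group
        _ = (F.n * F.f (a3, 1) * F.n) * (F.n * F.n)⁻¹ * (F.n * F.f (1, t5) * F.n) * F.f (1, t5) := by rw [e]; group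
        _ = F.f (1, x) := by
          rw [h, F.n_sq, F.n_u, inv_one, mul_one, mul_assoc, ← map_mul, show ((1, t5) : P35) * (1, t5) = 1 by decide,
            map_one, mul_one]
    rcases F.twist with h | h
    · exact Or.inl (key _ (by decide) h)
    · exact Or.inr (key _ (by decide) h)

/-- The shape with the four-group on the expected points. -/
def KW1 : Prop := F.n * F.a * F.n = F.f (1, e5) ∧ (∀ q ∈ fours 1, F.f' (1, q) ∈ F.K) ∧
  ∀ g ∈ F.K, ∃ v ∈ fours 0, ∃ q ∈ fours 1, ∃ t : P3, g = F.f (1, v) * F.f' (1, q) * F.f (t, 1)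

theorem flip_f' (x : P5) : F.flip.f' (1, x) = F.f' (1, t5 * x * t5) := by
  rw [F.flip.f'_apply, F.f'_apply]
  show F.n * F.f (1, t5) * F.f (1, x) * (F.n * F.f (1, t5)) = _
  have h : F.n * F.f (1, t5) = F.f (1, t5) * F.n := by
    calc F.n * F.f (1, t5) = F.n * F.f (1, t5) * (F.n * F.n) := by rw [F.n_sq, mul_one]
      _ = (F.n * F.f (1, t5) * F.n) * F.n := by group
      _ = _ := by rw [F.n_u]
  calc F.n * F.f (1, t5) * F.f (1, x) * (F.n * F.f (1, t5))
      = F.n * F.f (1, t5) * F.f (1, x) * (F.f (1, t5) * F.n) := by rw [← h]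
    _ = F.n * (F.f (1, t5) * F.f (1, x) * F.f (1, t5)) * F.n := by group
    _ = _ := by rw [← map_mul, ← map_mul]; exact congrArg (fun w => F.n * F.f w * F.n) (Prod.ext (by simp) rfl)

theorem exists_KW1 (h : KW F) : ∃ F' : Frame G, F'.f = F.f ∧ KW1 F' := by
  obtain ⟨htw, i, h1, h2⟩ := h
  by_cases hi : i = 1
  · subst hi; exact ⟨F, rfl, htw, h1, h2⟩
  obtain rfl : i = 0 := by omega
  refine ⟨F.flip, rfl, ?_, fun q hq => ?_, fun g hg => ?_⟩
  · rcases F.flip.twist with h | h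
    · exact h
    · exfalso
      have e : F.flip.n * F.f (a3, 1) * F.flip.n = F.f (1, e5) := by
        show F.n * F.f (1, t5) * F.f (a3, 1) * (F.n * F.f (1, t5)) = _
        calc F.n * F.f (1, t5) * F.f (a3, 1) * (F.n * F.f (1, t5))
            = F.n * (F.f (1, t5) * F.f (a3, 1)) * F.n * F.f (1, t5) := by group
          _ = (F.n * F.f (a3, 1) * F.n) * (F.n * F.n)⁻¹ * (F.n * F.f (1, t5) * F.n) * F.f (1, t5) := by
              rw [show F.f (1, t5) * F.f (a3, 1) = F.f (a3, 1) * F.f (1, t5) by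
                rw [← map_mul, ← map_mul]; exact congrArg F.f (by decide)]
              group
          _ = F.f (1, e5) := by
              rw [show F.n * F.f (a3, 1) * F.n = F.f (1, e5) from htw, F.n_sq, F.n_u, inv_one, mul_one, mul_assoc,
                ← map_mul, show ((1, t5) : P35) * (1, t5) = 1 by decide, map_one, mul_one]
      exact absurd (F.inj (e.symm.trans h)) (by decide)
  · rw [flip_f']; exact h1 _ ((fours_facts 1 q hq).2.2.2.2.2.1)
  · obtain ⟨v, hv, q, hq, t, rfl⟩ := h2 g hg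
    refine ⟨v, hv, t5 * q * t5, (fours_facts 0 q hq).2.2.2.2.2.1, t, ?_⟩
    rw [flip_f', show t5 * (t5 * q * t5) * t5 = q by
      rw [show t5 * (t5 * q * t5) * t5 = (t5 * t5) * q * (t5 * t5) by group, show t5 * t5 = 1 by decide, one_mul, mul_one]]
    rfl

theorem up_of_untw (h : F.n * F.a * F.n = F.f (1, e5)) (t : P3) :
    ∃ x ∈ ([1, d5, d5⁻¹, e5, e5 * d5, e5 * d5⁻¹] : List P5), F.f (t, 1) = F.f' (1, x) := by
  have ha : F.f (a3, 1) = F.f' (1, e5) := by rw [F.f'_apply, ← h, F.nn]; rfl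
  have hc : F.f (c3, 1) = F.f' (1, d5) := F.f'_d.symm
  have hci : F.f (c3⁻¹, 1) = F.f' (1, d5⁻¹) := by
    rw [show ((c3⁻¹, 1) : P35) = (c3, 1)⁻¹ from Prod.ext rfl (by simp), map_inv, hc, ← map_inv]
    exact congrArg F.f' (Prod.ext (by simp) rfl)
  have hm : ∀ (s t : P3) (x y : P5), F.f (s, 1) = F.f' (1, x) → F.f (t, 1) = F.f' (1, y) →
      F.f (s * t, 1) = F.f' (1, x * y) := by
    intro s t x y h1 h2
    rw [show ((s * t, 1) : P35) = (s, 1) * (t, 1) from Prod.ext rfl (by simp), map_mul, h1, h2, ← map_mul]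
    exact congrArg F.f' (Prod.ext (by simp) rfl)
  rcases p3_rot t with rfl | rfl | rfl | rfl | rfl | rfl
  · exact ⟨1, by simp, by rw [show ((1 : P3), (1 : P5)) = (1 : P35) from rfl, map_one, map_one]⟩
  · exact ⟨d5, by simp, hc⟩
  · exact ⟨d5⁻¹, by simp, hci⟩
  · exact ⟨e5, by simp, ha⟩
  · exact ⟨e5 * d5, by simp, hm _ _ _ _ ha hc⟩
  · exact ⟨e5 * d5⁻¹, by simp, hm _ _ _ _ ha hci⟩

/-- The missing relation. -/
theorem cross_comm (h : KW1 F) : Commute (F.f (1, swap 2 3)) (F.f' (1, swap 2 4)) := by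
  obtain ⟨htw, h1, h2⟩ := h
  set s := F.f (1, (swap 2 3 : P5)) with hs
  have hss : s * s = 1 := by rw [hs, ← map_mul]; exact (map_one F.f) ▸ congrArg F.f (by decide)
  have hsi : s⁻¹ = s := inv_eq_of_mul_eq_one_right hss
  have hsP : ∀ t : P3, Commute s (F.f (t, 1)) := fun t => by
    show s * _ = _ * s
    rw [hs, ← map_mul, ← map_mul]; exact congrArg F.f (Prod.ext (by simp) (by simp))
  have hV : ∀ q ∈ fours 1, Commute s (F.f' (1, q)) := by
    intro q hq
    by_cases hq1 : q = 1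
    · subst hq1; rw [show ((1 : P3), (1 : P5)) = (1 : P35) from rfl, map_one]; exact Commute.one_right s
    have hgK : s * F.f' (1, q) * s⁻¹ ∈ F.K := by
      rw [F.mem_K]
      intro v hv
      have := commute_conj (g := s) (show Commute (F.f' (1, q)) (F.f (1, swap 2 3 * v * swap 2 3)) from
        F.mem_K.mp (h1 q hq) _ (s23_fours v hv))
      rwa [show s * F.f (1, swap 2 3 * v * swap 2 3) * s⁻¹ = F.f (1, v) by
        rw [hsi, hs, ← map_mul, ← map_mul]; refine congrArg F.f (Prod.ext (by simp) ?_)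
        show swap 2 3 * (swap 2 3 * v * swap 2 3) * swap 2 3 = v
        rw [show (swap 2 3 : P5) * (swap 2 3 * v * swap 2 3) * swap 2 3 = (swap 2 3 * swap 2 3) * v * (swap 2 3 * swap 2 3)
          by group, Equiv.swap_mul_self, one_mul, mul_one]] at this
    obtain ⟨v, hv, q', hq', t, e⟩ := h2 _ hgK
    obtain ⟨x, hx, ex⟩ := up_of_untw F htw t
    rw [ex, mul_assoc (F.f (1, v)), ← map_mul, show ((1, q') : P35) * (1, x) = (1, q' * x) from Prod.ext (by simp) rfl] at e
    set w := q' * x with hw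
    have hw3 : w 3 = 3 := up_list x hx q' hq'
    have hvw : Commute (F.f (1, v)) (F.f' (1, w)) := by
      rw [hw, show ((1, q' * x) : P35) = (1, q') * (1, x) from Prod.ext (by simp) rfl, map_mul, ← ex]
      refine (show Commute _ _ from (F.mem_K.mp (h1 q' hq') v hv).symm).mul_right ?_
      show _ * _ = _ * _
      rw [← map_mul, ← map_mul]; exact congrArg F.f (Prod.ext (by simp) (by simp))
    have hdv : ∀ y : G, Commute y (F.f (c3, 1)) → y = F.f (1, v) → Commute y F.z := fun y h _ => h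
    have hzv : Commute (F.f (1, v)) F.z := by
      show _ * _ = _ * _
      rw [Frame.z, ← map_mul, ← map_mul]; exact congrArg F.f (Prod.ext (by simp) (by simp))
    have inter : ∀ y : P5, F.f (1, v) = F.f' (1, y) → v = 1 ∧ y = 1 := by
      intro y he
      have hz : F.f (1, v) * F.z' = F.z' * F.f (1, v) := by
        rw [he, ← F.f'_c, ← map_mul, ← map_mul]; exact congrArg F.f' (Prod.ext (by simp) (by simp))
      have hv1 : v = 1 := fours_three v hv
        (congrArg Prod.snd (F.inj (show F.f ((1, v) * (1, d5)) = F.f ((1, d5) * (1, v)) by rw [map_mul, map_mul]; exact hz)))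
      subst hv1
      rw [show ((1 : P3), (1 : P5)) = (1 : P35) from rfl, map_one] at he
      exact ⟨rfl, congrArg Prod.snd (F.inj' (he.symm.trans F.f'.map_one.symm))⟩
    have hv2 : F.f (1, v) * F.f (1, v) = 1 := by
      rw [← map_mul]; exact (map_one F.f) ▸ congrArg F.f (Prod.ext (by simp) (fours_facts 0 v hv).1)
    have htrip : F.f' (1, w * (d5 * w * d5⁻¹) * (d5⁻¹ * w * d5)) = F.f (1, v) := by
      have hq3 : F.f' (1, q) * (F.z * F.f' (1, q) * F.z⁻¹) * (F.z⁻¹ * F.f' (1, q) * F.z) = 1 := by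
        rw [← F.f'_d, ← map_inv, ← map_mul, ← map_mul, ← map_mul, ← map_mul, ← map_mul, ← map_mul, ← map_one F.f']
        exact congrArg F.f' (Prod.ext (by simp) (by simpa using (fours_facts 1 q hq).2.2.2.2.2.2.2))
      have hsz : Commute s F.z := hsP c3
      have h3 : (s * F.f' (1, q) * s⁻¹) * (F.z * (s * F.f' (1, q) * s⁻¹) * F.z⁻¹) *
          (F.z⁻¹ * (s * F.f' (1, q) * s⁻¹) * F.z) = 1 := by
        have e1 : s⁻¹ * F.z * s = F.z := by rw [mul_assoc, ← hsz.eq, inv_mul_cancel_left]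
        calc _ = s * (F.f' (1, q) * ((s⁻¹ * F.z * s) * F.f' (1, q) * (s⁻¹ * F.z * s)⁻¹) *
              ((s⁻¹ * F.z * s)⁻¹ * F.f' (1, q) * (s⁻¹ * F.z * s))) * s⁻¹ := by group
          _ = _ := by rw [e1, hq3, mul_one, mul_inv_cancel]
      have c1 : F.z * (F.f (1, v) * F.f' (1, w)) * F.z⁻¹ = F.f (1, v) * F.f' (1, d5 * w * d5⁻¹) := by
        calc F.z * (F.f (1, v) * F.f' (1, w)) * F.z⁻¹ = (F.z * F.f (1, v)) * F.f' (1, w) * F.z⁻¹ := by group
          _ = F.f (1, v) * (F.z * F.f' (1, w) * F.z⁻¹) := by rw [← hzv.eq]; group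
          _ = _ := by
            rw [← F.f'_d, ← map_inv, ← map_mul, ← map_mul]; exact congrArg (_ * ·) (congrArg F.f' (Prod.ext (by simp) rfl))
      have c2 : F.z⁻¹ * (F.f (1, v) * F.f' (1, w)) * F.z = F.f (1, v) * F.f' (1, d5⁻¹ * w * d5) := by
        calc F.z⁻¹ * (F.f (1, v) * F.f' (1, w)) * F.z = (F.z⁻¹ * F.f (1, v)) * F.f' (1, w) * F.z := by group
          _ = F.f (1, v) * (F.z⁻¹ * F.f' (1, w) * F.z) := by rw [← hzv.inv_right.eq]; group
          _ = _ := by
            rw [← F.f'_d, ← map_inv, ← map_mul, ← map_mul]; exact congrArg (_ * ·) (congrArg F.f' (Prod.ext (by simp) rfl))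
      rw [e, c1, c2, hvw.symm.mul_mul_mul_comm, hv2, one_mul, ← mul_assoc] at h3
      have hdw : Commute (F.f (1, v)) (F.f' (1, d5 * w * d5⁻¹)) := by
        have := commute_conj (g := F.z) hvw
        rwa [show F.z * F.f (1, v) * F.z⁻¹ = F.f (1, v) by rw [← hzv.eq, mul_inv_cancel_right],
          show F.z * F.f' (1, w) * F.z⁻¹ = F.f' (1, d5 * w * d5⁻¹) by
            rw [← F.f'_d, ← map_inv, ← map_mul, ← map_mul]; exact congrArg F.f' (Prod.ext (by simp) rfl)] at this
      rw [← (hvw.mul_right hdw).eq, mul_assoc, ← map_mul, ← map_mul] at h3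
      rw [show (1, w * (d5 * w * d5⁻¹) * (d5⁻¹ * w * d5)) =
        ((1, w) : P35) * (1, d5 * w * d5⁻¹) * (1, d5⁻¹ * w * d5) from Prod.ext (by simp) rfl]
      exact (eq_inv_of_mul_eq_one_right h3).trans (inv_eq_of_mul_eq_one_right hv2)
    obtain ⟨hv1, hwt⟩ := inter _ htrip.symm
    subst hv1
    rw [show ((1 : P3), (1 : P5)) = (1 : P35) from rfl, map_one, one_mul] at e
    have hw2 : w * w = 1 := by
      have hh : s * F.f' (1, q) * s⁻¹ * (s * F.f' (1, q) * s⁻¹) = 1 := by
        rw [show s * F.f' (1, q) * s⁻¹ * (s * F.f' (1, q) * s⁻¹) = s * (F.f' (1, q) * F.f' (1, q)) * s⁻¹ by group,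
          ← map_mul, show ((1, q) : P35) * (1, q) = 1 from Prod.ext (by simp) (fours_facts 1 q hq).1, map_one, mul_one,
          mul_inv_cancel]
      rw [e, ← map_mul, ← map_one F.f'] at hh
      exact congrArg Prod.snd (F.inj' hh)
    have hw4 := triple_four w hw3 hw2 hwt
    have hz : Commute s F.z := hsP c3
    have back : s * F.f' (1, w) * s⁻¹ = F.f' (1, q) := by
      rw [← e, hsi, show s * (s * F.f' (1, q) * s) * s = (s * s) * F.f' (1, q) * (s * s) by group, hss, one_mul, mul_one]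
    have moved : ∀ k : P5, k = d5 ∨ k = d5⁻¹ → w = k * q * k⁻¹ → False := by
      intro k hk hwq
      have hkz : Commute s (F.f' (1, k)) := by
        rcases hk with rfl | rfl
        · rw [F.f'_d]; exact hz
        · rw [show ((1, d5⁻¹) : P35) = (1, d5)⁻¹ from Prod.ext (by simp) rfl, map_inv, F.f'_d]; exact hz.inv_right
      have e1 : F.f' (1, w) = F.f' (1, k) * F.f' (1, q) * (F.f' (1, k))⁻¹ := by
        rw [← map_inv, ← map_mul, ← map_mul]; exact congrArg F.f' (Prod.ext (by simp) (by simpa using hwq))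
      have e2 : s * F.f' (1, k) * s⁻¹ = F.f' (1, k) := by rw [hkz.eq, mul_inv_cancel_right]
      have e3 : F.f' (1, q) = F.f' (1, k) * F.f' (1, w) * (F.f' (1, k))⁻¹ := by
        calc F.f' (1, q) = s * F.f' (1, w) * s⁻¹ := back.symm
          _ = (s * F.f' (1, k) * s⁻¹) * (s * F.f' (1, q) * s⁻¹) * (s * F.f' (1, k) * s⁻¹)⁻¹ := by rw [e1]; group
          _ = _ := by rw [e2, e]
      rw [← map_inv, ← map_mul, ← map_mul] at e3
      have e4 : q = k * w * k⁻¹ := by simpa using congrArg Prod.snd (F.inj' e3)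
      rw [hwq] at e4
      have key : ∀ k ∈ ([d5, d5⁻¹] : List P5), ∀ q ∈ fours 1, q = k * (k * q * k⁻¹) * k⁻¹ → q = 1 := by decide +kernel
      exact hq1 (key k (by simpa using hk) q hq e4)
    rcases fours_full 1 q hq hq1 w hw4 with r | r | r | r
    · exfalso
      rw [r, show ((1 : P3), (1 : P5)) = (1 : P35) from rfl, map_one] at e
      exact hq1 (congrArg Prod.snd (F.inj' ((conj_one e).trans F.f'.map_one.symm)))
    · rw [r] at e; exact mul_inv_eq_iff_eq_mul.1 e
    · exact (moved d5 (Or.inl rfl) r).elim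
    · exact (moved d5⁻¹ (Or.inr rfl) (by rw [r]; group)).elim
  obtain ⟨v, hv, x, hx, e⟩ := swap24
  obtain ⟨t, ht⟩ : ∃ t : P3, F.f (t, 1) = F.f' (1, x) := by
    have hall : ∀ t : P3, ∀ y, F.f (t, 1) = F.f' (1, y) → y = x → ∃ t : P3, F.f (t, 1) = F.f' (1, x) :=
      fun t y h e => ⟨t, e ▸ h⟩
    have ha : F.f (a3, 1) = F.f' (1, e5) := by rw [F.f'_apply, ← htw, F.nn]; rfl
    have hc : F.f (c3, 1) = F.f' (1, d5) := F.f'_d.symm
    simp only [List.mem_cons, List.not_mem_nil, or_false] at hx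
    rcases hx with rfl | rfl | rfl | rfl | rfl | rfl
    · exact ⟨1, by rw [show ((1 : P3), (1 : P5)) = (1 : P35) from rfl, map_one, map_one]⟩
    · exact ⟨c3, hc⟩
    · exact ⟨c3⁻¹, by
        rw [show ((c3⁻¹, 1) : P35) = (c3, 1)⁻¹ from Prod.ext rfl (by simp), map_inv, hc, ← map_inv]
        exact congrArg F.f' (Prod.ext (by simp) rfl)⟩
    · exact ⟨a3, ha⟩
    · exact ⟨a3 * c3, by
        rw [show ((a3 * c3, 1) : P35) = (a3, 1) * (c3, 1) from Prod.ext rfl (by simp), map_mul, ha, hc, ← map_mul]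
        exact congrArg F.f' (Prod.ext (by simp) rfl)⟩
    · exact ⟨a3 * c3⁻¹, by
        rw [show ((a3 * c3⁻¹, 1) : P35) = (a3, 1) * (c3, 1)⁻¹ from Prod.ext rfl (by simp), map_mul, map_inv, ha, hc,
          ← map_inv, ← map_mul]
        exact congrArg F.f' (Prod.ext (by simp) rfl)⟩
  rw [e, show ((1, v * x) : P35) = (1, v) * (1, x) from Prod.ext (by simp) rfl, map_mul, ← ht]
  exact (hV v hv).mul_right (hsP t)

/-- A copy of Sym(8). -/
theorem exists_psi (h : KW1 F) : ∃ ψ : S8 →* G, Function.Injective ψ ∧ (∀ p, ψ (iota p) = F.f p) ∧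
    F.n ∈ ψ.range := by
  obtain ⟨bsq, b01, b34, b45, b56, c35, c36, c46⟩ := P35_braids
  obtain ⟨q2, q12, q23, q02⟩ := P5_braids
  obtain ⟨hb3, h12, hc3⟩ := b3_eq
  have htw := h.1
  have ha : F.f (a3, 1) = F.f' (1, e5) := by rw [F.f'_apply, ← htw, F.nn]; rfl
  have hb : F.f (b3, 1) = F.f' (1, swap 1 2) := by
    rw [hb3, show ((a3 * c3, 1) : P35) = (a3, 1) * (c3, 1) from Prod.ext rfl (by simp), map_mul, ha,
      show F.f (c3, 1) = F.f' (1, d5) from F.f'_d.symm, ← map_mul, h12]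
    exact congrArg F.f' (Prod.ext (by simp) rfl)
  have hu : F.f (1, t5) = F.f' (1, t5) := F.f'_t.symm
  have ha' : F.f (1, swap 0 1) = F.f' (a3, 1) := by rw [F.f'_apply]; exact htw.symm
  have hb' : F.f (1, swap 1 2) = F.f' (b3, 1) := by rw [F.f'_apply, hb, F.n_f']
  have hf' : ∀ t : P3, Commute (F.f' (1, swap 2 4)) (F.f' (t, 1)) := fun t => by
    show _ * _ = _ * _
    rw [← map_mul, ← map_mul]; exact congrArg F.f' (Prod.ext (by simp) (by simp))
  have hf : ∀ (t : P3) (x : P5), Commute (F.f (t, 1)) (F.f (1, x)) := fun t x => by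
    show _ * _ = _ * _
    rw [← map_mul, ← map_mul]; exact congrArg F.f (Prod.ext (by simp) (by simp))
  have r1 : ∀ i ∈ ([(a3, 1), (b3, 1), (1, t5), (1, swap 2 3), (1, swap 1 2), (1, swap 0 1)] : List P35),
      F.f i * F.f i = 1 := fun i hi => by rw [← map_mul, bsq i hi, map_one]
  let s : ℕ → G := fun i => [F.f (a3, 1), F.f (b3, 1), F.f' (1, swap 2 4), F.f (1, t5), F.f (1, swap 2 3),
    F.f (1, swap 1 2), F.f (1, swap 0 1)].getD i 1
  have hp : Fus.SymPath.Path 7 s := by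
    refine ⟨?_, ?_, ?_⟩
    · intro i hi
      interval_cases i
      · exact r1 _ (by simp)
      · exact r1 _ (by simp)
      · show F.f' (1, swap 2 4) * F.f' (1, swap 2 4) = 1
        rw [← map_mul, q2, map_one]
      · exact r1 _ (by simp)
      · exact r1 _ (by simp)
      · exact r1 _ (by simp)
      · exact r1 _ (by simp)
    · intro i j hij hj
      have hi : i ≤ 4 := by omega
      interval_cases i <;> interval_cases j
      · show F.f (a3, 1) * F.f' (1, swap 2 4) = F.f' (1, swap 2 4) * F.f (a3, 1)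
        rw [ha, ← map_mul, q02, map_mul]
      · exact (hf _ _).eq
      · exact (hf _ _).eq
      · exact (hf _ _).eq
      · exact (hf _ _).eq
      · exact (hf _ _).eq
      · exact (hf _ _).eq
      · exact (hf _ _).eq
      · exact (hf _ _).eq
      · exact (cross_comm F h).symm.eq
      · show F.f' (1, swap 2 4) * F.f (1, swap 1 2) = _
        rw [hb']; exact ((hf' b3).eq).trans (by show _ = F.f (1, swap 1 2) * F.f' (1, swap 2 4); rw [hb'])
      · show F.f' (1, swap 2 4) * F.f (1, swap 0 1) = _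
        rw [ha']; exact ((hf' a3).eq).trans (by show _ = F.f (1, swap 0 1) * F.f' (1, swap 2 4); rw [ha'])
      · show F.f (1, t5) * F.f (1, swap 1 2) = F.f (1, swap 1 2) * F.f (1, t5)
        rw [← map_mul, c35, map_mul]
      · show F.f (1, t5) * F.f (1, swap 0 1) = F.f (1, swap 0 1) * F.f (1, t5)
        rw [← map_mul, c36, map_mul]
      · show F.f (1, swap 2 3) * F.f (1, swap 0 1) = F.f (1, swap 0 1) * F.f (1, swap 2 3)
        rw [← map_mul, c46, map_mul]
    · intro i hi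
      have hi' : i < 6 := by omega
      interval_cases i
      · show F.f (a3, 1) * F.f (b3, 1) * F.f (a3, 1) = F.f (b3, 1) * F.f (a3, 1) * F.f (b3, 1)
        rw [← map_mul, ← map_mul, b01, map_mul, map_mul]
      · show F.f (b3, 1) * F.f' (1, swap 2 4) * F.f (b3, 1) = F.f' (1, swap 2 4) * F.f (b3, 1) * F.f' (1, swap 2 4)
        rw [hb, ← map_mul, ← map_mul, q12, map_mul, map_mul]
      · show F.f' (1, swap 2 4) * F.f (1, t5) * F.f' (1, swap 2 4) = F.f (1, t5) * F.f' (1, swap 2 4) * F.f (1, t5)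
        rw [hu, ← map_mul, ← map_mul, q23, map_mul, map_mul]
      · show F.f (1, t5) * F.f (1, swap 2 3) * F.f (1, t5) = F.f (1, swap 2 3) * F.f (1, t5) * F.f (1, swap 2 3)
        rw [← map_mul, ← map_mul, b34, map_mul, map_mul]
      · show F.f (1, swap 2 3) * F.f (1, swap 1 2) * F.f (1, swap 2 3) =
          F.f (1, swap 1 2) * F.f (1, swap 2 3) * F.f (1, swap 1 2)
        rw [← map_mul, ← map_mul, b45, map_mul, map_mul]
      · show F.f (1, swap 1 2) * F.f (1, swap 0 1) * F.f (1, swap 1 2) =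
          F.f (1, swap 0 1) * F.f (1, swap 1 2) * F.f (1, swap 0 1)
        rw [← map_mul, ← map_mul, b56, map_mul, map_mul]
  obtain ⟨φ, -, hφ⟩ := Fus.SymPath.exists_hom hp
  obtain ⟨v0, v1, v3, v4, v5, v6, vc, vd, vn, n2, rr⟩ := iota_vals
  let ψ : S8 →* G := φ.comp (MulAut.conj rho8).toMonoidHom
  have hψ : ∀ σ, ψ σ = φ (rho8 * σ * rho8) := fun σ => by
    show φ (rho8 * σ * rho8⁻¹) = _
    rw [inv_eq_of_mul_eq_one_right rr]
  obtain ⟨k0, k1, k2, k3, k4, k5, k6⟩ := rho_adj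
  have g0 : ψ (swap 0 1) = F.f (a3, 1) := by rw [hψ, ← k0]; exact hφ 0 (by omega)
  have g1 : ψ (swap 1 2) = F.f (b3, 1) := by rw [hψ, ← k1]; exact hφ 1 (by omega)
  have g3 : ψ (swap 6 7) = F.f (1, t5) := by rw [hψ, ← k3]; exact hφ 3 (by omega)
  have g4 : ψ (swap 5 6) = F.f (1, swap 2 3) := by rw [hψ, ← k4]; exact hφ 4 (by omega)
  have g5' : ψ (swap 4 5) = F.f (1, swap 1 2) := by rw [hψ, ← k5]; exact hφ 5 (by omega)
  have g6 : ψ (swap 3 4) = F.f (1, swap 0 1) := by rw [hψ, ← k6]; exact hφ 6 (by omega)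
  have ext3 : ∀ t : P3, ψ (iota (t, 1)) = F.f (t, 1) := by
    intro t
    have hg : ∀ s ∈ Subgroup.closure ({a3, b3} : Set P3), ψ (iota (s, 1)) = F.f (s, 1) := fun s hs =>
      MonoidHom.eqOn_closure (f := (ψ.comp iota).comp (MonoidHom.inl P3 P5)) (g := F.f.comp (MonoidHom.inl P3 P5))
        (by rintro x (rfl | rfl)
            · show ψ (iota (a3, 1)) = F.f (a3, 1); rw [v0, g0]
            · show ψ (iota (b3, 1)) = F.f (b3, 1); rw [v1, g1]) hs
    refine hg t ?_
    have ma : a3 ∈ Subgroup.closure ({a3, b3} : Set P3) := Subgroup.subset_closure (Or.inl rfl)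
    have mb : b3 ∈ Subgroup.closure ({a3, b3} : Set P3) := Subgroup.subset_closure (Or.inr rfl)
    have mc : c3 ∈ Subgroup.closure ({a3, b3} : Set P3) := hc3 ▸ mul_mem ma mb
    rcases p3_rot t with rfl | rfl | rfl | rfl | rfl | rfl
    exacts [one_mem _, mc, inv_mem mc, ma, mul_mem ma mc, mul_mem ma (inv_mem mc)]
  have ext5 : ∀ x : P5, ψ (iota (1, x)) = F.f (1, x) := by
    intro x
    let E : Subgroup P5 :=
      MonoidHom.eqLocus ((ψ.comp iota).comp (MonoidHom.inr P3 P5)) (F.f.comp (MonoidHom.inr P3 P5))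
    have hE : E = ⊤ := by
      rw [eq_top_iff]
      intro y _
      have hc : Submonoid.closure (Set.range fun i : Fin 4 => swap i.castSucc i.succ) ≤ E.toSubmonoid := by
        refine Submonoid.closure_le.2 ?_
        rintro _ ⟨i, rfl⟩
        fin_cases i
        · show ψ (iota (1, swap 0 1)) = F.f (1, swap 0 1); rw [v3, g6]
        · show ψ (iota (1, swap 1 2)) = F.f (1, swap 1 2); rw [v4, g5']
        · show ψ (iota (1, swap 2 3)) = F.f (1, swap 2 3); rw [v5, g4]
        · show ψ (iota (1, t5)) = F.f (1, t5); rw [v6, g3]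
      rw [Equiv.Perm.mclosure_swap_castSucc_succ] at hc
      exact hc (Submonoid.mem_top y)
    exact (hE ▸ Subgroup.mem_top x : x ∈ E)
  have hι : ∀ p, ψ (iota p) = F.f p := by
    intro p
    rw [show p = (p.1, 1) * (1, p.2) from Prod.ext (by simp) (by simp), map_mul, map_mul, map_mul, ext3, ext5]
  refine ⟨ψ, ?_, hι, ?_⟩
  · rw [← MonoidHom.ker_eq_bot_iff]
    haveI : IsSimpleGroup (alternatingGroup (Fin 8)) := alternatingGroup.isSimpleGroup (by simp)
    have hne : ψ (swap 0 1 * swap 1 2) ≠ 1 := by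
      rw [← vc, hι]; exact F.z_cube.2.1
    rcases (inferInstance : (ψ.ker.subgroupOf (alternatingGroup (Fin 8))).Normal).eq_bot_or_eq_top with hb | ht
    · rw [Subgroup.eq_bot_iff_forall]
      intro k hk
      have hsmall : ∀ x ∈ ψ.ker, Equiv.Perm.sign x = 1 → x = 1 := by
        intro x hx hs
        have : (⟨x, hs⟩ : alternatingGroup (Fin 8)) ∈ ψ.ker.subgroupOf (alternatingGroup (Fin 8)) := hx
        rw [hb] at this
        exact congrArg Subtype.val (Subgroup.mem_bot.mp this)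
      have hcent : ∀ g : S8, g * k = k * g := by
        intro g
        have hm : g * k * g⁻¹ * k⁻¹ ∈ ψ.ker := mul_mem (ψ.normal_ker.conj_mem k hk g) (inv_mem hk)
        exact mul_inv_eq_iff_eq_mul.1 (mul_inv_eq_one.1 (hsmall _ hm (by simp [mul_comm, mul_assoc, mul_left_comm])))
      ext1 x
      by_contra hx
      obtain ⟨y, hy1, hy2⟩ : ∃ y : Fin 8, y ≠ x ∧ y ≠ k x := by
        have : ({x, k x} : Finset (Fin 8)).card ≤ 2 := Finset.card_le_two
        obtain ⟨y, hy⟩ : ∃ y, y ∉ ({x, k x} : Finset (Fin 8)) := by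
          by_contra hcon
          push Not at hcon
          have : (Finset.univ : Finset (Fin 8)).card ≤ 2 := (Finset.card_le_card fun y _ => hcon y).trans ‹_›
          simp at this
        simp at hy
        exact ⟨y, hy.1, hy.2⟩
      have := congrArg (fun σ : S8 => σ x) (hcent (swap (k x) y))
      simp only [Equiv.Perm.mul_apply, swap_apply_left] at this
      rw [swap_apply_of_ne_of_ne (show x ≠ k x from fun e => hx e.symm) hy1.symm] at this
      exact hy2 this
    · exfalso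
      have : (⟨swap 0 1 * swap 1 2, by show Equiv.Perm.sign _ = 1; decide⟩ : alternatingGroup (Fin 8)) ∈
          ψ.ker.subgroupOf (alternatingGroup (Fin 8)) := ht ▸ Subgroup.mem_top _
      exact hne this
  · -- the exchanging involution
    set n0 := ψ n8 with hn0
    have hn02 : n0 * n0 = 1 := by rw [hn0, ← map_mul, n2, map_one]
    have hn0z : n0 * F.z * n0 = F.z' := by
      rw [hn0, Frame.z, ← hι, ← map_mul, ← map_mul, vn, hι]; rfl
    have hc : (n0 * F.n) * F.z * (n0 * F.n)⁻¹ = F.z := by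
      rw [show n0 * F.n * F.z * (n0 * F.n)⁻¹ = n0 * (F.n * F.z * F.n⁻¹) * n0⁻¹ by group, F.n_inv,
        show F.n * F.z * F.n = F.z' from F.n_z, ← hn0z,
        inv_eq_of_mul_eq_one_right hn02, show n0 * (n0 * F.z * n0) * n0 = (n0 * n0) * F.z * (n0 * n0) by group, hn02,
        one_mul, mul_one]
    obtain ⟨p, hp⟩ := F.mem_range_of_conj_z (Or.inl hc)
    refine ⟨n8 * iota p, ?_⟩
    rw [map_mul, hι, hp, ← hn0, ← mul_assoc, hn02, one_mul]

end Cfsg.Agent.Invol.S8Three
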