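import Cfsg.Agent.Lib.Invol.S8Three.Frame
import Cfsg.Agent.Lib.Invol.S8Three.Tab6
import Cfsg.Agent.S3333

/-! The two possible centralisers of the involution centralising the Sylow subgroup. -/

set_option autoImplicit false
set_option maxRecDepth 50000
set_option synthInstance.maxSize 1000
set_option linter.unusedSectionVars false
set_option linter.style.haveILetI false

namespace Cfsg.Agent.Invol.S8Three

universe u

open Equiv

theorem centD_list : ∀ p : P35, p * (c3, 1) = (c3, 1) * p → p * (1, d5) = (1, d5) * p →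
    ∃ i j : Fin 3, ∃ k : Fin 2, p = (c3 ^ (i : ℕ), d5 ^ (j : ℕ)) * (1, t5) ^ (k : ℕ) := by decide +kernel

theorem centz_u_norm : ∀ p : P35, p * (c3, 1) = (c3, 1) * p → p * (1, t5) = (1, t5) * p →
    p * (1, d5) * p⁻¹ = (1, d5) ∨ p * (1, d5) * p⁻¹ = (1, d5)⁻¹ := by decide +kernel

theorem y_centD : ∀ p : P35, p * (c3, d5) = (c3, d5) * p →
    p * (c3, 1) = (c3, 1) * p ∧ p * (1, d5) = (1, d5) * p := by decide +kernel

theorem five_y : ∀ p : P35, p * (c3, d5) = (c3, d5) * p → p ^ 5 = 1 → p = 1 := by decide +kernel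


/-- the five-cycle -/
def f5 : P5 := swap 0 1 * swap 1 2 * swap 2 3 * swap 3 4

theorem f5_facts : f5 ^ 5 = 1 ∧ f5 ≠ 1 := by decide +kernel

/-- The centraliser of `u` is the normaliser of the Sylow subgroup. -/
def CB {G : Type u} [Group G] (F : Frame G) : Prop :=
  ∀ g : G, g * F.u = F.u * g → g ∈ F.f.range ∨ g * F.n ∈ F.f.range

/-- The centraliser of `u` is `2 × Sym(6)` modulo splitting. -/
def CA {G : Type u} [Group G] (F : Frame G) : Prop :=
  ∃ ρ : ↥(Subgroup.centralizer ({F.u} : Set G)) →* P6, Function.Surjective ρ ∧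
    ∀ x, ρ x = 1 ↔ (x = 1 ∨ (x : G) = F.u)

variable {G : Type u} [Group G] [Finite G] (F : Frame G)

namespace Frame

theorem conj_n_z' : F.n * F.z' * F.n = F.z := F.f'_d ▸ (F.f'_apply (1, d5)).symm

theorem n_y : F.n * (F.z * F.z') = F.z * F.z' * F.n := by
  have h1 : F.n * F.z * F.n = F.z' := F.n_z
  have h2 := F.conj_n_z'
  have e1 : F.n * F.z = F.z' * F.n := by rw [← h1, mul_assoc, F.n_sq, mul_one]
  have e2 : F.n * F.z' = F.z * F.n := by rw [← h2, mul_assoc, F.n_sq, mul_one]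
  rw [← mul_assoc, e1, mul_assoc, e2, ← mul_assoc, F.z_comm]

/-- The centraliser of `z z'` normalises the Sylow subgroup. -/
theorem conj_z_of_y {g : G} (h : g * (F.z * F.z') = F.z * F.z' * g) :
    (g * F.z * g⁻¹ = F.z ∧ g * F.z' * g⁻¹ = F.z') ∨ (g * F.z * g⁻¹ = F.z' ∧ g * F.z' * g⁻¹ = F.z) := by
  have base : ∀ x : G, x ∈ F.f.range → x * (F.z * F.z') = F.z * F.z' * x →
      x * F.z = F.z * x ∧ x * F.z' = F.z' * x := by
    rintro _ ⟨p, rfl⟩ hx
    rw [F.zz'] at hx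
    obtain ⟨e1, e2⟩ := y_centD p (F.inj (by rw [map_mul, map_mul]; exact hx))
    exact ⟨by rw [z, ← map_mul, ← map_mul, e1], by rw [z', ← map_mul, ← map_mul, e2]⟩
  rcases F.centy g (by rw [← F.zz']; exact h) with hg | hg
  · obtain ⟨e1, e2⟩ := base g hg h
    exact Or.inl ⟨mul_inv_eq_iff_eq_mul.mpr e1, mul_inv_eq_iff_eq_mul.mpr e2⟩
  · right
    obtain ⟨e1, e2⟩ := base _ hg (by rw [mul_assoc, F.n_y, ← mul_assoc, h, mul_assoc])
    have hge : g = g * F.n * F.n := by rw [mul_assoc, F.n_sq, mul_one]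
    constructor
    · rw [hge, show g * F.n * F.n * F.z * (g * F.n * F.n)⁻¹ = g * F.n * (F.n * F.z * F.n⁻¹) * (g * F.n)⁻¹ by group,
        F.n_inv, show F.n * F.z * F.n = F.z' from F.n_z, e2, mul_inv_cancel_right]
    · rw [hge, show g * F.n * F.n * F.z' * (g * F.n * F.n)⁻¹ = g * F.n * (F.n * F.z' * F.n⁻¹) * (g * F.n)⁻¹ by group,
        F.n_inv, F.conj_n_z', e1, mul_inv_cancel_right]

/-- An element inverting or fixing `z` lies in the range. -/
theorem mem_range_of_conj_z {g : G} (h : g * F.z * g⁻¹ = F.z ∨ g * F.z * g⁻¹ = F.z⁻¹) : g ∈ F.f.range := by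
  rcases h with h | h
  · exact F.centz g (mul_inv_eq_iff_eq_mul.1 h)
  · exact F.invz g h

theorem no_five_y {g : G} (h5 : g ^ 5 = 1) (h : g * (F.z * F.z') = F.z * F.z' * g) : g = 1 := by
  have hg : g ∈ F.f.range := by
    rcases F.conj_z_of_y h with ⟨h1, -⟩ | ⟨h1, h2⟩
    · exact F.mem_range_of_conj_z (Or.inl h1)
    · exfalso
      have e2 : g * g * F.z * (g * g)⁻¹ = F.z := by
        rw [show g * g * F.z * (g * g)⁻¹ = g * (g * F.z * g⁻¹) * g⁻¹ by group, h1, h2]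
      have hc : Commute (g * g) F.z := mul_inv_eq_iff_eq_mul.1 e2
      have e6 : (g * g) ^ 3 = g := by rw [← pow_two, ← pow_mul, pow_succ, h5, one_mul]
      have hc3 := hc.pow_left 3
      rw [e6] at hc3
      rw [hc3.eq, mul_inv_cancel_right] at h1
      exact absurd (F.inj h1) (by decide)
  obtain ⟨p, rfl⟩ := hg
  rw [F.zz'] at h
  rw [five_y p (F.inj (by rw [map_mul, map_mul]; exact h)) (F.inj (by rw [map_pow, h5, map_one])), map_one]

/-- The product is not conjugate to `z`. -/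
theorem y_ne_conj {g : G} : g * F.z * g⁻¹ ≠ F.z * F.z' := by
  intro hg
  have h0 : (F.f (1, f5)) * F.z = F.z * F.f (1, f5) := by
    rw [z, ← map_mul, ← map_mul]; exact congrArg F.f (Prod.ext (by simp) (by simp))
  have h1 := commute_conj (g := g) (show Commute _ _ from h0)
  rw [hg] at h1
  have h2 := F.no_five_y (by rw [conj_pow, ← map_pow, show ((1, f5) : P35) ^ 5 = 1 from Prod.ext (one_pow 5) f5_facts.1,
    map_one, mul_one, mul_inv_cancel]) h1.eq
  exact f5_facts.2 (congrArg Prod.snd (F.inj ((conj_one h2).trans F.f.map_one.symm)))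

/-- Conjugation by the reflection of the twin. -/
theorem e_conj : F.f (1, e5) * F.z * (F.f (1, e5))⁻¹ = F.z ∧ F.f (1, e5) * F.z' * (F.f (1, e5))⁻¹ = F.z'⁻¹ ∧
    F.f (1, e5) * F.u * (F.f (1, e5))⁻¹ = F.u := by
  refine ⟨?_, ?_, ?_⟩ <;> simp only [z, z', Frame.u, ← map_inv, ← map_mul] <;> exact congrArg F.f (by decide)

theorem mem_D_of_conj {g : G} (h1 : g * F.z * g⁻¹ ∈ F.D) (h2 : g * F.z' * g⁻¹ ∈ F.D) {d : G} (hd : d ∈ F.D) :
    g * d * g⁻¹ ∈ F.D := by
  obtain ⟨i, j, rfl⟩ := F.mem_D hd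
  rw [show g * (F.z ^ i * F.z' ^ j) * g⁻¹ = g * F.z ^ i * g⁻¹ * (g * F.z' ^ j * g⁻¹) by group, ← conj_zpow,
    ← conj_zpow]
  exact mul_mem (zpow_mem h1 i) (zpow_mem h2 j)

theorem cube_of_D {d : G} (hd : d ∈ F.D) : d ^ 3 = 1 := by
  obtain ⟨hz, -, hz', -⟩ := F.z_cube
  obtain ⟨i, j, rfl⟩ := F.mem_D hd
  rw [((show Commute F.z F.z' from F.z_comm).zpow_zpow i j).mul_pow, ← zpow_natCast, ← zpow_mul, ← zpow_natCast,
    ← zpow_mul, mul_comm i, mul_comm j, zpow_mul, zpow_mul, zpow_natCast, zpow_natCast, hz, hz', one_zpow, one_zpow,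
    one_mul]

theorem u_comm_D {d : G} (hd : d ∈ F.D) : F.u * d = d * F.u := by
  obtain ⟨i, j, rfl⟩ := F.mem_D hd
  obtain ⟨-, -, c1, c2⟩ := F.u_facts
  exact (((show Commute F.u F.z from c1).zpow_right i).mul_right ((show Commute F.u F.z' from c2).zpow_right j)).eq

/-- The normaliser of the Sylow subgroup centralises `u`. -/
theorem u_of_norm {g : G} (h : ∀ d ∈ F.D, g * d * g⁻¹ ∈ F.D) : g * F.u = F.u * g := by
  have hle : F.D.map (MulAut.conj g).toMonoidHom ≤ F.D := by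
    rintro _ ⟨d, hd, rfl⟩; exact h d hd
  have he := Subgroup.eq_of_le_of_card_ge hle
    (le_of_eq (Subgroup.card_map_of_injective (MulAut.conj g).injective).symm)
  have hc : ∀ d ∈ F.D, g * F.u * g⁻¹ * d = d * (g * F.u * g⁻¹) := by
    intro d hd
    rw [← he] at hd
    obtain ⟨d0, hd0, rfl⟩ := hd
    exact (commute_conj (g := g) (show Commute F.u d0 from F.u_comm_D hd0)).eq
  refine mul_inv_eq_iff_eq_mul.1 (F.invol_centD ?_ ?_ (hc _ F.z_mem_D.1) (hc _ F.z_mem_D.2))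
  · rw [show g * F.u * g⁻¹ * (g * F.u * g⁻¹) = g * (F.u * F.u) * g⁻¹ by group, F.u_facts.1, mul_one, mul_inv_cancel]
  · exact fun e => F.u_facts.2.1 (conj_one e)

/-- The classes inside the Sylow subgroup. -/
theorem D_cases {d : G} (hd : d ∈ F.D) (h1 : d ≠ 1) :
    (d = F.z ∨ d = F.z⁻¹) ∨ (d = F.z' ∨ d = F.z'⁻¹) ∨
      (d = F.z * F.z' ∨ d = (F.z * F.z')⁻¹) ∨ (d = F.z * F.z'⁻¹ ∨ d = (F.z * F.z'⁻¹)⁻¹) := by
  obtain ⟨⟨p, q⟩, hpq, rfl⟩ := hd
  obtain ⟨hp, hq⟩ := Subgroup.mem_prod.mp hpq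
  have key : ∀ p : P3, ∀ q : P5, (p = 1 ∨ p = c3 ∨ p = c3⁻¹) → (q = 1 ∨ q = d5 ∨ q = d5⁻¹) → (p, q) ≠ (1, 1) →
      ((p, q) : P35) = (c3, 1) ∨ (p, q) = (c3, 1)⁻¹ ∨ (p, q) = (1, d5) ∨ (p, q) = (1, d5)⁻¹ ∨
      (p, q) = (c3, 1) * (1, d5) ∨ (p, q) = ((c3, 1) * (1, d5))⁻¹ ∨ (p, q) = (c3, 1) * (1, d5)⁻¹ ∨
      (p, q) = ((c3, 1) * (1, d5)⁻¹)⁻¹ := by
    intro p q hp hq
    rcases hp with rfl | rfl | rfl <;> rcases hq with rfl | rfl | rfl <;> decide
  have three : ∀ {H : Type} [Group H] [Finite H] (x y : H), x ^ 3 = 1 → y ∈ Subgroup.zpowers x →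
      y = 1 ∨ y = x ∨ y = x⁻¹ := by
    intro H _ _ x y hx hy
    obtain ⟨i, rfl⟩ := Subgroup.mem_zpowers_iff.mp hy
    have h3 : x ^ (3 : ℤ) = 1 := by exact_mod_cast hx
    rcases (show i % 3 = 0 ∨ i % 3 = 1 ∨ i % 3 = 2 by omega) with r | r | r <;>
      rw [← Int.emod_add_mul_ediv i 3, r, zpow_add, zpow_mul, h3, one_zpow, mul_one]
    · exact Or.inl (zpow_zero x)
    · exact Or.inr (Or.inl (zpow_one x))
    · refine Or.inr (Or.inr (eq_inv_of_mul_eq_one_left ?_))
      nth_rw 2 [← zpow_one x]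
      rw [← zpow_add]; exact h3
  have := key p q (three c3 p (by decide) hp) (three d5 q (by decide) hq) fun e => h1 (by rw [e]; exact map_one F.f)
  simp only [z, z', ← map_inv, ← map_mul]
  rcases this with e | e | e | e | e | e | e | e <;> rw [e] <;> simp

end Frame

/-- The dichotomy. -/
theorem cu_cases (D : Subgroup G) (hDF : D = F.D)
    [hcn : ((Subgroup.centralizer (D : Set G)).subgroupOf (Subgroup.normalizer (D : Set G))).Normal]
    (eNC : Subgroup.normalizer (D : Set G) ⧸ (Subgroup.centralizer (D : Set G)).subgroupOf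
      (Subgroup.normalizer (D : Set G)) ≃* DihedralGroup 4) : CB F ∨ CA F := by
  classical
  subst hDF
  haveI := Fact.mk Nat.prime_three
  set Cu := Subgroup.centralizer ({F.u} : Set G) with hCu
  have hmem : ∀ {g : G}, g ∈ Cu ↔ g * F.u = F.u * g := Subgroup.mem_centralizer_singleton_iff
  have huC : F.u ∈ Cu := hmem.2 rfl
  have hDC : F.D ≤ Cu := fun d hd => hmem.2 (F.u_comm_D hd).symm
  set Z : Subgroup Cu := Subgroup.zpowers ⟨F.u, huC⟩ with hZ
  haveI hZn : Z.Normal := ⟨fun w hw g => by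
    obtain ⟨i, rfl⟩ := Subgroup.mem_zpowers_iff.mp hw
    have hc : Commute g (⟨F.u, huC⟩ : Cu) := Subtype.ext (hmem.1 g.2)
    rw [(hc.zpow_right i).eq, mul_inv_cancel_right]
    exact Subgroup.zpow_mem_zpowers _ i⟩
  have hZ2 : ∀ w ∈ Z, w = 1 ∨ w = ⟨F.u, huC⟩ := by
    intro w hw
    obtain ⟨i, rfl⟩ := Subgroup.mem_zpowers_iff.mp hw
    have h2 : (⟨F.u, huC⟩ : Cu) ^ (2 : ℤ) = 1 := Subtype.ext (by simpa [pow_two] using F.u_facts.1)
    rcases Int.even_or_odd i with ⟨j, rfl⟩ | ⟨j, rfl⟩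
    · left; rw [← two_mul, zpow_mul, h2, one_zpow]
    · right; rw [zpow_add, zpow_mul, h2, one_zpow, one_mul, zpow_one]
  have hZc : Nat.card Z = 2 := by rw [Nat.card_zpowers, ← Subgroup.orderOf_coe, F.u_order]
  let π := QuotientGroup.mk' Z
  set S := (F.D.subgroupOf Cu).map π with hS
  -- an element of order three congruent to an element of `D`
  have lift : ∀ (x : Cu) (d : G) (hd : d ∈ F.D), (x : G) ^ 3 = 1 → π x = π ⟨d, hDC hd⟩ → (x : G) = d := by
    intro x d hd h3 he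
    obtain ⟨w, hw, e⟩ := (QuotientGroup.mk'_eq_mk' Z).1 he.symm
    rcases hZ2 w hw with rfl | rfl
    · rw [← e, mul_one]
    · exfalso
      have e' : (x : G) = d * F.u := congrArg Subtype.val e.symm
      rw [e', ((show Commute F.u d from F.u_comm_D hd).symm).mul_pow, F.cube_of_D hd, one_mul, pow_succ, pow_two,
        F.u_facts.1, one_mul] at h3
      exact F.u_facts.2.1 h3
  have hSc : Nat.card S = 9 := by
    have hinj : ∀ a ∈ F.D.subgroupOf Cu, π a = 1 → a = 1 := by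
      intro a ha he
      refine Subtype.ext (lift a 1 (one_mem _) (F.cube_of_D ha) ?_)
      rw [he]; exact (map_one π).symm
    let χ : F.D.subgroupOf Cu → S := fun a => ⟨π a, a.1, a.2, rfl⟩
    have hb : Function.Bijective χ := by
      refine ⟨fun a b e => Subtype.ext ?_, fun ⟨s, a, ha, e⟩ => ⟨⟨a, ha⟩, Subtype.ext e⟩⟩
      have e' : π a.1 = π b.1 := congrArg Subtype.val e
      exact mul_inv_eq_one.1 (hinj _ (mul_mem a.2 (inv_mem b.2)) (by rw [map_mul, map_inv, e', mul_inv_cancel]))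
    rw [← Nat.card_congr (Equiv.ofBijective χ hb), Nat.card_congr (Subgroup.subgroupOfEquivOfLe hDC).toEquiv, F.card_D]
  have hSp : IsPGroup 3 S := IsPGroup.of_card (n := 2) (by rw [hSc]; norm_num)
  obtain ⟨P, hP⟩ := hSp.exists_le_sylow
  have hPS : S = P := by
    refine Subgroup.eq_of_le_of_card_ge hP ?_
    rw [hSc]
    obtain ⟨k, hk⟩ := IsPGroup.iff_card.mp P.isPGroup'
    have hR : Nat.card ((P : Subgroup (Cu ⧸ Z)).comap π) = 2 * 3 ^ k := by
      rw [← Subgroup.card_mul_index (Z.subgroupOf ((P : Subgroup (Cu ⧸ Z)).comap π)),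
        Nat.card_congr (Subgroup.subgroupOfEquivOfLe (fun w hw => by
          show π w ∈ (P : Subgroup (Cu ⧸ Z))
          rw [show π w = 1 from (QuotientGroup.eq_one_iff w).2 hw]; exact one_mem _)).toEquiv, hZc, ← hk]
      congr 1
      let ρ : ↥((P : Subgroup (Cu ⧸ Z)).comap π) →* (P : Subgroup (Cu ⧸ Z)) :=
        (π.comp (Subgroup.subtype _)).codRestrict _ fun m => m.2
      have hsur : Function.Surjective ρ := fun n => by
        obtain ⟨g, hg⟩ := QuotientGroup.mk'_surjective Z (n : Cu ⧸ Z)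
        exact ⟨⟨g, show π g ∈ (P : Subgroup (Cu ⧸ Z)) by rw [show π g = n from hg]; exact n.2⟩, Subtype.ext hg⟩
      have hk' : ρ.ker = Z.subgroupOf _ := by
        ext m
        rw [MonoidHom.mem_ker, Subgroup.mem_subgroupOf, ← QuotientGroup.eq_one_iff (N := Z)]
        exact Subtype.ext_iff
      rw [← hk', Subgroup.index_ker, MonoidHom.range_eq_top.2 hsur, Subgroup.card_top]
    obtain ⟨T, hT⟩ := Sylow.exists_subgroup_card_pow_prime 3 (G := ↥((P : Subgroup (Cu ⧸ Z)).comap π)) (n := k)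
      (by rw [hR]; exact dvd_mul_left _ _)
    have := F.sylow ((T.map (Subgroup.subtype _)).map Cu.subtype) (((IsPGroup.of_card hT).map _).map _)
    rw [Subgroup.card_map_of_injective Cu.subtype_injective, Subgroup.card_map_of_injective (Subgroup.subtype_injective _),
      hT] at this
    omega
  have cube : ∀ (x : Cu) {d : G}, d ∈ F.D → ((x : G) * d * (x : G)⁻¹) ^ 3 = 1 := by
    intro x d hd
    rw [conj_pow, F.cube_of_D hd]; group
  have hC : Subgroup.centralizer (S : Set (Cu ⧸ Z)) = S := by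
    apply le_antisymm
    · intro q hq
      obtain ⟨x, rfl⟩ := QuotientGroup.mk'_surjective Z q
      have hx : ∀ d ∈ F.D, (x : G) * d = d * (x : G) := by
        intro d hd
        refine mul_inv_eq_iff_eq_mul.1 (lift (x * ⟨d, hDC hd⟩ * x⁻¹) d hd (cube x hd) ?_)
        rw [map_mul, map_mul, map_inv]
        exact mul_inv_eq_iff_eq_mul.2 (Subgroup.mem_centralizer_iff.mp hq _ ⟨⟨d, hDC hd⟩, hd, rfl⟩).symm
      obtain ⟨p, hp, hp1, hp2⟩ := F.of_centD (hx _ F.z_mem_D.1) (hx _ F.z_mem_D.2)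
      obtain ⟨i, j, k, rfl⟩ := centD_list p hp1 hp2
      have hd : F.f (c3 ^ (i : ℕ), d5 ^ (j : ℕ)) ∈ F.D :=
        ⟨_, Subgroup.mem_prod.mpr ⟨pow_mem (Subgroup.mem_zpowers _) _, pow_mem (Subgroup.mem_zpowers _) _⟩, rfl⟩
      refine ⟨⟨_, hDC hd⟩, hd, ?_⟩
      refine (QuotientGroup.mk'_eq_mk' Z).2 ⟨⟨F.u, huC⟩ ^ (k : ℕ), Subgroup.pow_mem _ (Subgroup.mem_zpowers _) _,
        Subtype.ext ?_⟩
      show F.f _ * (F.u ^ (k : ℕ)) = (x : G)
      rw [← hp, map_mul, map_pow]; rfl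
    · rintro _ ⟨x, hx, rfl⟩
      refine Subgroup.mem_centralizer_iff.mpr ?_
      rintro _ ⟨y, hy, rfl⟩
      rw [← map_mul, ← map_mul, show y * x = x * y from Subtype.ext (F.D_comm hy hx)]
  have norm_of : ∀ (x : Cu), π x ∈ Subgroup.normalizer (S : Set (Cu ⧸ Z)) →
      ∀ d ∈ F.D, (x : G) * d * (x : G)⁻¹ ∈ F.D := by
    intro x hx d hd
    obtain ⟨y, hy, e⟩ := (Subgroup.mem_normalizer_iff.mp hx (π ⟨d, hDC hd⟩)).1 ⟨⟨d, hDC hd⟩, hd, rfl⟩
    rw [show (x : G) * d * (x : G)⁻¹ = (y : G) from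
      lift (x * ⟨d, hDC hd⟩ * x⁻¹) y hy (cube x hd) (by rw [map_mul, map_mul, map_inv]; exact e.symm)]
    exact hy
  have norm_to : ∀ (x : Cu), (∀ d ∈ F.D, (x : G) * d * (x : G)⁻¹ ∈ F.D) →
      π x ∈ Subgroup.normalizer (S : Set (Cu ⧸ Z)) := by
    intro x hx
    have hle : S.map (MulAut.conj (π x)).toMonoidHom ≤ S := by
      rintro _ ⟨_, ⟨y, hy, rfl⟩, rfl⟩
      refine ⟨x * y * x⁻¹, hx _ hy, ?_⟩
      rw [map_mul, map_mul, map_inv]; rfl
    have he := Subgroup.eq_of_le_of_card_ge hle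
      (le_of_eq (Subgroup.card_map_of_injective (MulAut.conj (π x)).injective).symm)
    refine Subgroup.mem_normalizer_iff.mpr fun y => ⟨fun hy => hle ⟨y, hy, rfl⟩, fun hy => ?_⟩
    rw [← he] at hy
    obtain ⟨w, hw, e⟩ := hy
    exact (MulAut.conj (π x)).injective e ▸ hw
  -- the quotient of the normaliser
  have hND : ∀ {g : G}, g ∈ Subgroup.normalizer (F.D : Set G) → ∀ d ∈ F.D, g * d * g⁻¹ ∈ F.D :=
    fun hg d hd => (Subgroup.mem_normalizer_iff.mp hg d).1 hd
  let χ : ↥(Subgroup.normalizer (F.D : Set G)) →*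
      ↥(Subgroup.normalizer (S : Set (Cu ⧸ Z))) ⧸ S.subgroupOf (Subgroup.normalizer (S : Set (Cu ⧸ Z))) :=
    (QuotientGroup.mk' _).comp
      ((π.comp ((Subgroup.subtype _).codRestrict Cu fun g => hmem.2 (F.u_of_norm (hND g.2)))).codRestrict _
        fun g => norm_to _ (hND g.2))
  have hχ : Function.Surjective χ := by
    intro q
    obtain ⟨⟨m, hm⟩, rfl⟩ := QuotientGroup.mk'_surjective _ q
    obtain ⟨x, rfl⟩ := QuotientGroup.mk'_surjective Z m
    have hx : (x : G) ∈ Subgroup.normalizer (F.D : Set G) := by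
      have hle : F.D.map (MulAut.conj (x : G)).toMonoidHom ≤ F.D := by
        rintro _ ⟨d, hd, rfl⟩; exact norm_of x hm d hd
      have he := Subgroup.eq_of_le_of_card_ge hle
        (le_of_eq (Subgroup.card_map_of_injective (MulAut.conj (x : G)).injective).symm)
      refine Subgroup.mem_normalizer_iff.mpr fun y => ⟨fun hy => hle ⟨y, hy, rfl⟩, fun hy => ?_⟩
      rw [← he] at hy
      obtain ⟨w, hw, e⟩ := hy
      exact (MulAut.conj (x : G)).injective e ▸ hw
    exact ⟨⟨x, hx⟩, rfl⟩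
  have hker : χ.ker = (Subgroup.centralizer (F.D : Set G)).subgroupOf (Subgroup.normalizer (F.D : Set G)) := by
    ext g
    rw [MonoidHom.mem_ker, Subgroup.mem_subgroupOf]
    change QuotientGroup.mk' _ _ = 1 ↔ _
    rw [QuotientGroup.mk'_apply, QuotientGroup.eq_one_iff, Subgroup.mem_subgroupOf]
    constructor
    · intro hg
      refine Subgroup.mem_centralizer_iff.mpr fun d hd => ?_
      have h1 : π ⟨(g : G), hmem.2 (F.u_of_norm (hND g.2))⟩ ∈ Subgroup.centralizer (S : Set (Cu ⧸ Z)) := by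
        rw [hC]; exact hg
      have := Subgroup.mem_centralizer_iff.mp h1 _ ⟨⟨d, hDC hd⟩, hd, rfl⟩
      refine (mul_inv_eq_iff_eq_mul.1 (lift (⟨(g : G), hmem.2 (F.u_of_norm (hND g.2))⟩ * ⟨d, hDC hd⟩ *
        ⟨(g : G), hmem.2 (F.u_of_norm (hND g.2))⟩⁻¹) d hd (cube _ hd) ?_)).symm
      rw [map_mul, map_mul, map_inv]
      exact mul_inv_eq_iff_eq_mul.2 this.symm
    · intro hg
      show π _ ∈ S
      rw [← hC]
      refine Subgroup.mem_centralizer_iff.mpr ?_
      rintro _ ⟨y, hy, rfl⟩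
      rw [← map_mul, ← map_mul]
      exact congrArg π (Subtype.ext (Subgroup.mem_centralizer_iff.mp hg _ hy))
  have e8 : ↥(Subgroup.normalizer (S : Set (Cu ⧸ Z))) ⧸ S.subgroupOf (Subgroup.normalizer (S : Set (Cu ⧸ Z))) ≃*
      DihedralGroup 4 :=
    ((QuotientGroup.quotientMulEquivOfEq hker.symm).trans (QuotientGroup.quotientKerEquivOfSurjective χ hχ)).symm.trans eNC
  -- the centralisers
  have hcent : ∀ q ∈ S, q ≠ 1 → Subgroup.centralizer ({q} : Set (Cu ⧸ Z)) ≤ Subgroup.normalizer (S : Set (Cu ⧸ Z)) := by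
    rintro _ ⟨d, hd, rfl⟩ hne r hr
    obtain ⟨x, rfl⟩ := QuotientGroup.mk'_surjective Z r
    refine norm_to x fun e he => ?_
    have hd1 : (d : G) ≠ 1 := fun e => hne (by rw [show d = 1 from Subtype.ext e, map_one])
    have hxd : Commute (x : G) (d : G) := by
      refine mul_inv_eq_iff_eq_mul.1 (lift (x * d * x⁻¹) d hd (cube x hd) ?_)
      rw [map_mul, map_mul, map_inv]
      exact mul_inv_eq_iff_eq_mul.2 (Subgroup.mem_centralizer_singleton_iff.mp hr)
    have hxu : Commute (x : G) F.u := hmem.1 x.2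
    -- centralisers of `z` and of `z z'`
    have caseZ : ∀ g : G, Commute g F.z → Commute g F.u → ∀ e ∈ F.D, g * e * g⁻¹ ∈ F.D := by
      intro g hgz hgu e he
      refine F.mem_D_of_conj ?_ ?_ he
      · rw [hgz.eq, mul_inv_cancel_right]; exact F.z_mem_D.1
      · obtain ⟨p, rfl, hp⟩ := F.of_centz hgz.eq
        have hp2 : p * (1, t5) = (1, t5) * p := F.inj (by rw [map_mul, map_mul]; exact hgu.eq)
        have e' : F.f p * F.z' * (F.f p)⁻¹ = F.f (p * (1, d5) * p⁻¹) := by rw [map_mul, map_mul, map_inv]; rfl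
        rw [e']
        rcases centz_u_norm p hp hp2 with r | r <;> rw [r]
        · exact F.z_mem_D.2
        · rw [map_inv]; exact inv_mem F.z_mem_D.2
    have caseY : ∀ g : G, Commute g (F.z * F.z') → ∀ e ∈ F.D, g * e * g⁻¹ ∈ F.D := by
      intro g hg e he
      rcases F.conj_z_of_y hg.eq with ⟨h1, h2⟩ | ⟨h1, h2⟩
      · exact F.mem_D_of_conj (by rw [h1]; exact F.z_mem_D.1) (by rw [h2]; exact F.z_mem_D.2) he
      · exact F.mem_D_of_conj (by rw [h1]; exact F.z_mem_D.2) (by rw [h2]; exact F.z_mem_D.1) he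
    -- transport by the symmetries
    have move : ∀ (k : G) (g : G), (∀ e ∈ F.D, k * e * k⁻¹ ∈ F.D) → (∀ e ∈ F.D, k⁻¹ * e * k ∈ F.D) →
        (∀ e ∈ F.D, (k * g * k⁻¹) * e * (k * g * k⁻¹)⁻¹ ∈ F.D) → ∀ e ∈ F.D, g * e * g⁻¹ ∈ F.D := by
      intro k g hk hk' hg e he
      have := hk' _ (hg _ (hk e he))
      rwa [show k⁻¹ * (k * g * k⁻¹ * (k * e * k⁻¹) * (k * g * k⁻¹)⁻¹) * k = g * e * g⁻¹ by group] at this
    have hn : ∀ e ∈ F.D, F.n * e * F.n⁻¹ ∈ F.D := fun e he => F.mem_D_of_conj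
      (by rw [F.n_inv, show F.n * F.z * F.n = F.z' from F.n_z]; exact F.z_mem_D.2)
      (by rw [F.n_inv, F.conj_n_z']; exact F.z_mem_D.1) he
    obtain ⟨e1, e2, e3⟩ := F.e_conj
    have hE : ∀ e ∈ F.D, F.f (1, e5) * e * (F.f (1, e5))⁻¹ ∈ F.D := fun e he => F.mem_D_of_conj
      (by rw [e1]; exact F.z_mem_D.1) (by rw [e2]; exact inv_mem F.z_mem_D.2) he
    have hEi : (F.f (1, e5))⁻¹ = F.f (1, e5) := by rw [← map_inv]; exact congrArg F.f (by decide)
    rcases F.D_cases (d := (d : G)) hd hd1 with h | h | h | h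
    · refine caseZ x ?_ hxu e he
      rcases h with h | h <;> rw [h] at hxd
      exacts [hxd, Commute.inv_right_iff.mp hxd]
    · refine move F.n x hn (fun w hw => by rw [F.n_inv]; have := hn w hw; rwa [F.n_inv] at this) ?_ e he
      refine caseZ _ ?_ ?_
      · have hz' : Commute (x : G) F.z' := by
          rcases h with h | h <;> rw [h] at hxd
          exacts [hxd, Commute.inv_right_iff.mp hxd]
        have := commute_conj (g := F.n) hz'
        rwa [show F.n * F.z' * F.n⁻¹ = F.z by rw [F.n_inv, F.conj_n_z']] at this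
      · have := commute_conj (g := F.n) hxu
        rwa [show F.n * F.u * F.n⁻¹ = F.u by rw [F.n_inv]; exact F.n_u] at this
    · refine caseY x ?_ e he
      rcases h with h | h <;> rw [h] at hxd
      exacts [hxd, Commute.inv_right_iff.mp hxd]
    · refine move (F.f (1, e5)) x hE (fun w hw => by rw [hEi]; have := hE w hw; rwa [hEi] at this) ?_ e he
      refine caseY _ ?_
      have hw : Commute (x : G) (F.z * F.z'⁻¹) := by
        rcases h with h | h <;> rw [h] at hxd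
        exacts [hxd, Commute.inv_right_iff.mp hxd]
      have := commute_conj (g := F.f (1, e5)) hw
      rwa [show F.f (1, e5) * (F.z * F.z'⁻¹) * (F.f (1, e5))⁻¹ =
        (F.f (1, e5) * F.z * (F.f (1, e5))⁻¹) * (F.f (1, e5) * F.z' * (F.f (1, e5))⁻¹)⁻¹ by group, e1, e2,
        inv_inv] at this
  rcases S3333.result P S hPS hSc hC e8 hcent with hn | ⟨⟨e6⟩⟩
  · left
    intro g hg
    have hgn := norm_of ⟨g, hmem.2 hg⟩ (by rw [Subgroup.normalizer_eq_top_iff.mpr hn]; trivial)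
    have hne : g * F.z * g⁻¹ ≠ 1 := fun e => F.z_cube.2.1 (conj_one e)
    obtain ⟨e1, e2, -⟩ := F.e_conj
    rcases F.D_cases (hgn _ F.z_mem_D.1) hne with h | h | h | h
    · exact Or.inl (F.mem_range_of_conj_z h)
    · refine Or.inr ?_
      have h' : g * F.n * F.z' * (g * F.n)⁻¹ = F.z' ∨ g * F.n * F.z' * (g * F.n)⁻¹ = F.z'⁻¹ := by
        rw [show g * F.n * F.z' * (g * F.n)⁻¹ = g * (F.n * F.z' * F.n⁻¹) * g⁻¹ by group, F.n_inv, F.conj_n_z']
        exact h
      have hz : F.n * (g * F.n) * F.z * (F.n * (g * F.n))⁻¹ = F.n * (g * (F.n * F.z * F.n⁻¹) * g⁻¹) * F.n⁻¹ := by group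
      have hgz' : g * F.z' * g⁻¹ ∈ F.D := hgn _ F.z_mem_D.2
      -- the images of the pair are `{z'^±, z^±}`
      have : g * F.z' * g⁻¹ = F.z ∨ g * F.z' * g⁻¹ = F.z⁻¹ := by
        have hne' : g * F.z' * g⁻¹ ≠ 1 := fun e => F.z_cube.2.2.2 (conj_one e)
        rcases F.D_cases hgz' hne' with k | k | k | k
        · exact k
        · exfalso
          have key : ∀ {x y : G}, (x = F.z' ∨ x = F.z'⁻¹) → (y = F.z' ∨ y = F.z'⁻¹) → y = x ∨ y = x⁻¹ := by
            rintro x y (rfl | rfl) (rfl | rfl) <;> simp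
          rcases key h k with e | e
          · exact absurd (F.inj (mul_left_cancel (mul_right_cancel e))) (by decide)
          · rw [show (g * F.z * g⁻¹)⁻¹ = g * F.z⁻¹ * g⁻¹ by group, Frame.z, ← map_inv] at e
            exact absurd (F.inj (mul_left_cancel (mul_right_cancel e))) (by decide)
        · exfalso
          rcases k with k | k
          · refine F.y_ne_conj (g := g * F.n) ?_
            rw [show g * F.n * F.z * (g * F.n)⁻¹ = g * (F.n * F.z * F.n⁻¹) * g⁻¹ by group, F.n_inv,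
              show F.n * F.z * F.n = F.z' from F.n_z, k]
          · refine F.y_ne_conj (g := g * F.n * F.a) ?_
            rw [show g * F.n * F.a * F.z * (g * F.n * F.a)⁻¹ = g * (F.n * (F.a * F.z * F.a⁻¹) * F.n⁻¹) * g⁻¹ by group,
              F.n_inv, show F.a * F.z * F.a⁻¹ = F.z⁻¹ by
                simp only [Frame.a, Frame.z, ← map_inv, ← map_mul]; exact congrArg F.f (by decide),
              show F.n * F.z⁻¹ * F.n = (F.n * F.z * F.n⁻¹)⁻¹ by rw [F.n_inv]; nth_rw 3 [← F.n_inv]; nth_rw 1 [← F.n_inv]; group,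
              F.n_inv, show F.n * F.z * F.n = F.z' from F.n_z, show g * F.z'⁻¹ * g⁻¹ = (g * F.z' * g⁻¹)⁻¹ by group, k, inv_inv]
        · exfalso
          rcases k with k | k
          · refine F.y_ne_conj (g := F.f (1, e5) * (g * F.n)) ?_
            rw [show F.f (1, e5) * (g * F.n) * F.z * (F.f (1, e5) * (g * F.n))⁻¹ =
              F.f (1, e5) * (g * (F.n * F.z * F.n⁻¹) * g⁻¹) * (F.f (1, e5))⁻¹ by group, F.n_inv,
              show F.n * F.z * F.n = F.z' from F.n_z, k,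
              show F.f (1, e5) * (F.z * F.z'⁻¹) * (F.f (1, e5))⁻¹ =
              (F.f (1, e5) * F.z * (F.f (1, e5))⁻¹) * (F.f (1, e5) * F.z' * (F.f (1, e5))⁻¹)⁻¹ by group, e1, e2, inv_inv]
          · refine F.y_ne_conj (g := F.f (1, e5) * (g * F.n * F.a)) ?_
            have ha : F.a * F.z * F.a⁻¹ = F.z⁻¹ := by
              simp only [Frame.a, Frame.z, ← map_inv, ← map_mul]; exact congrArg F.f (by decide)
            rw [show F.f (1, e5) * (g * F.n * F.a) * F.z * (F.f (1, e5) * (g * F.n * F.a))⁻¹ =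
              F.f (1, e5) * (g * (F.n * (F.a * F.z * F.a⁻¹) * F.n⁻¹) * g⁻¹) * (F.f (1, e5))⁻¹ by group, ha,
              show F.n * F.z⁻¹ * F.n⁻¹ = (F.n * F.z * F.n⁻¹)⁻¹ by group, F.n_inv,
              show F.n * F.z * F.n = F.z' from F.n_z, show g * F.z'⁻¹ * g⁻¹ = (g * F.z' * g⁻¹)⁻¹ by group, k, inv_inv,
              show F.f (1, e5) * (F.z * F.z'⁻¹) * (F.f (1, e5))⁻¹ =
              (F.f (1, e5) * F.z * (F.f (1, e5))⁻¹) * (F.f (1, e5) * F.z' * (F.f (1, e5))⁻¹)⁻¹ by group, e1, e2, inv_inv]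
      refine F.mem_range_of_conj_z ?_
      rw [show g * F.n * F.z * (g * F.n)⁻¹ = g * (F.n * F.z * F.n⁻¹) * g⁻¹ by group, F.n_inv,
        show F.n * F.z * F.n = F.z' from F.n_z]
      exact this
    · exfalso
      rcases h with h | h
      · exact F.y_ne_conj h
      · refine F.y_ne_conj (g := g * F.a) ?_
        rw [show g * F.a * F.z * (g * F.a)⁻¹ = g * (F.a * F.z * F.a⁻¹) * g⁻¹ by group,
          show F.a * F.z * F.a⁻¹ = F.z⁻¹ by simp only [Frame.a, Frame.z, ← map_inv, ← map_mul]; exact congrArg F.f (by decide),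
          show g * F.z⁻¹ * g⁻¹ = (g * F.z * g⁻¹)⁻¹ by group, h, inv_inv]
    · exfalso
      have hh : ∀ w : G, w = F.z * F.z'⁻¹ → F.f (1, e5) * w * (F.f (1, e5))⁻¹ = F.z * F.z' := by
        rintro _ rfl
        rw [show F.f (1, e5) * (F.z * F.z'⁻¹) * (F.f (1, e5))⁻¹ =
          (F.f (1, e5) * F.z * (F.f (1, e5))⁻¹) * (F.f (1, e5) * F.z' * (F.f (1, e5))⁻¹)⁻¹ by group, e1, e2, inv_inv]
      rcases h with h | h
      · refine F.y_ne_conj (g := F.f (1, e5) * g) ?_
        rw [← hh _ h]; group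
      · refine F.y_ne_conj (g := F.f (1, e5) * (g * F.a)) ?_
        rw [← hh ((g * F.z * g⁻¹)⁻¹) (by rw [h, inv_inv])]
        have ha : F.z⁻¹ = F.a * F.z * F.a⁻¹ := by
          simp only [Frame.a, Frame.z, ← map_inv, ← map_mul]; exact congrArg F.f (by decide)
        rw [show (g * F.z * g⁻¹)⁻¹ = g * F.z⁻¹ * g⁻¹ by group, ha]
        group
  · right
    refine ⟨e6.toMonoidHom.comp π, e6.surjective.comp (QuotientGroup.mk'_surjective Z), fun x => ?_⟩
    show e6 (π x) = 1 ↔ _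
    rw [MulEquiv.map_eq_one_iff, show (π x = 1 ↔ x ∈ Z) from QuotientGroup.eq_one_iff x]
    constructor
    · intro hx
      rcases hZ2 x hx with e | e
      exacts [Or.inl e, Or.inr (congrArg Subtype.val e)]
    · rintro (rfl | e)
      · exact one_mem Z
      · rw [show x = ⟨F.u, huC⟩ from Subtype.ext e]; exact Subgroup.mem_zpowers _

end Cfsg.Agent.Invol.S8Three
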