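import Cfsg.Agent.Lib.Invol.S8Three.TypeU

/-! Finite facts on pairs of permutations of five points, for the wreath product case. -/

set_option autoImplicit false
set_option maxRecDepth 50000
set_option synthInstance.maxSize 1000

namespace Cfsg.Agent.Invol.S8Three

open Equiv

abbrev P55 := P5 × P5

/-- equal parity -/
abbrev Par (p : P55) : Prop := Equiv.Perm.sign p.1 = Equiv.Perm.sign p.2

/-- the parity as a power of `t5` -/
def eps (x : P5) : P5 := if Equiv.Perm.sign x = 1 then 1 else t5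

theorem t5_sign : Equiv.Perm.sign t5 = -1 ∧ t5 * t5 = 1 := by decide

theorem eps_facts (x : P5) : Equiv.Perm.sign (eps x) = Equiv.Perm.sign x ∧ eps x * eps x = 1 ∧
    eps x * t5 = t5 * eps x := by
  rcases Int.units_eq_one_or (Equiv.Perm.sign x) with h | h <;> simp [eps, h, t5_sign]

theorem eps_mul (x y : P5) : eps (x * y) = eps y * eps x := by
  rcases Int.units_eq_one_or (Equiv.Perm.sign x) with h | h <;>
    rcases Int.units_eq_one_or (Equiv.Perm.sign y) with h' | h' <;> simp [eps, h, h', t5_sign]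

theorem eps_even {x : P5} (h : Equiv.Perm.sign x = 1) : eps x = 1 := if_pos h

theorem Par.mul {p q : P55} (hp : Par p) (hq : Par q) : Par (p * q) := by
  show Equiv.Perm.sign (p.1 * q.1) = Equiv.Perm.sign (p.2 * q.2)
  rw [map_mul, map_mul, hp, hq]

theorem Par.inv {p : P55} (hp : Par p) : Par p⁻¹ := by
  show Equiv.Perm.sign p.1⁻¹ = Equiv.Perm.sign p.2⁻¹
  rw [map_inv, map_inv, hp]

theorem Par.swap {p : P55} (hp : Par p) : Par p.swap := hp.symm

theorem par_even {p : P55} (h1 : Equiv.Perm.sign p.1 = 1) (h2 : Equiv.Perm.sign p.2 = 1) : Par p := h1.trans h2.symm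

/-- the four-group commuting with `q5` -/
def f4 : List P5 := [1, q5, r5, q5 * r5]

theorem q5_facts : q5 * q5 = 1 ∧ q5 ≠ 1 ∧ r5 * r5 = 1 ∧ r5 ≠ 1 ∧ r5 ≠ q5 ∧ Equiv.Perm.sign q5 = 1 ∧
    Equiv.Perm.sign r5 = 1 ∧ t5 * q5 = q5 * t5 ∧ r5 * q5 = q5 * r5 ∧ t5 * r5 * t5 * r5 = q5 ∧
    t5 * r5 * t5 = r5 * q5 ∧ (t5 * r5) * q5 = q5 * (t5 * r5) ∧ r5 * t5 * r5 * t5 = q5 ∧
    (∃ k : P5, Equiv.Perm.sign k = 1 ∧ k * q5 * k⁻¹ = r5) := by decide +kernel

theorem conj_t5 : ∀ x : P5, Equiv.Perm.sign x ≠ 1 → x * x = 1 →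
    ∃ k : P5, Equiv.Perm.sign k = 1 ∧ k * t5 * k⁻¹ = x := by decide +kernel

theorem conj_q5 : ∀ x : P5, Equiv.Perm.sign x = 1 → x * x = 1 → x ≠ 1 →
    ∃ k : P5, Equiv.Perm.sign k = 1 ∧ k * q5 * k⁻¹ = x := by decide +kernel

theorem conj_t5_q : ∀ x : P5, x * q5 = q5 * x → Equiv.Perm.sign x ≠ 1 → x * x = 1 →
    ∃ k ∈ ([1, r5] : List P5), k * t5 * k⁻¹ = x := by decide +kernel

theorem cent_q : ∀ x : P5, x * q5 = q5 * x → x ^ 4 = 1 ∧ (Equiv.Perm.sign x = 1 → x ∈ f4) := by decide +kernel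

theorem cent_qr : ∀ x : P5, x * q5 = q5 * x → x * r5 = r5 * x → x ∈ f4 := by decide +kernel

theorem f4_facts : ∀ v ∈ f4, Equiv.Perm.sign v = 1 ∧ v * v = 1 ∧ v * q5 = q5 * v ∧ ∀ w ∈ f4, v * w = w * v := by
  decide +kernel

theorem even_four : ∀ x : P5, Equiv.Perm.sign x = 1 → x ^ 4 = 1 → x * x = 1 := by decide +kernel

theorem norm_f4 : ∀ x : P5, x * t5 = t5 * x → x * q5 * x⁻¹ * q5 = q5 * (x * q5 * x⁻¹) →
    x * r5 * x⁻¹ * q5 = q5 * (x * r5 * x⁻¹) → x * q5 = q5 * x := by decide +kernel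

theorem f5_sign : Equiv.Perm.sign f5 = 1 := by decide +kernel

/-- the elements commuting with `q5` and `t5` -/
def c4 : List P5 := [1, q5, t5, e5]

theorem cent_qt : ∀ x : P5, x * q5 = q5 * x → x * t5 = t5 * x → x ∈ c4 := by decide +kernel

theorem c4_card : ((c4.toFinset ×ˢ c4.toFinset).filter Par).card ≤ 8 ∧ f4.toFinset.card = 4 := by decide +kernel

theorem cq_card : (((Finset.univ.filter fun x : P5 => x * q5 = q5 * x) ×ˢ
    (Finset.univ.filter fun x : P5 => x * q5 = q5 * x)).filter Par).card = 32 := by decide +kernel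

end Cfsg.Agent.Invol.S8Three
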