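import Cfsg.Agent.Lib.Invol.S8Three.SmallK
import Cfsg.Agent.Lib.Invol.S8Three.WreathTab

/-! The wreath product inside the group, in coordinates. -/

set_option autoImplicit false
set_option maxRecDepth 50000
set_option synthInstance.maxSize 1000
set_option linter.unusedSectionVars false
set_option linter.style.haveILetI false

namespace Cfsg.Agent.Invol.S8Three

universe u

open Equiv

variable {G : Type u} [Group G] [Finite G] (F : Frame G)

/-- The hypotheses of the exceptional case. -/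
structure Wr : Prop where
  hK : KA F
  hB : CB F
  tw : F.n * F.a * F.n = F.f (1, q5)

theorem exists_wr (hK : KA F) (hB : CB F) : Wr F := by
  refine ⟨hK, hB, ?_⟩
  rcases F.twist with h | h
  · exfalso
    have ha : F.a = F.n * F.f (1, e5) * F.n := by rw [← h, F.nn]; rfl
    set g := F.n * F.f (1, r5) with hg
    have hgu : g * F.u * g⁻¹ = F.a := by
      rw [ha, hg, show F.n * F.f (1, r5) * F.u * (F.n * F.f (1, r5))⁻¹ =
        F.n * (F.f (1, r5) * F.u * (F.f (1, r5))⁻¹) * F.n⁻¹ by group, F.n_inv]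
      congr 2
      rw [Frame.u, ← map_inv, ← map_mul, ← map_mul]; exact congrArg F.f (by decide)
    have hc : Commute (F.f (1, f5)) F.a := by
      show F.f (1, f5) * F.a = F.a * F.f (1, f5)
      rw [Frame.a, ← map_mul, ← map_mul]; exact congrArg F.f (Prod.ext (by simp) (by simp))
    have h1 := commute_conj (g := g⁻¹) hc
    rw [inv_inv, show g⁻¹ * F.a * g = F.u by rw [← hgu]; group] at h1
    have h2 := no_five_u F hB (by
      rw [show g⁻¹ * F.f (1, f5) * g = g⁻¹ * F.f (1, f5) * g⁻¹⁻¹ by group, conj_pow, ← map_pow,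
        show ((1, f5) : P35) ^ 5 = 1 from Prod.ext (one_pow 5) f5_facts.1, map_one, mul_one, mul_inv_cancel]) h1.eq
    rw [show g⁻¹ * F.f (1, f5) * g = g⁻¹ * F.f (1, f5) * g⁻¹⁻¹ by group] at h2
    exact f5_facts.2 (congrArg Prod.snd (F.inj ((conj_one h2).trans F.f.map_one.symm)))
  · rw [show q5 = e5 * t5 by decide]; exact h

namespace Wr

variable {F} (W : Wr F)
include W

/-- The coordinates. -/
def phi (_W : Wr F) (p : P55) : G := F.f (1, p.1) * F.f' (1, eps p.1 * p.2)

theorem phi_fst {x : P5} (h : Equiv.Perm.sign x = 1) : W.phi (x, 1) = F.f (1, x) := by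
  rw [phi, eps_even h, one_mul, show ((1 : P3), (1 : P5)) = (1 : P35) from rfl, map_one, mul_one]

theorem phi_snd (y : P5) : W.phi (1, y) = F.f' (1, y) := by
  rw [phi, eps_even (map_one _), one_mul, show ((1 : P3), (1 : P5)) = (1 : P35) from rfl, map_one, one_mul]

theorem phi_eps (x : P5) : W.phi (x, eps x) = F.f (1, x) := by
  show F.f (1, x) * F.f' (1, eps x * eps x) = _
  rw [(eps_facts x).2.1, show ((1 : P3), (1 : P5)) = (1 : P35) from rfl, map_one, mul_one]

theorem phi_u : W.phi (t5, t5) = F.u := by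
  have : eps t5 = t5 := by decide
  have h := W.phi_eps t5
  rw [this] at h
  exact h

theorem phi_one : W.phi 1 = 1 := by
  show W.phi ((1 : P5), 1) = 1
  rw [W.phi_snd]; exact map_one F.f'

theorem swap_past {x e : P5} (he : Equiv.Perm.sign e = 1) :
    F.f' (1, e) * F.f (1, x) = F.f (1, x) * F.f' (1, eps x * e * eps x) := by
  rcases Int.units_eq_one_or (Equiv.Perm.sign x) with h | h
  · rw [eps_even h, one_mul, mul_one]; exact (KA_comm F W.hK x h e he).symm.eq
  · rw [show eps x = t5 by simp [eps, h]]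
    have hx : Equiv.Perm.sign (x * t5) = 1 := by rw [map_mul, h, t5_sign.1]; decide
    have e1 : F.f (1, x) = F.f (1, x * t5) * F.u := by
      rw [Frame.u, ← map_mul]; exact congrArg F.f (Prod.ext (by simp) (by simp [mul_assoc, t5_sign.2]))
    rw [e1, ← mul_assoc, ← (KA_comm F W.hK _ hx e he).eq, ← F.f'_t, mul_assoc, mul_assoc]
    congr 1
    rw [← map_mul, ← map_mul]
    refine congrArg F.f' (Prod.ext (by simp) ?_)
    show e * t5 = t5 * (t5 * e * t5)
    rw [show t5 * (t5 * e * t5) = t5 * t5 * (e * t5) by group, t5_sign.2, one_mul]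

theorem eps_sign {p : P55} (hp : Par p) : Equiv.Perm.sign (eps p.1 * p.2) = 1 := by
  rw [map_mul, (eps_facts p.1).1, hp]; exact Int.units_mul_self _

theorem phi_mul {p : P55} (hp : Par p) (q : P55) : W.phi (p * q) = W.phi p * W.phi q := by
  obtain ⟨x, y⟩ := p
  obtain ⟨x', y'⟩ := q
  show F.f (1, x * x') * F.f' (1, eps (x * x') * (y * y')) =
    F.f (1, x) * F.f' (1, eps x * y) * (F.f (1, x') * F.f' (1, eps x' * y'))
  have hsw : F.f' (1, eps x * y) * F.f (1, x') = F.f (1, x') * F.f' (1, eps x' * (eps x * y) * eps x') :=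
    W.swap_past (W.eps_sign hp)
  rw [show F.f (1, x) * F.f' (1, eps x * y) * (F.f (1, x') * F.f' (1, eps x' * y')) =
      F.f (1, x) * (F.f' (1, eps x * y) * F.f (1, x')) * F.f' (1, eps x' * y') by group, hsw,
    show ∀ a b c d : G, a * (b * c) * d = (a * b) * (c * d) from fun a b c d => by group, ← map_mul, ← map_mul]
  refine congrArg₂ (· * ·) (congrArg F.f (Prod.ext (by simp) rfl)) (congrArg F.f' (Prod.ext (by simp) ?_))
  show eps (x * x') * (y * y') = eps x' * (eps x * y) * eps x' * (eps x' * y')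
  rw [eps_mul, show eps x' * (eps x * y) * eps x' * (eps x' * y') = eps x' * eps x * y * (eps x' * eps x') * y' by group,
    (eps_facts x').2.1]
  group

theorem phi_inv {p : P55} (hp : Par p) : W.phi p⁻¹ = (W.phi p)⁻¹ :=
  eq_inv_of_mul_eq_one_left (by rw [← W.phi_mul hp.inv, inv_mul_cancel, W.phi_one])

theorem phi_inj_one {p : P55} (hp : Par p) (h : W.phi p = 1) : p = 1 := by
  obtain ⟨x, y⟩ := p
  have hx : x = 1 := a5_central x fun w hw => by
    have hs : Equiv.Perm.sign w = 1 := by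
      simp only [List.mem_cons, List.not_mem_nil, or_false] at hw
      rcases hw with rfl | rfl <;> decide
    have hc := KA_comm F W.hK w hs _ (W.eps_sign hp)
    have hf : F.f (1, x) = (F.f' (1, eps x * y))⁻¹ := eq_inv_of_mul_eq_one_left h
    have h1 : F.f ((1, x) * (1, w)) = F.f ((1, w) * (1, x)) := by
      rw [map_mul, map_mul, hf]; exact hc.inv_right.symm.eq
    exact congrArg Prod.snd (F.inj h1)
  subst hx
  rw [W.phi_snd] at h
  exact Prod.ext rfl (congrArg (Prod.snd (α := P3)) (F.inj' (h.trans F.f'.map_one.symm)))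

theorem phi_inj {p q : P55} (hp : Par p) (hq : Par q) (h : W.phi p = W.phi q) : p = q := by
  have := W.phi_inj_one (hq.inv.mul hp) (by rw [W.phi_mul hq.inv, W.phi_inv hq, h, inv_mul_cancel])
  exact (inv_mul_eq_one.1 this).symm

theorem phi_comm {p q : P55} (hp : Par p) (hq : Par q) : W.phi p * W.phi q = W.phi q * W.phi p ↔ p * q = q * p := by
  rw [← W.phi_mul hp, ← W.phi_mul hq]
  exact ⟨fun h => W.phi_inj (hp.mul hq) (hq.mul hp) h, fun h => by rw [h]⟩

theorem phi_conj {p q : P55} (hp : Par p) (hq : Par q) : W.phi p * W.phi q * (W.phi p)⁻¹ = W.phi (p * q * p⁻¹) := by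
  rw [W.phi_mul (hp.mul hq), W.phi_mul hp, W.phi_inv hp]

theorem phi_pow {p : P55} (hp : Par p) (k : ℕ) : W.phi p ^ k = W.phi (p ^ k) := by
  induction k with
  | zero => rw [pow_zero, pow_zero, W.phi_one]
  | succ k ih => rw [pow_succ', pow_succ', W.phi_mul hp, ih]

/-- conjugation by the swapping involution -/
theorem n_phi {p : P55} (hp : Par p) : F.n * W.phi p * F.n = W.phi p.swap := by
  obtain ⟨x, y⟩ := p
  have he : Equiv.Perm.sign (eps x * y) = 1 := W.eps_sign hp
  have hx : Equiv.Perm.sign (eps x * x) = 1 := by rw [map_mul, (eps_facts x).1]; exact Int.units_mul_self _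
  have hxy : eps y = eps x := by simp only [eps]; rw [show Equiv.Perm.sign y = Equiv.Perm.sign x from hp.symm]
  show F.n * (F.f (1, x) * F.f' (1, eps x * y)) * F.n = F.f (1, y) * F.f' (1, eps y * x)
  rw [show F.n * (F.f (1, x) * F.f' (1, eps x * y)) * F.n =
      F.n * F.f (1, x) * (F.n * F.n) * F.f' (1, eps x * y) * F.n by rw [F.n_sq]; group,
    show F.n * F.f (1, x) * (F.n * F.n) * F.f' (1, eps x * y) * F.n =
      (F.n * F.f (1, x) * F.n) * (F.n * F.f' (1, eps x * y) * F.n) by group,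
    F.n_f', ← F.f'_apply, hxy]
  have e1 : F.f' (1, x) = F.f (1, eps x) * F.f' (1, eps x * x) := by
    rw [show F.f (1, eps x) = F.f' (1, eps x) by
      rcases Int.units_eq_one_or (Equiv.Perm.sign x) with h | h
      · rw [eps_even h]; exact (map_one F.f).trans (map_one F.f').symm
      · rw [show eps x = t5 by simp [eps, h]]; exact F.f'_t.symm, ← map_mul]
    exact congrArg F.f' (Prod.ext (by simp) (by simp [← mul_assoc, (eps_facts x).2.1]))
  have e2 : F.f (1, y) = F.f (1, eps x) * F.f (1, eps x * y) := by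
    rw [← map_mul]; exact congrArg F.f (Prod.ext (by simp) (by simp [← mul_assoc, (eps_facts x).2.1]))
  rw [e1, e2, mul_assoc, mul_assoc]
  exact congrArg (F.f (1, eps x) * ·) (KA_comm F W.hK _ he _ hx).symm.eq

/-- `L⟨u⟩` -/
def G1 : Subgroup G where
  carrier := {g | ∃ p, Par p ∧ W.phi p = g}
  one_mem' := ⟨1, rfl, W.phi_one⟩
  mul_mem' := by rintro _ _ ⟨p, hp, rfl⟩ ⟨q, hq, rfl⟩; exact ⟨p * q, hp.mul hq, W.phi_mul hp q⟩
  inv_mem' := by rintro _ ⟨p, hp, rfl⟩; exact ⟨p⁻¹, hp.inv, W.phi_inv hp⟩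

theorem mem_G1 {g : G} : g ∈ W.G1 ↔ ∃ p, Par p ∧ W.phi p = g := Iff.rfl

theorem n_G1 {g : G} (h : g ∈ W.G1) : F.n * g * F.n ∈ W.G1 := by
  obtain ⟨p, hp, rfl⟩ := h
  exact ⟨p.swap, hp.swap, (W.n_phi hp).symm⟩

/-- The wreath product. -/
def G0 : Subgroup G where
  carrier := {g | g ∈ W.G1 ∨ g * F.n ∈ W.G1}
  one_mem' := Or.inl (one_mem _)
  mul_mem' := by
    rintro g h (hg | hg) (hh | hh)
    · exact Or.inl (mul_mem hg hh)
    · exact Or.inr (mul_assoc g h F.n ▸ mul_mem hg hh)
    · refine Or.inr ?_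
      have := mul_mem hg (W.n_G1 hh)
      rwa [show g * F.n * (F.n * h * F.n) = g * (F.n * F.n) * h * F.n by group, F.n_sq, mul_one] at this
    · refine Or.inl ?_
      have := mul_mem hg (W.n_G1 hh)
      rwa [show g * F.n * (F.n * (h * F.n) * F.n) = g * (F.n * F.n) * h * (F.n * F.n) by group, F.n_sq, mul_one,
        mul_one] at this
  inv_mem' := by
    rintro g (hg | hg)
    · exact Or.inl (inv_mem hg)
    · refine Or.inr ?_
      have := W.n_G1 (inv_mem hg)
      rwa [mul_inv_rev, F.n_inv, show F.n * (F.n * g⁻¹) * F.n = (F.n * F.n) * g⁻¹ * F.n by group, F.n_sq,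
        one_mul] at this

theorem G1_le : W.G1 ≤ W.G0 := fun _ h => Or.inl h

theorem n_mem : F.n ∈ W.G0 := Or.inr (F.n_sq.symm ▸ one_mem _)

theorem phi_mem {p : P55} (hp : Par p) : W.phi p ∈ W.G0 := W.G1_le ⟨p, hp, rfl⟩

/-- the basic involutions: `t`, its twin and their product -/
def t (_W : Wr F) : G := F.f (1, q5)

theorem phi_t : W.phi (q5, 1) = W.t := W.phi_fst q5_facts.2.2.2.2.2.1

theorem par_t : Par ((q5, 1) : P55) := par_even q5_facts.2.2.2.2.2.1 (map_one _)

theorem par_u : Par ((t5, t5) : P55) := rfl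

theorem phi_a : W.phi (1, q5) = F.a := by
  rw [W.phi_snd, F.f'_apply, ← W.tw, F.nn]

theorem par_a : Par ((1, q5) : P55) := par_even (map_one _) q5_facts.2.2.2.2.2.1

theorem n_t : F.n * W.t * F.n = F.a := by rw [t, ← W.tw, F.nn]

theorem par_fst {x : P5} (h : Equiv.Perm.sign x = 1) : Par ((x, 1) : P55) := par_even h (map_one _)

theorem par_snd {x : P5} (h : Equiv.Perm.sign x = 1) : Par ((1, x) : P55) := par_even (map_one _) h

theorem decomp {g : G} (h : g ∈ W.G0) : ∃ p, Par p ∧ (W.phi p = g ∨ W.phi p * F.n = g) := by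
  rcases h with ⟨p, hp, e⟩ | ⟨p, hp, e⟩
  · exact ⟨p, hp, Or.inl e⟩
  · exact ⟨p, hp, Or.inr (by rw [e, mul_assoc, F.n_sq, mul_one])⟩

/-- Elements of the wreath product commuting with `t`. -/
theorem G0_comm_t {g : G} (h : g ∈ W.G0) (hc : g * W.t = W.t * g) :
    ∃ p, Par p ∧ W.phi p = g ∧ p.1 * q5 = q5 * p.1 := by
  obtain ⟨p, hp, e | e⟩ := W.decomp h
  · refine ⟨p, hp, e, ?_⟩
    rw [← e, ← W.phi_t] at hc
    exact congrArg Prod.fst ((W.phi_comm hp W.par_t).1 hc)
  · exfalso
    have hnt : F.n * W.t = F.a * F.n := by rw [← W.n_t, mul_assoc, F.n_sq, mul_one]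
    rw [← e, mul_assoc, hnt, ← mul_assoc, ← mul_assoc, mul_left_inj, ← W.phi_a, ← W.phi_t, ← W.phi_mul hp,
      ← W.phi_mul W.par_t] at hc
    have := congrArg Prod.fst (W.phi_inj (hp.mul W.par_a) (W.par_t.mul hp) hc)
    exact q5_facts.2.1 (mul_right_cancel (show q5 * p.1 = 1 * p.1 by rw [one_mul]; exact (this.symm.trans (mul_one _))))

/-- The centraliser of the four-group containing `t`. -/
theorem centF {g : G} (ht : g * W.t = W.t * g) (hr : g * F.f (1, r5) = F.f (1, r5) * g) : g ∈ W.G0 := by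
  obtain ⟨v, -, e, he, hp⟩ := W.hK.2 _ (of_centF F ht hr)
  have hg : g = F.f (1, g5) * (F.f (1, v) * F.f' (1, e)) * (F.f (1, g5))⁻¹ := by rw [← hp]; group
  rw [hg, ← W.phi_eps g5, ← W.phi_eps v, ← W.phi_snd e]
  have h1 : ∀ x : P5, Par (x, eps x) := fun x => (eps_facts x).1.symm
  exact mul_mem (mul_mem (W.phi_mem (h1 _)) (mul_mem (W.phi_mem (h1 _)) (W.phi_mem (W.par_snd he))))
    (inv_mem (W.phi_mem (h1 _)))

/-- The centraliser of the twin four-group. -/
theorem centF' {g : G} (ha : g * F.a = F.a * g) (hr : g * W.phi (1, r5) = W.phi (1, r5) * g) : g ∈ W.G0 := by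
  have h1 := F.n_conj_comm ha
  have h2 := F.n_conj_comm hr
  rw [← W.n_t, F.nn] at h1
  rw [W.n_phi (W.par_snd q5_facts.2.2.2.2.2.2.1), show ((1 : P5), r5).swap = (r5, 1) from rfl,
    W.phi_fst q5_facts.2.2.2.2.2.2.1] at h2
  have := mul_mem (mul_mem W.n_mem (W.centF h1 h2)) W.n_mem
  rwa [F.nn] at this

theorem range_le {g : G} (h : g ∈ F.f.range) : g ∈ W.G0 := by
  obtain ⟨⟨s, x⟩, rfl⟩ := h
  have hz : F.f (c3, 1) ∈ W.G0 := by
    rw [show F.f (c3, 1) = W.phi (1, d5) from (W.phi_snd d5 ▸ F.f'_d).symm]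
    exact W.phi_mem (W.par_snd (by decide))
  have ha : F.f (a3, 1) ∈ W.G0 := by
    rw [show F.f (a3, 1) = W.phi (1, q5) from W.phi_a.symm]
    exact W.phi_mem W.par_a
  have hs : F.f (s, 1) ∈ W.G0 := by
    have hm : ∀ p q : P35, F.f p ∈ W.G0 → F.f q ∈ W.G0 → F.f (p * q) ∈ W.G0 := fun p q hp hq => by
      rw [map_mul]; exact mul_mem hp hq
    have hi : F.f ((c3, 1)⁻¹ : P35) ∈ W.G0 := by rw [map_inv]; exact inv_mem hz
    have hi' : F.f (c3⁻¹, 1) ∈ W.G0 := by
      rwa [show ((c3⁻¹, 1) : P35) = (c3, 1)⁻¹ from Prod.ext rfl (by simp)]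
    rcases p3_rot s with r | r | r | r | r | r <;> subst r
    · exact (map_one F.f : F.f ((1 : P3), (1 : P5)) = 1) ▸ one_mem _
    · exact hz
    · exact hi'
    · exact ha
    · simpa using hm _ _ ha hz
    · simpa using hm _ _ ha hi'
  have hx : F.f (1, x) ∈ W.G0 := by
    rw [← W.phi_eps x]; exact W.phi_mem (eps_facts x).1.symm
  have := mul_mem hs hx
  rwa [← map_mul, show ((s, 1) : P35) * (1, x) = (s, x) from Prod.ext (by simp) (by simp)] at this

theorem cent_u {g : G} (h : g * F.u = F.u * g) : g ∈ W.G0 := by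
  rcases W.hB g h with r | r
  · exact W.range_le r
  · have := mul_mem (W.range_le r) W.n_mem
    rwa [mul_assoc, F.n_sq, mul_one] at this

end Wr

end Cfsg.Agent.Invol.S8Three
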