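import Cfsg.Agent.Lib.Invol.S8Three.WreathPhi

/-! The centraliser of an involution of one factor. -/

set_option autoImplicit false
set_option maxRecDepth 50000
set_option synthInstance.maxSize 1000
set_option linter.unusedSectionVars false
set_option linter.style.haveILetI false

namespace Cfsg.Agent.Invol.S8Three

universe u

open Equiv

namespace Wr

variable {G : Type u} [Group G] [Finite G] {F : Frame G} (W : Wr F)
include W

theorem par_r : Par ((r5, 1) : P55) := W.par_fst q5_facts.2.2.2.2.2.2.1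

theorem par_r' : Par ((1, r5) : P55) := W.par_snd q5_facts.2.2.2.2.2.2.1

theorem phi_r : W.phi (r5, 1) = F.f (1, r5) := W.phi_fst q5_facts.2.2.2.2.2.2.1

theorem u_t : F.u * W.t = W.t * F.u := by
  rw [← W.phi_u, ← W.phi_t, W.phi_comm W.par_u W.par_t]
  exact Prod.ext q5_facts.2.2.2.2.2.2.2.1 (by simp)

theorem u_a : F.u * F.a = F.a * F.u := by
  rw [← W.phi_u, ← W.phi_a, W.phi_comm W.par_u W.par_a]
  exact Prod.ext (by simp) q5_facts.2.2.2.2.2.2.2.1

theorem not_u_t (h : G) : h * F.u * h⁻¹ ≠ W.t := by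
  intro he
  have hc : Commute (W.phi (1, f5)) W.t := by
    show W.phi (1, f5) * W.t = W.t * W.phi (1, f5)
    rw [← W.phi_t, W.phi_comm (W.par_snd f5_sign) W.par_t]
    exact Prod.ext (by simp) (by simp)
  have h1 := commute_conj (g := h⁻¹) hc
  rw [inv_inv, show h⁻¹ * W.t * h = F.u by rw [← he]; group] at h1
  have h5 : (h⁻¹ * W.phi (1, f5) * h) ^ 5 = 1 := by
    rw [show h⁻¹ * W.phi (1, f5) * h = h⁻¹ * W.phi (1, f5) * h⁻¹⁻¹ by group, conj_pow, W.phi_pow (W.par_snd f5_sign),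
      show ((1, f5) : P55) ^ 5 = 1 from Prod.ext (one_pow 5) f5_facts.1, W.phi_one, mul_one, mul_inv_cancel]
  have h2 := no_five_u F W.hB h5 h1.eq
  rw [show h⁻¹ * W.phi (1, f5) * h = h⁻¹ * W.phi (1, f5) * h⁻¹⁻¹ by group] at h2
  exact f5_facts.2 (congrArg Prod.snd (W.phi_inj_one (W.par_snd f5_sign) (conj_one h2)))

/-- The common centraliser of the two basic involutions inside `L⟨u⟩`. -/
def T32 : Subgroup G := W.G1 ⊓ Subgroup.centralizer ({W.t, F.a} : Set G)

theorem mem_T32 {g : G} : g ∈ W.T32 ↔ g ∈ W.G1 ∧ g * W.t = W.t * g ∧ g * F.a = F.a * g := by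
  rw [T32, Subgroup.mem_inf, Subgroup.mem_centralizer_iff]
  simp only [Set.mem_insert_iff, Set.mem_singleton_iff, forall_eq_or_imp, forall_eq]
  exact ⟨fun h => ⟨h.1, h.2.1.symm, h.2.2.symm⟩, fun h => ⟨h.1, h.2.1.symm, h.2.2.symm⟩⟩

theorem phi_T32 {p : P55} (hp : Par p) :
    W.phi p ∈ W.T32 ↔ p.1 * q5 = q5 * p.1 ∧ p.2 * q5 = q5 * p.2 := by
  rw [W.mem_T32, ← W.phi_t, ← W.phi_a, W.phi_comm hp W.par_t, W.phi_comm hp W.par_a]
  constructor
  · rintro ⟨-, h1, h2⟩
    exact ⟨congrArg Prod.fst h1, congrArg Prod.snd h2⟩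
  · rintro ⟨h1, h2⟩
    exact ⟨⟨p, hp, rfl⟩, Prod.ext h1 (by simp), Prod.ext (by simp) h2⟩

theorem T32_cases {g : G} (h : g ∈ W.T32) :
    ∃ p, Par p ∧ W.phi p = g ∧ p.1 * q5 = q5 * p.1 ∧ p.2 * q5 = q5 * p.2 := by
  obtain ⟨p, hp, rfl⟩ := W.mem_G1.1 (W.mem_T32.1 h).1
  exact ⟨p, hp, rfl, (W.phi_T32 hp).1 h⟩

theorem card_T32 : Nat.card W.T32 = 32 := by
  classical
  let S : Finset P55 := (((Finset.univ.filter fun x : P5 => x * q5 = q5 * x) ×ˢ
    (Finset.univ.filter fun x : P5 => x * q5 = q5 * x)).filter Par)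
  have hS : ∀ p, p ∈ S ↔ Par p ∧ p.1 * q5 = q5 * p.1 ∧ p.2 * q5 = q5 * p.2 := fun p => by
    simp only [S, Finset.mem_filter, Finset.mem_product, Finset.mem_univ, true_and]; tauto
  let e : S → W.T32 := fun p => ⟨W.phi p.1, (W.phi_T32 ((hS _).1 p.2).1).2 ((hS _).1 p.2).2⟩
  have he : Function.Bijective e := by
    refine ⟨fun p q h => Subtype.ext (W.phi_inj ((hS _).1 p.2).1 ((hS _).1 q.2).1 (congrArg Subtype.val h)), fun g => ?_⟩
    obtain ⟨p, hp, hpg, hq⟩ := W.T32_cases g.2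
    exact ⟨⟨p, (hS _).2 ⟨hp, hq⟩⟩, Subtype.ext hpg⟩
  rw [← Nat.card_congr (Equiv.ofBijective e he), Nat.card_eq_finsetCard]
  exact cq_card

set_option maxHeartbeats 1000000 in
/-- It is its own normaliser in the centraliser of `t`. -/
theorem norm_T32 {w : G} (hw : w * W.t = W.t * w) (hn : ∀ x ∈ W.T32, w * x * w⁻¹ ∈ W.T32)
    (hn' : ∀ x ∈ W.T32, w⁻¹ * x * w ∈ W.T32) : w ∈ W.T32 := by
  classical
  have huT : F.u ∈ W.T32 := by
    rw [← W.phi_u, W.phi_T32 W.par_u]
    exact ⟨q5_facts.2.2.2.2.2.2.2.1, q5_facts.2.2.2.2.2.2.2.1⟩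
  obtain ⟨p, hp, hpe, hp1, hp2⟩ := W.T32_cases (hn _ huT)
  have hpp : p * p = 1 := W.phi_inj_one (hp.mul hp) (by
    rw [W.phi_mul hp, hpe, show w * F.u * w⁻¹ * (w * F.u * w⁻¹) = w * (F.u * F.u) * w⁻¹ by group, F.u_facts.1]; group)
  have hq1 : p.1 * p.1 = 1 := congrArg Prod.fst hpp
  have hq2 : p.2 * p.2 = 1 := congrArg Prod.snd hpp
  have hodd : Equiv.Perm.sign p.1 ≠ 1 := by
    intro hev
    have hm1 := (cent_q p.1 hp1).2 hev
    have hm2 := (cent_q p.2 hp2).2 ((Eq.symm hp).trans hev)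
    let A : Finset P55 := f4.toFinset ×ˢ f4.toFinset
    let B : Finset G := ((c4.toFinset ×ˢ c4.toFinset).filter Par).image W.phi
    have hpar : ∀ e ∈ A, Par e := fun e he => by
      simp only [A, Finset.mem_product, List.mem_toFinset] at he
      exact par_even (f4_facts _ he.1).1 (f4_facts _ he.2).1
    have hcard : A.card ≤ B.card := by
      refine Finset.card_le_card_of_injOn (fun e => w⁻¹ * W.phi e * w) (fun e he => ?_) fun e he e' he' h => ?_
      · have hpe' := hpar e he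
        have he' : e.1 ∈ f4 ∧ e.2 ∈ f4 := by simpa [A] using he
        obtain ⟨c, hc, hce, hc1, hc2⟩ := W.T32_cases (hn' _ ((W.phi_T32 hpe').2
          ⟨(f4_facts _ he'.1).2.2.1, (f4_facts _ he'.2).2.2.1⟩))
        have hcu : Commute (W.phi c) F.u := by
          have h1 : Commute (W.phi e) (W.phi p) := (W.phi_comm hpe' hp).2
            (Prod.ext ((f4_facts _ he'.1).2.2.2 _ hm1) ((f4_facts _ he'.2).2.2.2 _ hm2))
          have h2 := commute_conj (g := w⁻¹) h1
          rw [inv_inv, hpe, ← hce, show w⁻¹ * (w * F.u * w⁻¹) * w = F.u by group] at h2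
          exact h2
        rw [← W.phi_u] at hcu
        have hc' := (W.phi_comm hc W.par_u).1 hcu.eq
        refine Finset.mem_image.2 ⟨c, ?_, hce⟩
        simp only [Finset.mem_filter, Finset.mem_product, List.mem_toFinset]
        exact ⟨⟨cent_qt _ hc1 (congrArg Prod.fst hc'), cent_qt _ hc2 (congrArg Prod.snd hc')⟩, hc⟩
      · exact W.phi_inj (hpar e he) (hpar e' he') (mul_left_cancel (mul_right_cancel h))
    have h8 : B.card ≤ 8 := Finset.card_image_le.trans c4_card.1
    have h16 : A.card = 16 := by rw [Finset.card_product, c4_card.2]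
    omega
  obtain ⟨k1, hk1, e1⟩ := conj_t5_q _ hp1 hodd hq1
  obtain ⟨k2, hk2, e2⟩ := conj_t5_q _ hp2 (fun h => hodd (hp.trans h)) hq2
  have hkf : ∀ k ∈ ([1, r5] : List P5), k ∈ f4 := by decide +kernel
  set k : P55 := (k1, k2) with hk
  have hkp : Par k := par_even (f4_facts _ (hkf _ hk1)).1 (f4_facts _ (hkf _ hk2)).1
  have hkT : W.phi k ∈ W.T32 :=
    (W.phi_T32 hkp).2 ⟨(f4_facts _ (hkf _ hk1)).2.2.1, (f4_facts _ (hkf _ hk2)).2.2.1⟩
  set v := (W.phi k)⁻¹ * w with hv
  suffices hvT : v ∈ W.T32 by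
    have := mul_mem hkT hvT
    rwa [hv, mul_inv_cancel_left] at this
  have hvu : v * F.u = F.u * v := by
    refine mul_inv_eq_iff_eq_mul.1 ?_
    rw [hv, show (W.phi k)⁻¹ * w * F.u * ((W.phi k)⁻¹ * w)⁻¹ = (W.phi k)⁻¹ * (w * F.u * w⁻¹) * W.phi k by group, ← hpe,
      show p = k * (t5, t5) * k⁻¹ from Prod.ext e1.symm e2.symm, ← W.phi_conj hkp W.par_u, W.phi_u]
    group
  have hvt : v * W.t = W.t * v := ((show Commute (W.phi k) W.t from (W.mem_T32.1 hkT).2.1).inv_left.mul_left hw).eq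
  have hvn : ∀ x ∈ W.T32, v * x * v⁻¹ ∈ W.T32 := fun x hx => by
    rw [hv, show (W.phi k)⁻¹ * w * x * ((W.phi k)⁻¹ * w)⁻¹ = (W.phi k)⁻¹ * (w * x * w⁻¹) * W.phi k by group]
    exact mul_mem (mul_mem (inv_mem hkT) (hn x hx)) hkT
  obtain ⟨c, hc, hce, hc1⟩ := W.G0_comm_t (W.cent_u hvu) hvt
  rw [← hce, ← W.phi_u, W.phi_comm hc W.par_u] at hvu
  have key : ∀ y ∈ f4, c.2 * y * c.2⁻¹ * q5 = q5 * (c.2 * y * c.2⁻¹) := by
    intro y hy
    have hyp : Par ((1, y) : P55) := W.par_snd (f4_facts _ hy).1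
    have hm := hvn _ ((W.phi_T32 hyp).2 ⟨by simp, (f4_facts _ hy).2.2.1⟩)
    rw [← hce, W.phi_conj hc hyp, W.phi_T32 ((hc.mul hyp).mul hc.inv)] at hm
    exact hm.2
  rw [← hce, W.phi_T32 hc]
  exact ⟨hc1, norm_f4 _ (congrArg Prod.snd hvu) (key q5 (by simp [f4])) (key r5 (by simp [f4]))⟩

/-- The centraliser of `t` has no subgroup of order 64. -/
theorem no_64 (H : Subgroup G) (hH : ∀ x ∈ H, x * W.t = W.t * x) : Nat.card H ≠ 64 := by
  intro h64
  haveI := Fact.mk Nat.prime_two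
  set C := Subgroup.centralizer ({W.t} : Set G) with hC
  have hTC : W.T32 ≤ C := fun x hx => Subgroup.mem_centralizer_singleton_iff.2 (W.mem_T32.1 hx).2.1
  have hHC : H ≤ C := fun x hx => Subgroup.mem_centralizer_singleton_iff.2 (hH x hx)
  have h1 : Nat.card (W.T32.subgroupOf C) = 2 ^ 5 := by
    rw [Nat.card_congr (Subgroup.subgroupOfEquivOfLe hTC).toEquiv, W.card_T32]; rfl
  have h2 : 2 ^ (5 + 1) ∣ Nat.card C := by
    rw [show (2 : ℕ) ^ (5 + 1) = 64 by norm_num, ← h64]
    exact Subgroup.card_dvd_of_le hHC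
  obtain ⟨K, hK, hle⟩ := Sylow.exists_subgroup_card_pow_succ h2 h1
  haveI hN : ((W.T32.subgroupOf C).subgroupOf K).Normal := by
    refine Subgroup.normal_of_index_eq_two ?_
    have h3 := Subgroup.card_mul_index ((W.T32.subgroupOf C).subgroupOf K)
    rw [Nat.card_congr (Subgroup.subgroupOfEquivOfLe hle).toEquiv, h1, hK] at h3
    norm_num at h3
    omega
  have hall : K ≤ W.T32.subgroupOf C := fun g hg => by
    rw [Subgroup.mem_subgroupOf]
    have conj : ∀ (g : C), g ∈ K → ∀ x ∈ W.T32, (g : G) * x * (g : G)⁻¹ ∈ W.T32 := fun g hg x hx =>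
      hN.conj_mem ⟨⟨x, hTC hx⟩, hle hx⟩ hx ⟨g, hg⟩
    exact W.norm_T32 (Subgroup.mem_centralizer_singleton_iff.1 g.2) (conj g hg) fun x hx => by
      simpa using conj g⁻¹ (inv_mem hg) x hx
  have := Subgroup.card_le_of_le hall
  rw [hK, h1] at this
  norm_num at this

/-- The second class. -/
theorem not_s_t (h : G) : h * W.phi (q5, q5) * h⁻¹ ≠ W.t := by
  intro he
  let S : Subgroup G :=
    { carrier := {g | g ∈ W.T32 ∨ g * F.n ∈ W.T32}
      one_mem' := Or.inl (one_mem _)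
      mul_mem' := ?_
      inv_mem' := ?_ }
  rotate_left
  · have hnT : ∀ x ∈ W.T32, F.n * x * F.n ∈ W.T32 := fun x hx => by
      obtain ⟨p, hp, rfl, hp1, hp2⟩ := W.T32_cases hx
      rw [W.n_phi hp, W.phi_T32 hp.swap]; exact ⟨hp2, hp1⟩
    rintro g h (hg | hg) (hh | hh)
    · exact Or.inl (mul_mem hg hh)
    · exact Or.inr (mul_assoc g h F.n ▸ mul_mem hg hh)
    · refine Or.inr ?_
      have := mul_mem hg (hnT _ hh)
      rwa [show g * F.n * (F.n * h * F.n) = g * (F.n * F.n) * h * F.n by group, F.n_sq, mul_one] at this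
    · refine Or.inl ?_
      have := mul_mem hg (hnT _ hh)
      rwa [show g * F.n * (F.n * (h * F.n) * F.n) = g * (F.n * F.n) * h * (F.n * F.n) by group, F.n_sq, mul_one,
        mul_one] at this
  · rintro g (hg | hg)
    · exact Or.inl (inv_mem hg)
    · refine Or.inr ?_
      obtain ⟨p, hp, hpe, hp1, hp2⟩ := W.T32_cases (inv_mem hg)
      have := (W.phi_T32 hp.swap).2 ⟨hp2, hp1⟩
      rwa [← W.n_phi hp, hpe, mul_inv_rev, F.n_inv,
        show F.n * (F.n * g⁻¹) * F.n = (F.n * F.n) * g⁻¹ * F.n by group, F.n_sq, one_mul] at this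
  have hS : W.T32 ≤ S := fun x hx => Or.inl hx
  have hn1 : F.n ∉ W.T32 := fun h => by
    have h1 := (W.mem_T32.1 h).2.1
    have h2 : F.a = W.t := by rw [← W.n_t, h1, mul_assoc, F.n_sq, mul_one]
    rw [← W.phi_a, ← W.phi_t] at h2
    exact q5_facts.2.1 (congrArg Prod.snd (W.phi_inj W.par_a W.par_t h2))
  have hnS : F.n ∈ S := Or.inr (F.n_sq.symm ▸ one_mem _)
  have hindex : (W.T32.subgroupOf S).index = 2 := by
    rw [Subgroup.index_eq_two_iff]
    refine ⟨⟨F.n, hnS⟩, fun b => ?_⟩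
    simp only [Subgroup.mem_subgroupOf, Subgroup.coe_mul]
    rcases b.2 with hb | hb
    · refine Or.inr ⟨hb, fun h => hn1 ?_⟩
      have := mul_mem (inv_mem hb) h
      rwa [inv_mul_cancel_left] at this
    · refine Or.inl ⟨hb, fun h => hn1 ?_⟩
      have := mul_mem (inv_mem h) hb
      rwa [inv_mul_cancel_left] at this
  have hSc : Nat.card S = 64 := by
    rw [← Subgroup.card_mul_index (W.T32.subgroupOf S), Nat.card_congr (Subgroup.subgroupOfEquivOfLe hS).toEquiv,
      W.card_T32, hindex]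
  refine W.no_64 (S.map (MulAut.conj h).toMonoidHom) ?_
    (by rw [Subgroup.card_map_of_injective (MulAut.conj h).injective, hSc])
  rintro _ ⟨x, hx, rfl⟩
  show h * x * h⁻¹ * W.t = W.t * (h * x * h⁻¹)
  rw [← he]
  refine (commute_conj ?_).eq
  have hT : ∀ y ∈ W.T32, Commute y (W.phi (q5, q5)) := fun y hy => by
    rw [show ((q5, q5) : P55) = (q5, 1) * (1, q5) from Prod.ext (by simp) (by simp), W.phi_mul W.par_t, W.phi_t, W.phi_a]
    exact Commute.mul_right (W.mem_T32.1 hy).2.1 (W.mem_T32.1 hy).2.2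
  have hns : Commute F.n (W.phi (q5, q5)) := by
    have e := W.n_phi (show Par ((q5, q5) : P55) from rfl)
    rw [show ((q5, q5) : P55).swap = (q5, q5) from rfl] at e
    show F.n * _ = _ * F.n
    nth_rw 2 [← e]
    rw [mul_assoc, F.n_sq, mul_one]
  rcases hx with hx | hx
  · exact hT x hx
  · have := (hT _ hx).mul_left hns
    rwa [mul_assoc, F.n_sq, mul_one] at this

set_option maxHeartbeats 1000000 in
theorem cent_t {g : G} (hg : g * W.t = W.t * g) : g ∈ W.G0 := by
  obtain ⟨qq, q1, rr, r1, rq, qs, rs, tq, rqc, trtr, trt, trq, -, kk, hks, hk⟩ := q5_facts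
  set q := F.f (1, r5) with hq
  have hqt : q * W.t = W.t * q := by
    rw [← W.phi_t, hq, ← W.phi_r, W.phi_comm W.par_r W.par_t]; exact Prod.ext rqc (by simp)
  set C := Subgroup.centralizer ({W.t} : Set G) with hC
  have hmem : ∀ {x : G}, x ∈ C ↔ x * W.t = W.t * x := Subgroup.mem_centralizer_singleton_iff
  have hqq : q * q = 1 := by
    rw [hq, ← map_mul, show ((1, r5) : P35) * (1, r5) = 1 from Prod.ext (by simp) rr, map_one]
  have hq1 : q ≠ 1 := fun e => r1 (congrArg Prod.snd (F.inj (e.trans F.f.map_one.symm)))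
  have htt : W.t * W.t = 1 := by
    rw [← W.phi_t, ← W.phi_mul W.par_t, show ((q5, 1) : P55) * (q5, 1) = 1 from Prod.ext qq (by simp), W.phi_one]
  have ht1 : W.t ≠ 1 := fun e => q1 (congrArg Prod.fst (W.phi_inj_one W.par_t (W.phi_t.trans e)))
  have hne : q ≠ W.t := fun e => rq (congrArg Prod.snd (F.inj e))
  have huu := F.u_facts.1
  have huC : F.u ∈ C := hmem.2 W.u_t
  have huq : F.u * q * F.u = q * W.t := by
    rw [← W.phi_t, hq, ← W.phi_r, ← W.phi_u, ← W.phi_mul W.par_u, ← W.phi_mul (W.par_u.mul W.par_r), ← W.phi_mul W.par_r]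
    exact congrArg W.phi (Prod.ext trt (by simp [t5_sign.2]))
  have hcentF : ∀ x : G, x ∈ C → x * q = q * x → x ∈ W.G0 := fun x hx h => W.centF (hmem.1 hx) h
  -- the four-group is normalised only in the coordinates
  have hnormF : ∀ x : G, x ∈ C → (x * q = q * x ∨ q * x * q = x * W.t) → x ∈ W.G0 := by
    intro x hx hcase
    rcases hcase with h | h
    · exact hcentF x hx h
    · have e1 : q * x = x * W.t * q := by rw [← h, mul_assoc, hqq, mul_one]
      have h1 : F.u * x * q = q * (F.u * x) := by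
        have e2 : q * F.u = F.u * (q * W.t) := by
          rw [← huq, show F.u * (F.u * q * F.u) = (F.u * F.u) * q * F.u by group, huu, one_mul]
        calc F.u * x * q = F.u * (x * q * (W.t * W.t)) := by rw [htt, mul_one, mul_assoc]
          _ = F.u * (x * (q * W.t) * W.t) := by group
          _ = F.u * (x * (W.t * q) * W.t) := by rw [hqt]
          _ = F.u * ((x * W.t * q) * W.t) := by group
          _ = F.u * (q * (x * W.t)) := by rw [← e1, mul_assoc]
          _ = F.u * (q * (W.t * x)) := by rw [hmem.1 hx]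
          _ = (F.u * (q * W.t)) * x := by group
          _ = q * (F.u * x) := by rw [← e2, mul_assoc]
      have := mul_mem (W.cent_u (g := F.u) rfl) (hcentF _ (mul_mem huC hx) h1)
      rwa [← mul_assoc, huu, one_mul] at this
  have hiso : ∀ w ∈ C, (q * (w * q * w⁻¹) * q = w * q * w⁻¹ ∨ q * (w * q * w⁻¹) * q = w * q * w⁻¹ * W.t) →
      w * q * w⁻¹ = q ∨ w * q * w⁻¹ = q * W.t := by
    intro w hw hcase
    set x := w * q * w⁻¹ with hx
    have hxC : x ∈ C := mul_mem (mul_mem hw (hmem.2 hqt)) (inv_mem hw)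
    have hxG : x ∈ W.G0 := by
      refine hnormF x hxC (hcase.imp (fun h => ?_) id)
      calc x * q = q * x * q * q := by rw [h]
        _ = q * x := by rw [mul_assoc, hqq, mul_one]
    obtain ⟨p, hp, hpe, hp1⟩ := W.G0_comm_t hxG (hmem.1 hxC)
    have hxx : x * x = 1 := by rw [hx, show w * q * w⁻¹ * (w * q * w⁻¹) = w * (q * q) * w⁻¹ by group, hqq]; group
    have hpp : p * p = 1 := W.phi_inj_one (hp.mul hp) (by rw [W.phi_mul hp, hpe, hxx])
    -- `x` is conjugate to `t`
    obtain ⟨kq, hkq⟩ : ∃ kq : G, kq * W.t * kq⁻¹ = q := by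
      refine ⟨W.phi (kk, 1), ?_⟩
      rw [← W.phi_t, W.phi_conj (W.par_fst hks) W.par_t, hq, ← W.phi_r]
      exact congrArg W.phi (Prod.ext hk (by simp))
    have hsign : Equiv.Perm.sign p.1 = 1 := by
      by_contra hodd
      obtain ⟨k1, hk1, f1⟩ := conj_t5 _ hodd (congrArg Prod.fst hpp)
      obtain ⟨k2, hk2, f2⟩ := conj_t5 _ (fun h => hodd (hp.trans h)) (congrArg Prod.snd hpp)
      refine W.not_u_t (kq⁻¹ * w⁻¹ * W.phi (k1, k2)) ?_
      have e : W.phi (k1, k2) * F.u * (W.phi (k1, k2))⁻¹ = x := by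
        rw [← W.phi_u, W.phi_conj (par_even hk1 hk2) W.par_u, ← hpe]
        exact congrArg W.phi (Prod.ext f1 f2)
      rw [show kq⁻¹ * w⁻¹ * W.phi (k1, k2) * F.u * (kq⁻¹ * w⁻¹ * W.phi (k1, k2))⁻¹ =
        kq⁻¹ * w⁻¹ * (W.phi (k1, k2) * F.u * (W.phi (k1, k2))⁻¹) * w * kq by group, e, hx, ← hkq]
      group
    have hp1F := (cent_q _ hp1).2 hsign
    by_cases hp2 : p.2 = 1
    · have hxf : x = W.phi (p.1, 1) := by rw [← hpe, ← hp2]
      simp only [f4, List.mem_cons, List.not_mem_nil, or_false] at hp1F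
      rcases hp1F with e | e | e | e
      · exfalso
        rw [e, show ((1 : P5), (1 : P5)) = (1 : P55) from rfl, W.phi_one] at hxf
        exact hq1 (conj_one hxf)
      · exfalso
        rw [e, W.phi_t, hx] at hxf
        refine hne ?_
        calc q = w⁻¹ * (w * q * w⁻¹) * w := by group
          _ = w⁻¹ * (W.t * w) := by rw [hxf, mul_assoc]
          _ = W.t := by rw [← hmem.1 hw, inv_mul_cancel_left]
      · exact Or.inl (by rw [hxf, e, W.phi_r])
      · refine Or.inr ?_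
        rw [hxf, e, ← rqc, show ((r5 * q5, 1) : P55) = (r5, 1) * (q5, 1) from Prod.ext rfl (by simp), W.phi_mul W.par_r,
          W.phi_r, W.phi_t]
    · exfalso
      obtain ⟨k2, hk2, f2⟩ := conj_q5 p.2 (hp.symm.trans hsign) (congrArg Prod.snd hpp) hp2
      by_cases hp1' : p.1 = 1
      · -- an element of order four centralising two involutions
        set h := (W.phi (1, k2))⁻¹ * w with hh
        have hkp := W.par_snd hk2
        have hha : h * q * h⁻¹ = F.a := by
          rw [hh, show (W.phi (1, k2))⁻¹ * w * q * ((W.phi (1, k2))⁻¹ * w)⁻¹ =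
            (W.phi (1, k2))⁻¹ * x * W.phi (1, k2) by rw [hx]; group, ← hpe,
            show p = (1, k2) * (1, q5) * (1, k2)⁻¹ from Prod.ext (by simp [hp1']) f2.symm,
            ← W.phi_conj hkp W.par_a, W.phi_a]
          group
        have hht : Commute h W.t := by
          refine Commute.mul_left (Commute.inv_left ?_) (hmem.1 hw)
          rw [← W.phi_t]; exact (W.phi_comm hkp W.par_t).2 (Prod.ext (by simp) (by simp))
        set v := W.phi (t5 * r5, t5) with hv
        have hvp : Par ((t5 * r5, t5) : P55) := by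
          show Equiv.Perm.sign (t5 * r5) = _
          rw [map_mul, rs, mul_one]
        set v' := h⁻¹ * v * h with hv'
        have hvt : Commute v' W.t := by
          have h1 : Commute v W.t := by
            rw [hv, ← W.phi_t]; exact (W.phi_comm hvp W.par_t).2 (Prod.ext trq (by simp))
          have h2 := commute_conj (g := h⁻¹) h1
          rwa [inv_inv, show h⁻¹ * W.t * h = W.t by rw [mul_assoc, ← hht.eq, inv_mul_cancel_left]] at h2
        have hvq : Commute v' q := by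
          have h1 : Commute v F.a := by
            rw [hv, ← W.phi_a]; exact (W.phi_comm hvp W.par_a).2 (Prod.ext (by simp) tq)
          have h2 := commute_conj (g := h⁻¹) h1
          rwa [inv_inv, show h⁻¹ * F.a * h = q by rw [← hha]; group] at h2
        have hv2 : v * v = W.t := by
          rw [hv, ← W.phi_mul hvp, ← W.phi_t]
          exact congrArg W.phi (Prod.ext
            (by show t5 * r5 * (t5 * r5) = q5; rw [show t5 * r5 * (t5 * r5) = t5 * r5 * t5 * r5 by group, trtr])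
            t5_sign.2)
        obtain ⟨c, hc, hce, hc1⟩ := W.G0_comm_t (W.centF hvt.eq hvq.eq) hvt.eq
        have hcq : c * (r5, 1) = (r5, 1) * c := (W.phi_comm hc W.par_r).1 (by rw [hce, W.phi_r]; exact hvq.eq)
        have hc1F := cent_qr _ hc1 (congrArg Prod.fst hcq)
        have hv2' : v' * v' = W.t := by
          rw [hv', show h⁻¹ * v * h * (h⁻¹ * v * h) = h⁻¹ * (v * v) * h by group, hv2, mul_assoc, ← hht.eq,
            inv_mul_cancel_left]
        have hc4 : c ^ 4 = 1 := W.phi_inj_one (by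
            show Par (c ^ (2 + 2))
            rw [pow_add, pow_two]; exact (hc.mul hc).mul (hc.mul hc))
          (by rw [← W.phi_pow hc, hce, show v' ^ 4 = (v' * v') * (v' * v') by
            rw [← pow_two, ← pow_two, ← pow_mul], hv2', htt])
        have hc2 : c * c = 1 := Prod.ext (f4_facts _ hc1F).2.1
          (even_four c.2 (hc.symm.trans (f4_facts _ hc1F).1) (congrArg Prod.snd hc4))
        refine ht1 ?_
        rw [← hv2', ← hce, ← W.phi_mul hc, hc2, W.phi_one]
      · obtain ⟨k1, hk1, f1⟩ := conj_q5 p.1 hsign (congrArg Prod.fst hpp) hp1'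
        refine W.not_s_t (kq⁻¹ * w⁻¹ * W.phi (k1, k2)) ?_
        have e : W.phi (k1, k2) * W.phi (q5, q5) * (W.phi (k1, k2))⁻¹ = x := by
          rw [W.phi_conj (par_even hk1 hk2) rfl, ← hpe]
          exact congrArg W.phi (Prod.ext f1 f2)
        rw [show kq⁻¹ * w⁻¹ * W.phi (k1, k2) * W.phi (q5, q5) * (kq⁻¹ * w⁻¹ * W.phi (k1, k2))⁻¹ =
          kq⁻¹ * w⁻¹ * (W.phi (k1, k2) * W.phi (q5, q5) * (W.phi (k1, k2))⁻¹) * w * kq by group, e, hx, ← hkq]
        group
  have hot : orderOf W.t = 2 := orderOf_eq_prime (by rw [pow_two, htt]) ht1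
  have hoq : orderOf q = 2 := orderOf_eq_prime (by rw [pow_two, hqq]) hq1
  obtain ⟨O, hOC, hOodd, hOn, hOc⟩ :=
    exists_core_mod C (hmem.2 rfl) hot (hmem.2 hqt) hoq hne (fun x hx => hmem.1 hx) hiso
  -- the core meets the coordinates trivially
  have hG : ∀ n ∈ O, n ∈ W.G0 → n = 1 := by
    intro n hn hnG
    obtain ⟨p, hp, hpe, hp1⟩ := W.G0_comm_t hnG (hmem.1 (hOC hn))
    have hodd : Odd (orderOf n) := hOodd.of_dvd_nat (Subgroup.orderOf_dvd_natCard O hn)
    have hone : p.1 = 1 := by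
      have h4 : orderOf p.1 ∣ 4 := orderOf_dvd_of_pow_eq_one (cent_q _ hp1).1
      have hm : p ^ orderOf n = 1 := W.phi_inj_one (p := p ^ orderOf n) (by
          show Equiv.Perm.sign (p.1 ^ _) = Equiv.Perm.sign (p.2 ^ _)
          rw [map_pow, map_pow, hp])
        (by rw [← W.phi_pow hp, hpe, pow_orderOf_eq_one])
      have hd : orderOf p.1 ∣ orderOf n := orderOf_dvd_of_pow_eq_one (congrArg Prod.fst hm)
      exact orderOf_eq_one_iff.1 (Nat.eq_one_of_dvd_coprimes
        (show Nat.Coprime 4 (orderOf n) from (Nat.coprime_two_left.2 hodd).pow_left 2) h4 hd)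
    let g : alternatingGroup (Fin 5) →* G :=
      { toFun := fun y => W.phi (1, (y : P5))
        map_one' := W.phi_one
        map_mul' := fun y y' => by
          rw [← W.phi_mul (W.par_snd y.2)]; exact congrArg W.phi (Prod.ext (by simp) rfl) }
    have hgC : ∀ y, g y ∈ C := fun y => hmem.2 (by
      show W.phi (1, (y : P5)) * W.t = W.t * W.phi (1, (y : P5))
      rw [← W.phi_t, W.phi_comm (W.par_snd y.2) W.par_t]; exact Prod.ext (by simp) (by simp))
    haveI hnorm : (O.comap g).Normal := ⟨fun y hy k => by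
      show g (k * y * k⁻¹) ∈ O
      rw [map_mul, map_mul, map_inv]
      exact hOn _ (hgC k) _ hy⟩
    have hy2 : Equiv.Perm.sign p.2 = 1 := by rw [← hp, hone, map_one]
    have hyO : (⟨p.2, hy2⟩ : alternatingGroup (Fin 5)) ∈ O.comap g := by
      show W.phi (1, p.2) ∈ O
      rw [← hone, hpe]; exact hn
    rcases hnorm.eq_bot_or_eq_top with h | h
    · rw [h, Subgroup.mem_bot] at hyO
      rw [← hpe, show p = 1 from Prod.ext hone (congrArg Subtype.val hyO), W.phi_one]
    · exfalso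
      have ha : g ⟨q5, qs⟩ ∈ O := by
        show (⟨q5, qs⟩ : alternatingGroup (Fin 5)) ∈ O.comap g
        rw [h]; exact Subgroup.mem_top _
      have h2 : orderOf (g ⟨q5, qs⟩) = 2 := orderOf_eq_prime
        (by
          show W.phi (1, q5) ^ 2 = 1
          rw [W.phi_pow W.par_a, show ((1, q5) : P55) ^ 2 = 1 from Prod.ext (one_pow 2) (by rw [pow_two]; exact qq),
            W.phi_one])
        (fun e => q1 (congrArg Prod.snd (W.phi_inj_one W.par_a e)))
      exact (Nat.not_even_iff_odd.2 hOodd) (even_iff_two_dvd.2 (h2 ▸ Subgroup.orderOf_dvd_natCard O ha))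
  have hinv : ∀ n ∈ O, F.u * n * F.u⁻¹ = n⁻¹ := fun n hn =>
    inverts_of_no_fixed O huu (fun m hm => hOn _ huC m hm) (fun m hm hc => hG m hm (W.cent_u hc.symm.eq)) hn
  set k := W.phi (1, r5) with hk'
  have hkC : k ∈ C := hmem.2 (by
    rw [hk', ← W.phi_t, W.phi_comm W.par_r' W.par_t]; exact Prod.ext (by simp) (by simp))
  have hca : ∀ n ∈ O, Commute F.a n := by
    intro n hn
    have h2 : (k * F.u * k⁻¹) * n * (k * F.u * k⁻¹)⁻¹ = n⁻¹ := by
      have := hinv _ (hOn _ (inv_mem hkC) n hn)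
      rw [show k * F.u * k⁻¹ * n * (k * F.u * k⁻¹)⁻¹ = k * (F.u * (k⁻¹ * n * k⁻¹⁻¹) * F.u⁻¹) * k⁻¹ by group, this]
      group
    have := commute_of_inverted (hinv n hn) h2
    rwa [show F.u * (k * F.u * k⁻¹) = F.a by
      rw [hk', ← W.phi_u, W.phi_conj W.par_r' W.par_u, ← W.phi_mul W.par_u, ← W.phi_a]
      refine congrArg W.phi (Prod.ext (by simp [t5_sign.2]) ?_)
      show t5 * (r5 * t5 * r5⁻¹) = q5
      rw [inv_eq_of_mul_eq_one_right rr, show t5 * (r5 * t5 * r5) = t5 * r5 * t5 * r5 by group, trtr]] at this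
  have hO1 : ∀ n ∈ O, n = 1 := by
    intro n hn
    refine hG n hn (W.centF' (hca n hn).symm.eq ?_)
    set kq := W.phi (1, kk) with hkq
    have hkp := W.par_snd hks
    have hkqC : kq ∈ C := hmem.2 (by
      rw [hkq, ← W.phi_t, W.phi_comm hkp W.par_t]; exact Prod.ext (by simp) (by simp))
    have h1 := commute_conj (g := kq) (hca _ (hOn _ (inv_mem hkqC) n hn))
    rw [show kq * F.a * kq⁻¹ = W.phi (1, r5) by
        rw [hkq, ← W.phi_a, W.phi_conj hkp W.par_a]; exact congrArg W.phi (Prod.ext (by simp) hk),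
      show kq * (kq⁻¹ * n * kq⁻¹⁻¹) * kq⁻¹ = n by group] at h1
    exact h1.symm.eq
  obtain ⟨o, ho, e | e⟩ := hOc g (hmem.2 hg)
  · rw [hO1 o ho] at e
    exact hnormF g (hmem.2 hg) (Or.inl (mul_inv_eq_iff_eq_mul.1 (mul_inv_eq_one.1 e)).symm)
  · rw [hO1 o ho, one_mul] at e
    refine hnormF g (hmem.2 hg) (Or.inr ?_)
    rw [hg, ← e, inv_eq_of_mul_eq_one_right hqq]
    group

end Wr

end Cfsg.Agent.Invol.S8Three
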